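import Mathlib
import Cfsg.Agent.Lib.Helper48.CoprimeGen

set_option autoImplicit false

namespace Cfsg.Agent.Lib.Helper31

open Subgroup Cfsg.Agent.Lib.Helper48

universe u

variable {G : Type u} [Group G] [Finite G] {p : ℕ} [hp : Fact p.Prime]

/-- coprime generation for a subgroup normalized by two commuting elements of order dividing `p` -/
theorem coprime_gen_of_normalizer (K : Subgroup G) (a b : G)
    (haK : a ∈ normalizer (K : Set G)) (hbK : b ∈ normalizer (K : Set G))
    (ha : a ^ p = 1) (hb : b ^ p = 1) (hab : a * b = b * a) (hK : ¬ p ∣ Nat.card K) :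
    K ≤ genSub K a b := by
  have hKG₁ : K ≤ normalizer (K : Set G) := le_normalizer
  have hKn : (K.subgroupOf (normalizer (K : Set G))).Normal := normal_in_normalizer
  have hcard : Nat.card (K.subgroupOf (normalizer (K : Set G))) = Nat.card K :=
    Nat.card_congr (subgroupOfEquivOfLe hKG₁).toEquiv
  have h1 := coprime_gen (K.subgroupOf (normalizer (K : Set G)))
    (⟨a, haK⟩ : normalizer (K : Set G)) ⟨b, hbK⟩
    (Subtype.ext (by simpa using ha)) (Subtype.ext (by simpa using hb))
    (Subtype.ext (by simpa using hab)) (by rw [hcard]; exact hK)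
  exact genSub_transfer_subgroup _ K a b haK hbK hKG₁ h1

omit [Finite G] in
theorem mem_zpowers_pow_of_prime {b : G} (hb : b ^ p = 1) {n : ℕ} (hn : b ^ n ≠ 1) :
    b ∈ zpowers (b ^ n) := by
  have hb1 : b ≠ 1 := by
    rintro rfl
    simp at hn
  have hbo : orderOf b = p := orderOf_eq_prime hb hb1
  have hnp : ¬ p ∣ n := by
    intro h
    apply hn
    rw [← hbo] at h
    exact orderOf_dvd_iff_pow_eq_one.mp h
  have hcop : Nat.Coprime n (orderOf b) := by
    rw [hbo]; exact ((Nat.Prime.coprime_iff_not_dvd hp.out).mpr hnp).symm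
  obtain ⟨m, this⟩ := exists_pow_eq_self_of_coprime hcop
  have h2 : (b ^ n) ^ m ∈ zpowers (b ^ n) := Subgroup.pow_mem _ (mem_zpowers (b ^ n)) m
  rwa [this] at h2

omit [Finite G] hp in
theorem mem_normalizer_inf' {A B : Subgroup G} {k : G} (h1 : k ∈ normalizer (A : Set G))
    (h2 : k ∈ normalizer (B : Set G)) : k ∈ normalizer ((A ⊓ B : Subgroup G) : Set G) := by
  rw [mem_normalizer_iff] at *
  intro x
  rw [mem_inf, mem_inf, ← h1 x, ← h2 x]

omit [Finite G] hp in
theorem mem_normalizer_centralizer_of_commute {D : Subgroup G} {e : G}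
    (he : ∀ d ∈ D, e * d = d * e) : e ∈ normalizer (centralizer (D : Set G) : Set G) := by
  have key : ∀ e : G, (∀ d ∈ D, e * d = d * e) → ∀ c ∈ centralizer (D : Set G),
      e * c * e⁻¹ ∈ centralizer (D : Set G) := by
    intro e he c hc
    rw [mem_centralizer_iff]
    intro d hd
    have h1 := mem_centralizer_iff.mp hc d hd
    have h2 := he d hd
    have h3 : e⁻¹ * d = d * e⁻¹ := by
      have : d = e⁻¹ * d * e := by rw [mul_assoc, ← h2, inv_mul_cancel_left]
      calc e⁻¹ * d = e⁻¹ * d * e * e⁻¹ := by group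
        _ = d * e⁻¹ := by rw [← this]
    calc d * (e * c * e⁻¹) = (d * e) * c * e⁻¹ := by group
      _ = e * (d * c) * e⁻¹ := by rw [← h2]; group
      _ = e * (c * d) * e⁻¹ := by rw [h1]
      _ = e * c * (d * e⁻¹) := by group
      _ = e * c * (e⁻¹ * d) := by rw [h3]
      _ = e * c * e⁻¹ * d := by group
  rw [mem_normalizer_iff]
  intro c
  constructor
  · exact key e he c
  · intro h
    have he' : ∀ d ∈ D, e⁻¹ * d = d * e⁻¹ := by
      intro d hd
      have h2 := he d hd
      have : d = e⁻¹ * d * e := by rw [mul_assoc, ← h2, inv_mul_cancel_left]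
      calc e⁻¹ * d = e⁻¹ * d * e * e⁻¹ := by group
        _ = d * e⁻¹ := by rw [← this]
    have := key e⁻¹ he' _ h
    simpa [mul_assoc] using this

theorem gen_step {E Y D : Subgroup G} (hEc : ∀ x ∈ E, ∀ y ∈ E, x * y = y * x)
    (hEp : ∀ x ∈ E, x ^ p = 1) (hEY : E ≤ normalizer (Y : Set G)) (hY : ¬ p ∣ Nat.card Y)
    (hDE : D ≤ E) {j : ℕ} (hD : Nat.card D = p ^ j) (hE : p ^ (j + 2) ≤ Nat.card E) :
    Y ⊓ centralizer (D : Set G) ≤
      ⨆ D' : {D' : Subgroup G // D' ≤ E ∧ p ^ (j + 1) ≤ Nat.card D'},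
        Y ⊓ centralizer ((D' : Subgroup G) : Set G) := by
  have hEpg : IsPGroup p E := fun x => ⟨1, by
    apply Subtype.ext
    simpa using hEp x x.2⟩
  obtain ⟨m, hm⟩ := IsPGroup.iff_card.mp hEpg
  have hjm : j + 2 ≤ m := by
    rw [hm] at hE
    exact (Nat.pow_le_pow_iff_right hp.out.one_lt).mp hE
  have hD' : Nat.card (D.subgroupOf E) = p ^ j := by
    rw [← hD]; exact Nat.card_congr (subgroupOfEquivOfLe hDE).toEquiv
  obtain ⟨K1, hK1c, hK1⟩ := Sylow.exists_subgroup_card_pow_prime_le p (n := j) (m := j + 1)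
    (by rw [hm]; exact pow_dvd_pow p (by omega)) (D.subgroupOf E) hD' (by omega)
  obtain ⟨K2, hK2c, hK2⟩ := Sylow.exists_subgroup_card_pow_prime_le p (n := j + 1) (m := j + 2)
    (by rw [hm]; exact pow_dvd_pow p hjm) K1 hK1c (by omega)
  obtain ⟨a', ha'K1, ha'D⟩ : ∃ a' ∈ K1, a' ∉ D.subgroupOf E := by
    by_contra hcon
    push Not at hcon
    have hle : K1 ≤ D.subgroupOf E := hcon
    have := Subgroup.card_le_of_le hle
    rw [hK1c, hD'] at this
    exact absurd this (not_le.mpr (Nat.pow_lt_pow_right hp.out.one_lt (by omega)))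
  obtain ⟨b', hb'K2, hb'K1⟩ : ∃ b' ∈ K2, b' ∉ K1 := by
    by_contra hcon
    push Not at hcon
    have hle : K2 ≤ K1 := hcon
    have := Subgroup.card_le_of_le hle
    rw [hK1c, hK2c] at this
    exact absurd this (not_le.mpr (Nat.pow_lt_pow_right hp.out.one_lt (by omega)))
  have haE : (a' : G) ∈ E := a'.2
  have hbE : (b' : G) ∈ E := b'.2
  have haD : (a' : G) ∉ D := fun h => ha'D (mem_subgroupOf.mpr h)
  have hK : ¬ p ∣ Nat.card ↥(Y ⊓ centralizer (D : Set G)) :=
    fun h => hY (h.trans (Subgroup.card_dvd_of_le inf_le_left))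
  have hEK : E ≤ normalizer ((Y ⊓ centralizer (D : Set G) : Subgroup G) : Set G) := by
    intro e he
    exact mem_normalizer_inf' (hEY he)
      (mem_normalizer_centralizer_of_commute (fun d hd => hEc e he d (hDE hd)))
  have hgen := coprime_gen_of_normalizer (Y ⊓ centralizer (D : Set G)) (a' : G) (b' : G)
    (hEK haE) (hEK hbE) (hEp _ haE) (hEp _ hbE) (hEc _ haE _ hbE) hK
  refine hgen.trans ?_
  unfold genSub
  apply iSup₂_le
  intro c hc
  have hcE : c ∈ E := by
    rcases hc with rfl | ⟨n, rfl⟩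
    · exact hbE
    · exact E.mul_mem haE (E.pow_mem hbE n)
  have hcD : c ∉ D := by
    rcases hc with rfl | ⟨n, rfl⟩
    · intro h; exact hb'K1 (hK1 (mem_subgroupOf.mpr h))
    · intro h
      by_cases hbn : (b' : G) ^ n = 1
      · rw [hbn, mul_one] at h; exact haD h
      · have h1 : (b' : G) ∈ zpowers ((b' : G) ^ n) :=
          mem_zpowers_pow_of_prime (hEp _ hbE) hbn
        have h2 : b' ^ n ∈ K1 := by
          have h3 : a'⁻¹ * (a' * b' ^ n) ∈ K1 :=
            K1.mul_mem (K1.inv_mem ha'K1) (hK1 (mem_subgroupOf.mpr (by simpa using h)))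
          simpa using h3
        obtain ⟨i, hi⟩ := mem_zpowers_iff.mp h1
        have : b' = (b' ^ n) ^ i := Subtype.ext (by simpa using hi.symm)
        exact hb'K1 (this ▸ K1.zpow_mem h2 i)
  refine le_trans ?_ (le_iSup (fun D' : {D' : Subgroup G // D' ≤ E ∧ p ^ (j + 1) ≤ Nat.card D'} =>
    Y ⊓ centralizer ((D' : Subgroup G) : Set G))
    ⟨D ⊔ zpowers c, sup_le hDE (zpowers_le.mpr hcE), ?_⟩)
  · intro y hy
    obtain ⟨hy1, hy2⟩ := mem_inf.mp hy
    obtain ⟨hyY, hyD⟩ := mem_inf.mp hy1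
    refine mem_inf.mpr ⟨hyY, ?_⟩
    have hle : D ⊔ zpowers c ≤ centralizer ({y} : Set G) := by
      apply sup_le
      · intro d hd
        rw [mem_centralizer_singleton_iff]
        exact mem_centralizer_iff.mp hyD d hd
      · rw [zpowers_le, mem_centralizer_singleton_iff]
        exact (mem_centralizer_singleton_iff.mp hy2).symm
    rw [mem_centralizer_iff]
    intro h hh
    exact mem_centralizer_singleton_iff.mp (hle hh)
  · have hne : D ≠ D ⊔ zpowers c := fun h =>
      hcD (h ▸ (le_sup_right : zpowers c ≤ D ⊔ zpowers c) (mem_zpowers c))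
    have hD'pg : IsPGroup p ↥(D ⊔ zpowers c) := hEpg.to_le (sup_le hDE (zpowers_le.mpr hcE))
    obtain ⟨i, hi⟩ := IsPGroup.iff_card.mp hD'pg
    have hcardlt : Nat.card D < Nat.card ↥(D ⊔ zpowers c) := by
      by_contra hcon
      exact hne (Subgroup.eq_of_le_of_card_ge le_sup_left (not_lt.mp hcon))
    rw [hD, hi] at hcardlt
    have hji : j < i := (Nat.pow_lt_pow_iff_right hp.out.one_lt).mp hcardlt
    show p ^ (j + 1) ≤ Nat.card ↥(D ⊔ zpowers c)
    rw [hi]; exact Nat.pow_le_pow_right hp.out.pos hji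

/-- An elementary abelian `p`-group `E` of order at least `p ^ (j + 1)` acting on a `p'`-group `Y`:
`Y` is generated by the centralizers in `Y` of the subgroups of `E` of order at least `p ^ j`. -/
theorem gen_rank {E Y : Subgroup G} (hEc : ∀ x ∈ E, ∀ y ∈ E, x * y = y * x)
    (hEp : ∀ x ∈ E, x ^ p = 1) (hEY : E ≤ normalizer (Y : Set G)) (hY : ¬ p ∣ Nat.card Y) :
    ∀ j : ℕ, p ^ (j + 1) ≤ Nat.card E →
      Y ≤ ⨆ D : {D : Subgroup G // D ≤ E ∧ p ^ j ≤ Nat.card D},
        Y ⊓ centralizer ((D : Subgroup G) : Set G) := by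
  intro j
  induction j with
  | zero =>
    intro _
    refine le_trans ?_ (le_iSup (fun D : {D : Subgroup G // D ≤ E ∧ p ^ 0 ≤ Nat.card D} =>
      Y ⊓ centralizer ((D : Subgroup G) : Set G)) ⟨⊥, bot_le, by simp⟩)
    intro y hy
    refine mem_inf.mpr ⟨hy, ?_⟩
    rw [mem_centralizer_iff]
    intro h hh
    have : h = 1 := by simpa using hh
    rw [this]; simp
  | succ j ih =>
    intro hE
    have hE' : p ^ (j + 1) ≤ Nat.card E :=
      le_trans (Nat.pow_le_pow_right hp.out.pos (by omega)) hE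
    refine (ih hE').trans (iSup_le ?_)
    rintro ⟨D, hDE, hDj⟩
    have hEpg : IsPGroup p E := fun x => ⟨1, by
      apply Subtype.ext
      simpa using hEp x x.2⟩
    obtain ⟨i, hi⟩ := IsPGroup.iff_card.mp (hEpg.to_le hDE)
    by_cases hij : j + 1 ≤ i
    · exact le_iSup (fun D : {D : Subgroup G // D ≤ E ∧ p ^ (j + 1) ≤ Nat.card D} =>
        Y ⊓ centralizer ((D : Subgroup G) : Set G))
        ⟨D, hDE, by rw [hi]; exact Nat.pow_le_pow_right hp.out.pos hij⟩
    · have hji : i = j := by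
        have : j ≤ i := by
          rw [hi] at hDj; exact (Nat.pow_le_pow_iff_right hp.out.one_lt).mp hDj
        omega
      subst hji
      exact gen_step hEc hEp hEY hY hDE hi hE

end Cfsg.Agent.Lib.Helper31
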