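import Cfsg.Agent.Lib.Helper84.OmegaAut
import Cfsg.Agent.Lib.Helper87.Inner

/-!
If every map of a saturated fusion system `F` over `S` between cyclic subgroups of order `p` or `4`
of the hyperfocal subgroup is conjugation by an element of `S`, then `F` is the inner system.

Key step: a `p'`-element `a` of `Aut_F(R)` fixes every element `y` of order `p` (or dividing `4`)
of `[R, a]` lying in `Z_i(S)`, by induction on `i`: all `a^j y` are `S`-conjugates of `y`, so
congruent to `y` modulo `Z_{i-1}(S)`.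
-/

set_option autoImplicit false

namespace Cfsg.Agent.Lib.Helper31.SCI

open Cfsg Cfsg.FusionSystem
open scoped commutatorElement

variable {Ω : Type*} [Group Ω] {S : Subgroup Ω}

/-- if `c = x⁻¹ a(x)` is fixed by the `p'`-automorphism `a` of a `p`-group then `a x = x`. -/
theorem fix_of_comm_fixed {R : Type*} [Group R] [Finite R] {p : ℕ} [Fact p.Prime]
    (hR : IsPGroup p R) (a : MulAut R) (hcop : (orderOf a).Coprime p) (x : R)
    (hc : a (x⁻¹ * a x) = x⁻¹ * a x) : a x = x := by
  set c : R := x⁻¹ * a x with hcdef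
  have hpow : ∀ n : ℕ, (a ^ n) x = x * c ^ n := by
    intro n
    induction n with
    | zero => simp
    | succ n ih =>
      rw [pow_succ', MulAut.mul_apply, ih, map_mul, map_pow, hc, pow_succ']
      have : a x = x * c := by rw [hcdef]; group
      rw [this, mul_assoc]
  have h1 := hpow (orderOf a)
  rw [pow_orderOf_eq_one, MulAut.one_apply] at h1
  have hcn : c ^ orderOf a = 1 := by
    have : x * c ^ orderOf a = x * 1 := by rw [mul_one]; exact h1.symm
    exact mul_left_cancel this
  obtain ⟨k, hk⟩ := hR c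
  have hg : c ^ (Nat.gcd (orderOf a) (p ^ k)) = 1 := pow_gcd_eq_one.mpr ⟨hcn, hk⟩
  have hco : Nat.gcd (orderOf a) (p ^ k) = 1 := Nat.Coprime.pow_right k hcop
  rw [hco, pow_one] at hg
  have : x⁻¹ * a x = 1 := hg
  exact (inv_mul_eq_one.mp this).symm


variable {p : ℕ} [Fact p.Prime]

/-- under the hypothesis, an `F`-automorphism `b` of `R` sends a small hyperfocal element to an
`S`-conjugate. -/
theorem exists_conj_of_small (F : FusionSystem S)
    (h : ∀ A B : Subgroup Ω, A ≤ (F.hyperfocalSubgroup p) → B ≤ (F.hyperfocalSubgroup p) →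
      IsCyclic ↥A → (Nat.card ↥A = p ∨ Nat.card ↥A = 4) → IsCyclic ↥B →
      (Nat.card ↥B = p ∨ Nat.card ↥B = 4) →
      F.homSet A B ⊆ (Cfsg.innerFusionSystem S).Hom A)
    {R : Subgroup Ω} (hR : R ≤ S) {b : MulAut R} (hbF : b ∈ F.autGroup R) {y : R} (hy1 : y ≠ 1)
    (hysmall : y ^ p = 1 ∨ (p = 2 ∧ y ^ 4 = 1))
    (hyH : (y : Ω) ∈ F.hyperfocalSubgroup p) (hbyH : ((b y : R) : Ω) ∈ F.hyperfocalSubgroup p) :
    ∃ g ∈ S, ((b y : R) : Ω) = g * (y : Ω) * g⁻¹ := by
  have hord : orderOf y = p ∨ orderOf y = 4 := by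
    rcases hysmall with h1 | ⟨h2, h4⟩
    · left; exact orderOf_eq_prime h1 hy1
    · have hdvd : orderOf y ∣ 2 ^ 2 := by
        apply orderOf_dvd_of_pow_eq_one
        norm_num
        exact h4
      obtain ⟨k, hk, hk2⟩ := (Nat.dvd_prime_pow Nat.prime_two).1 hdvd
      interval_cases k
      · exfalso
        rw [pow_zero, orderOf_eq_one_iff] at hk2
        exact hy1 hk2
      · left; rw [hk2, h2]; rfl
      · right; rw [hk2]; rfl
  set A₀ : Subgroup Ω := Subgroup.zpowers (y : Ω) with hA₀
  set B₀ : Subgroup Ω := Subgroup.zpowers ((b y : R) : Ω) with hB₀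
  have hA₀R : A₀ ≤ R := (Subgroup.zpowers_le).2 y.2
  set ψ : A₀ →* Ω := (R.subtype.comp b.toMonoidHom).comp (Subgroup.inclusion hA₀R) with hψdef
  have hψ : ψ ∈ F.Hom A₀ :=
    Cfsg.Agent.Lib.Helper87.restrict_mem F
      ((Cfsg.Agent.Lib.Helper87.mem_autGroup_iff F hR b).1 hbF) hA₀R
  have hψB : ∀ x : A₀, ψ x ∈ B₀ := by
    intro x
    obtain ⟨n, hn⟩ := Subgroup.mem_zpowers_iff.1 x.2
    have hx : Subgroup.inclusion hA₀R x = y ^ n := by
      apply Subtype.ext
      rw [Subgroup.coe_inclusion, Subgroup.coe_zpow]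
      exact hn.symm
    show ((b (Subgroup.inclusion hA₀R x) : R) : Ω) ∈ B₀
    rw [hx, map_zpow, Subgroup.coe_zpow]
    exact Subgroup.zpow_mem _ (Subgroup.mem_zpowers _) n
  have hcardA : Nat.card A₀ = p ∨ Nat.card A₀ = 4 := by
    rw [hA₀, Nat.card_zpowers, Subgroup.orderOf_coe]
    exact hord
  have hcardB : Nat.card B₀ = p ∨ Nat.card B₀ = 4 := by
    rw [hB₀, Nat.card_zpowers, Subgroup.orderOf_coe]
    have : orderOf (b y) = orderOf y := MulEquiv.orderOf_eq b y
    rw [this]
    exact hord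
  have hAH : A₀ ≤ F.hyperfocalSubgroup p := (Subgroup.zpowers_le).2 hyH
  have hBH : B₀ ≤ F.hyperfocalSubgroup p := (Subgroup.zpowers_le).2 hbyH
  have hin := h A₀ B₀ hAH hBH (Subgroup.isCyclic_zpowers _) hcardA (Subgroup.isCyclic_zpowers _)
    hcardB ⟨hψ, hψB⟩
  obtain ⟨-, g, hg, hgx⟩ := hin
  refine ⟨g, hg, ?_⟩
  have := hgx ⟨(y : Ω), Subgroup.mem_zpowers _⟩
  exact this


variable [Finite S]

/-- **Key lemma**: under the hypothesis, an element of `Aut_F(R)` of order prime to `p` is
trivial. -/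
theorem aut_eq_one_of_coprime (hS : IsPGroup p S) (F : FusionSystem S)
    (h : ∀ A B : Subgroup Ω, A ≤ (F.hyperfocalSubgroup p) → B ≤ (F.hyperfocalSubgroup p) →
      IsCyclic ↥A → (Nat.card ↥A = p ∨ Nat.card ↥A = 4) → IsCyclic ↥B →
      (Nat.card ↥B = p ∨ Nat.card ↥B = 4) →
      F.homSet A B ⊆ (Cfsg.innerFusionSystem S).Hom A)
    {R : Subgroup Ω} (hR : R ≤ S) {a : MulAut R} (haF : a ∈ F.autGroup R)
    (hcop : (orderOf a).Coprime p) : a = 1 := by
  have hfinR : Finite R := Cfsg.Agent.Lib.Helper87.finite_of_le hR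
  have hRp : IsPGroup p R := hS.to_le hR
  apply Cfsg.Agent.Lib.Helper84.Om.aut_eq_one_of_fix_omega hRp a hcop
  set K : Subgroup R := Subgroup.closure {c : R | ∃ x : R, c = x⁻¹ * a x} with hKdef
  have hK : ∀ k ∈ K, a k ∈ K := by
    intro k hk
    induction hk using Subgroup.closure_induction with
    | mem c hc =>
      obtain ⟨x, rfl⟩ := hc
      refine Subgroup.subset_closure ⟨a x, ?_⟩
      rw [map_mul, map_inv]
    | one => rw [map_one]; exact one_mem _
    | mul a' b' _ _ ha hb => rw [map_mul]; exact mul_mem ha hb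
    | inv a' _ ha => rw [map_inv]; exact inv_mem ha
  have hKpow : ∀ n : ℕ, ∀ k ∈ K, (a ^ n) k ∈ K :=
    fun n => Cfsg.Agent.Lib.Helper84.Om.pow_apply_mem a K hK n
  have hKH : ∀ k ∈ K, (k : Ω) ∈ F.hyperfocalSubgroup p := by
    have hle : K ≤ (F.hyperfocalSubgroup p).comap R.subtype := by
      rw [hKdef, Subgroup.closure_le]
      rintro c ⟨x, rfl⟩
      show ((x⁻¹ * a x : R) : Ω) ∈ F.hyperfocalSubgroup p
      rw [Subgroup.coe_mul, Subgroup.coe_inv]
      unfold hyperfocalSubgroup
      refine Subgroup.subset_closure ⟨R, ⟨a, haF⟩, x, hR, ?_, rfl⟩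
      apply Subgroup.subset_closure
      show Nat.Coprime (orderOf (⟨a, haF⟩ : F.autGroup R)) p
      rw [Subgroup.orderOf_mk]
      exact hcop
    intro k hk
    exact hle hk
  have hnil : Group.IsNilpotent S := hS.isNilpotent
  obtain ⟨n, hn⟩ := Group.IsNilpotent.nilpotent S
  have claim : ∀ i : ℕ, ∀ y ∈ K, (y ^ p = 1 ∨ (p = 2 ∧ y ^ 4 = 1)) →
      (Subgroup.inclusion hR y) ∈ Subgroup.upperCentralSeries S i → a y = y := by
    intro i
    induction i with
    | zero =>
      intro y _ _ hyZ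
      rw [Subgroup.upperCentralSeries_zero, Subgroup.mem_bot] at hyZ
      have : y = 1 := by
        apply Subtype.ext
        have := congrArg (fun z : S => (z : Ω)) hyZ
        simpa using this
      rw [this, map_one]
    | succ i ih =>
      intro y hyK hysmall hyZ
      by_cases hy1 : y = 1
      · rw [hy1, map_one]
      set Zi : Subgroup R := (Subgroup.upperCentralSeries S i).comap (Subgroup.inclusion hR)
        with hZi
      have hZin : Zi.Normal :=
        (inferInstance : (Subgroup.upperCentralSeries S i).Normal).comap _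
      have hconj : ∀ j : ℕ, ((a ^ j) y) * y⁻¹ ∈ Zi := by
        intro j
        have hbF : a ^ j ∈ F.autGroup R := pow_mem haF j
        obtain ⟨g, hg, hgy⟩ := exists_conj_of_small F h hR hbF hy1 hysmall (hKH y hyK)
          (hKH _ (hKpow j y hyK))
        rw [hZi, Subgroup.mem_comap]
        have hcomm := (Subgroup.mem_upperCentralSeries_succ_iff.1 hyZ) ⟨g, hg⟩
        have e : Subgroup.inclusion hR ((a ^ j) y * y⁻¹) =
            (⁅Subgroup.inclusion hR y, (⟨g, hg⟩ : S)⁆)⁻¹ := by
          apply Subtype.ext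
          rw [commutatorElement_def]
          simp only [Subgroup.coe_inclusion, Subgroup.coe_mul, Subgroup.coe_inv, hgy, mul_inv_rev,
            inv_inv, mul_assoc]
        rw [e]
        exact inv_mem hcomm
      set A : Subgroup R := Subgroup.closure {x : R | ∃ j : ℕ, x = (a ^ j) y} with hAdef
      have hyA : y ∈ A := Subgroup.subset_closure ⟨0, by simp⟩
      have hAK : A ≤ K := by
        rw [hAdef, Subgroup.closure_le]
        rintro x ⟨j, rfl⟩
        exact hKpow j y hyK
      have hAinv : ∀ x ∈ A, a x ∈ A := by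
        intro x hx
        induction hx using Subgroup.closure_induction with
        | mem c hc =>
          obtain ⟨j, rfl⟩ := hc
          refine Subgroup.subset_closure ⟨j + 1, ?_⟩
          rw [pow_succ', MulAut.mul_apply]
        | one => rw [map_one]; exact one_mem _
        | mul a' b' _ _ ha hb => rw [map_mul]; exact mul_mem ha hb
        | inv a' _ ha => rw [map_inv]; exact inv_mem ha
      have hAcong : ∀ x ∈ A, x⁻¹ * a x ∈ Zi := by
        intro x hx
        induction hx using Subgroup.closure_induction with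
        | mem c hc =>
          obtain ⟨j, rfl⟩ := hc
          have h1 := hconj j
          have h2 := hconj (j + 1)
          have h3 : ((a ^ j) y * y⁻¹)⁻¹ * ((a ^ (j + 1)) y * y⁻¹) ∈ Zi :=
            Zi.mul_mem (Zi.inv_mem h1) h2
          have h4 := hZin.conj_mem _ h3 y⁻¹
          have e : ((a ^ j) y)⁻¹ * a ((a ^ j) y) =
              y⁻¹ * (((a ^ j) y * y⁻¹)⁻¹ * ((a ^ (j + 1)) y * y⁻¹)) * y⁻¹⁻¹ := by
            have : a ((a ^ j) y) = (a ^ (j + 1)) y := by
              rw [pow_succ', MulAut.mul_apply]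
            rw [this]
            group
          rw [e]
          exact h4
        | one => rw [map_one, inv_one, one_mul]; exact one_mem _
        | mul x w _ _ hx hw =>
          have h4 := hZin.conj_mem _ hx w⁻¹
          have e : (x * w)⁻¹ * a (x * w) = (w⁻¹ * (x⁻¹ * a x) * w⁻¹⁻¹) * (w⁻¹ * a w) := by
            rw [map_mul]; group
          rw [e]
          exact Zi.mul_mem h4 hw
        | inv x _ hx =>
          have h4 := hZin.conj_mem _ (Zi.inv_mem hx) x
          have e : (x⁻¹)⁻¹ * a x⁻¹ = x * (x⁻¹ * a x)⁻¹ * x⁻¹ := by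
            rw [map_inv]; group
          rw [e]
          exact h4
      set B : Subgroup R := A ⊓ Zi with hBdef
      have hBinv : ∀ x ∈ B, a x ∈ B := by
        intro x hx
        refine ⟨hAinv x hx.1, ?_⟩
        have : a x = x * (x⁻¹ * a x) := by group
        rw [this]
        exact Zi.mul_mem hx.2 (hAcong x hx.1)
      have hBfix : ∀ y' ∈ B, (y' ^ p = 1 ∨ (p = 2 ∧ y' ^ 4 = 1)) → a y' = y' :=
        fun y' hy' hs => ih y' (hAK hy'.1) hs hy'.2
      have hB := Cfsg.Agent.Lib.Helper84.Om.aut_fix_of_fix_omega hRp a hcop B hBinv hBfix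
      apply fix_of_comm_fixed hRp a hcop y
      apply hB
      exact ⟨A.mul_mem (A.inv_mem hyA) (hAinv y hyA), hAcong y hyA⟩
  intro y hyK hysmall
  exact claim n y hyK hysmall (by rw [hn]; trivial)


/-- under the hypothesis every `Aut_F(R)` is a `p`-group. -/
theorem isPGroup_autGroup (hS : IsPGroup p S) (F : FusionSystem S)
    (h : ∀ A B : Subgroup Ω, A ≤ (F.hyperfocalSubgroup p) → B ≤ (F.hyperfocalSubgroup p) →
      IsCyclic ↥A → (Nat.card ↥A = p ∨ Nat.card ↥A = 4) → IsCyclic ↥B →
      (Nat.card ↥B = p ∨ Nat.card ↥B = 4) →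
      F.homSet A B ⊆ (Cfsg.innerFusionSystem S).Hom A)
    {R : Subgroup Ω} (hR : R ≤ S) : IsPGroup p (F.autGroup R) := by
  have hfinR : Finite R := Cfsg.Agent.Lib.Helper87.finite_of_le hR
  intro a
  have hpos : orderOf a ≠ 0 := (isOfFinOrder_of_finite a).orderOf_pos.ne'
  obtain ⟨k, m, hm, hkm⟩ := Nat.exists_eq_pow_mul_and_not_dvd hpos p
    (Fact.out : p.Prime).ne_one
  refine ⟨k, ?_⟩
  set b := a ^ (p ^ k) with hb
  have hbord : orderOf b = m := by
    rw [hb, orderOf_pow' a (pow_ne_zero k (Fact.out : p.Prime).ne_zero), hkm,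
      Nat.gcd_eq_right (dvd_mul_right _ _), Nat.mul_div_cancel_left _
        (pow_pos (Fact.out : p.Prime).pos k)]
  have hcop : (orderOf ((b : F.autGroup R) : MulAut R)).Coprime p := by
    rw [Subgroup.orderOf_coe, hbord]
    exact ((Fact.out : p.Prime).coprime_iff_not_dvd.2 hm).symm
  have h1 := aut_eq_one_of_coprime hS F h hR (b : F.autGroup R).2 hcop
  apply Subtype.ext
  rw [h1]
  rfl

end Cfsg.Agent.Lib.Helper31.SCI
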