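import Cfsg.Agent.Lib.Helper31.PhiLike
import Cfsg.Agent.Lib.Helper31.SmallCyclicInner
import Cfsg.Agent.Lib.Helper87.OmegaAut
import Cfsg.Agent.Lib.Helper63.CoprimeOmegaTwo

/-!
A Hall–Higman type reduction.  Let `K` be a group of automorphisms of a finite `p`-group `R`,
`N ⊴ K`, `Q` a `K`-invariant subgroup containing `[R, b]` for all `p'`-elements `b ∈ N`, and
`Z 0 = ⊥ ≤ ... ≤ Z n = ⊤` a sequence of subgroups such that for every `K`-invariant subgroup
`M ≤ Q` all of whose elements have order `p` (or dividing `4` for `p = 2`) the elements of `N`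
stabilize the chain `M ∩ Z i`.  Then `N` has no nontrivial `p'`-elements.
-/

set_option autoImplicit false

namespace Cfsg.Agent.Lib.Helper31.CS

open scoped commutatorElement
open Cfsg.Agent.Lib.Helper31.Phi Cfsg.Agent.Lib.Helper31.SCI

variable {R : Type*} [Group R]

/-- the power map exponent: `4` for `p = 2`, else `p`. -/
def expo (p : ℕ) : ℕ := if p = 2 then 4 else p

theorem mul_pow_expo {p : ℕ} (hp : p.Prime) (M : Subgroup R)
    (hcen : ∀ m ∈ phiOf M p, ∀ x ∈ M, Commute m x) {x y : R} (hx : x ∈ M) (hy : y ∈ M) :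
    (x * y) ^ expo p = x ^ expo p * y ^ expo p := by
  have hc := comm_mem_phiOf (p := p) hy hx
  have h1 : Commute ⁅y, x⁆ x := hcen _ hc x hx
  have h2 : Commute ⁅y, x⁆ y := hcen _ hc y hy
  have h3 : Commute (y ^ p) x := hcen _ (pow_mem_phiOf hy) x hx
  unfold expo
  split_ifs with h
  · subst h
    exact Cfsg.Agent.Lib.Helper63.mul_pow_four_of_commute x y h1 h2 h3
  · exact Cfsg.Agent.Lib.Helper63.mul_pow_prime_of_commute hp h x y h1 h2 h3

theorem pow_expo_mem_phiOf {p : ℕ} {M : Subgroup R} {x : R} (hx : x ∈ M) :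
    x ^ expo p ∈ phiOf M p := by
  unfold expo
  split_ifs with h
  · subst h
    have : x ^ 4 = (x ^ 2) ^ 2 := by rw [← pow_mul]
    rw [this]
    exact Subgroup.pow_mem _ (pow_mem_phiOf hx) 2
  · exact pow_mem_phiOf hx

theorem small_of_pow_expo {p : ℕ} {x : R} (hx : x ^ expo p = 1) :
    x ^ p = 1 ∨ (p = 2 ∧ x ^ 4 = 1) := by
  unfold expo at hx
  split_ifs at hx with h
  · exact Or.inr ⟨h, hx⟩
  · exact Or.inl hx


/-- **Hall–Higman type reduction**: see the module doc-string. -/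
theorem pprime_trivial [Finite R] {p : ℕ} [Fact p.Prime] (hR : IsPGroup p R)
    (K N : Subgroup (MulAut R)) (hNK : N ≤ K)
    (hNnormal : ∀ g ∈ K, ∀ k ∈ N, g * k * g⁻¹ ∈ N)
    (Q : Subgroup R) (hQinv : ∀ g ∈ K, ∀ x ∈ Q, g x ∈ Q)
    (hQ : ∀ b ∈ N, (orderOf b).Coprime p → ∀ x : R, x⁻¹ * b x ∈ Q)
    (Z : ℕ → Subgroup R) (n : ℕ) (hZtop : Z n = ⊤) (hZbot : Z 0 = ⊥)
    (hstab : ∀ M : Subgroup R, M ≤ Q → (∀ g ∈ K, ∀ x ∈ M, g x ∈ M) →
      (∀ x ∈ M, x ^ p = 1 ∨ (p = 2 ∧ x ^ 4 = 1)) →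
      ∀ k ∈ N, ∀ i : ℕ, ∀ x ∈ M, x ∈ Z (i + 1) → x⁻¹ * k x ∈ Z i) :
    ∀ b ∈ N, (orderOf b).Coprime p → b = 1 := by
  classical
  have hp : p.Prime := Fact.out
  by_contra hcon
  push Not at hcon
  obtain ⟨b₀, hb₀N, hb₀c, hb₀1⟩ := hcon
  let Bad : Subgroup R → Prop := fun M => M ≤ Q ∧ (∀ g ∈ K, ∀ x ∈ M, g x ∈ M) ∧
    ∃ b ∈ N, (orderOf b).Coprime p ∧ ∃ x ∈ M, b x ≠ x
  have hQbad : Bad Q := by
    refine ⟨le_rfl, hQinv, b₀, hb₀N, hb₀c, ?_⟩
    by_contra hall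
    push Not at hall
    apply hb₀1
    ext x
    show b₀ x = x
    apply fix_of_comm_fixed hR b₀ hb₀c x
    exact hall _ (hQ b₀ hb₀N hb₀c x)
  -- a bad subgroup of minimal order
  have hex : ∃ m : ℕ, ∃ M : Subgroup R, Bad M ∧ Nat.card M = m := ⟨_, Q, hQbad, rfl⟩
  obtain ⟨M, hMbad, hMcard⟩ := Nat.find_spec hex
  have hMmin : ∀ M' : Subgroup R, Bad M' → Nat.card M ≤ Nat.card M' := by
    intro M' hM'
    rw [hMcard]
    exact Nat.find_min' hex ⟨M', hM', rfl⟩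
  obtain ⟨hMQ, hMinv, b₁, hb₁N, hb₁c, x₁, hx₁M, hx₁⟩ := hMbad
  have hmin' : ∀ M' : Subgroup R, M' ≤ M → (∀ g ∈ K, ∀ x ∈ M', g x ∈ M') → M' ≠ M →
      ∀ b ∈ N, (orderOf b).Coprime p → ∀ x ∈ M', b x = x := by
    intro M' hM'M hM'inv hne b hbN hbc x hx
    by_contra hbx
    have h1 := hMmin M' ⟨hM'M.trans hMQ, hM'inv, b, hbN, hbc, x, hx, hbx⟩
    have hlt : Nat.card M' < Nat.card M := by
      have hle := Subgroup.card_le_of_le hM'M
      rcases Nat.lt_or_ge (Nat.card M') (Nat.card M) with h | h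
      · exact h
      · exact absurd (Subgroup.eq_of_le_of_card_ge hM'M h) hne
    omega
  -- Step 2 : `[M, 𝔅] = M`
  set Mstar : Subgroup R := Subgroup.closure
    {c | ∃ x ∈ M, ∃ b ∈ N, (orderOf b).Coprime p ∧ c = x⁻¹ * b x} with hMstar
  have hMstar_le : Mstar ≤ M := by
    rw [hMstar, Subgroup.closure_le]
    rintro c ⟨x, hx, b, hbN, -, rfl⟩
    exact M.mul_mem (M.inv_mem hx) (hMinv b (hNK hbN) x hx)
  have hMstar_inv : ∀ g ∈ K, ∀ x ∈ Mstar, g x ∈ Mstar := by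
    intro g hg x hx
    induction hx using Subgroup.closure_induction with
    | mem c hc =>
      obtain ⟨x, hx, b, hbN, hbc, rfl⟩ := hc
      refine Subgroup.subset_closure ⟨g x, hMinv g hg x hx, g * b * g⁻¹, hNnormal g hg b hbN, ?_, ?_⟩
      · have : orderOf (g * b * g⁻¹) = orderOf b := by
          have := (MulAut.conj g).orderOf_eq b
          rwa [MulAut.conj_apply] at this
        rw [this]; exact hbc
      · rw [map_mul, map_inv]
        simp only [MulAut.mul_apply]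
        have : g⁻¹ (g x) = x := by
          show g.symm (g x) = x
          simp
        rw [this]
    | one => rw [map_one]; exact one_mem _
    | mul a b _ _ ha hb => rw [map_mul]; exact mul_mem ha hb
    | inv a _ ha => rw [map_inv]; exact inv_mem ha
  have hMstar_eq : Mstar = M := by
    by_contra hne
    have hfix := hmin' Mstar hMstar_le hMstar_inv hne
    apply hx₁
    apply fix_of_comm_fixed hR b₁ hb₁c x₁
    exact hfix b₁ hb₁N hb₁c _ (Subgroup.subset_closure ⟨x₁, hx₁M, b₁, hb₁N, hb₁c, rfl⟩)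
  -- Step 3 : proper invariant normal subgroups are central
  have hcentral : ∀ M' : Subgroup R, M' ≤ M → (∀ g ∈ K, ∀ x ∈ M', g x ∈ M') →
      (∀ x ∈ M, ∀ m ∈ M', x * m * x⁻¹ ∈ M') → M' ≠ M → ∀ m ∈ M', ∀ x ∈ M, Commute m x := by
    intro M' hM'M hM'inv hM'n hne m hm
    have hfix := hmin' M' hM'M hM'inv hne
    have hle : Mstar ≤ Subgroup.centralizer {m} := by
      rw [hMstar, Subgroup.closure_le]
      rintro c ⟨x, hx, b, hbN, hbc, rfl⟩
      have h1 : b (x * m * x⁻¹) = x * m * x⁻¹ := hfix b hbN hbc _ (hM'n x hx m hm)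
      have h2 : b m = m := hfix b hbN hbc m hm
      rw [map_mul, map_mul, map_inv, h2] at h1
      show x⁻¹ * b x ∈ Subgroup.centralizer {m}
      rw [Subgroup.mem_centralizer_iff]
      intro m' hm'
      rw [Set.mem_singleton_iff] at hm'
      subst hm'
      calc m' * (x⁻¹ * b x) = x⁻¹ * (x * m' * x⁻¹) * b x := by group
        _ = x⁻¹ * (b x * m' * (b x)⁻¹) * b x := by rw [h1]
        _ = x⁻¹ * b x * m' := by group
    intro x hx
    rw [← hMstar_eq] at hx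
    have := (Subgroup.mem_centralizer_iff.1 (hle hx)) m (Set.mem_singleton m)
    exact this
  -- Step 4 : the Frattini-like subgroup is central
  have hMp : IsPGroup p M := hR.to_subgroup M
  have hMne : M ≠ ⊥ := by
    rintro rfl
    rw [Subgroup.mem_bot] at hx₁M
    rw [hx₁M, map_one] at hx₁
    exact hx₁ rfl
  have hphi_cen : ∀ m ∈ phiOf M p, ∀ x ∈ M, Commute m x :=
    hcentral (phiOf M p) (phiOf_le M p)
      (fun g hg x hx => map_mem_phiOf g (hMinv g hg) x hx)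
      (fun x hx m hm => conj_mem_phiOf hx m hm) (phiOf_ne M hMp hMne)
  have hphi_fix := hmin' (phiOf M p) (phiOf_le M p)
      (fun g hg x hx => map_mem_phiOf g (hMinv g hg) x hx) (phiOf_ne M hMp hMne)
  -- Step 5 : every element of `M` is small
  let W : Subgroup R :=
    { carrier := {x | x ∈ M ∧ x ^ expo p = 1}
      one_mem' := ⟨M.one_mem, one_pow _⟩
      mul_mem' := by
        rintro x y ⟨hx, hx1⟩ ⟨hy, hy1⟩
        refine ⟨M.mul_mem hx hy, ?_⟩
        rw [mul_pow_expo hp M hphi_cen hx hy, hx1, hy1, one_mul]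
      inv_mem' := by
        rintro x ⟨hx, hx1⟩
        exact ⟨M.inv_mem hx, by rw [inv_pow, hx1, inv_one]⟩ }
  have hWM : W ≤ M := fun x hx => hx.1
  have hWinv : ∀ g ∈ K, ∀ x ∈ W, g x ∈ W := by
    rintro g hg x ⟨hx, hx1⟩
    exact ⟨hMinv g hg x hx, by rw [← map_pow, hx1, map_one]⟩
  have hWn : ∀ x ∈ M, ∀ m ∈ W, x * m * x⁻¹ ∈ W := by
    rintro x hx m ⟨hm, hm1⟩
    exact ⟨M.mul_mem (M.mul_mem hx hm) (M.inv_mem hx), by rw [conj_pow, hm1, mul_one, mul_inv_cancel]⟩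
  have hWeq : W = M := by
    by_contra hne
    have hfix := hmin' W hWM hWinv hne
    apply hx₁
    apply fix_of_comm_fixed hR b₁ hb₁c x₁
    apply hfix b₁ hb₁N hb₁c
    have hbx : b₁ x₁ ∈ M := hMinv b₁ (hNK hb₁N) x₁ hx₁M
    refine ⟨M.mul_mem (M.inv_mem hx₁M) hbx, ?_⟩
    rw [mul_pow_expo hp M hphi_cen (M.inv_mem hx₁M) hbx, ← map_pow,
      hphi_fix b₁ hb₁N hb₁c _ (pow_expo_mem_phiOf hx₁M), inv_pow, inv_mul_cancel]
  have hsmall : ∀ x ∈ M, x ^ p = 1 ∨ (p = 2 ∧ x ^ 4 = 1) := by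
    intro x hx
    rw [← hWeq] at hx
    exact small_of_pow_expo hx.2
  -- Step 6 : `b₁` stabilizes the chain `M ∩ Z i`, hence fixes `M`
  have hst := hstab M hMQ hMinv hsmall b₁ hb₁N
  have hfin := Cfsg.Agent.Lib.Helper87.fixes_of_chain hR b₁ (orderOf b₁) hb₁c
    (pow_orderOf_eq_one b₁) n (fun j => M ⊓ Z (n - j))
    (by
      show M ⊓ Z (n - n) = ⊥
      rw [Nat.sub_self, hZbot, inf_bot_eq])
    (by
      intro i hi x hx
      have e : n - i = (n - (i + 1)) + 1 := by omega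
      have hxZ : x ∈ Z ((n - (i + 1)) + 1) := by rw [← e]; exact hx.2
      exact ⟨M.mul_mem (M.inv_mem hx.1) (hMinv b₁ (hNK hb₁N) x hx.1), hst _ x hx.1 hxZ⟩)
  apply hx₁
  apply hfin
  show x₁ ∈ M ⊓ Z (n - 0)
  rw [Nat.sub_zero, hZtop]
  exact ⟨hx₁M, Subgroup.mem_top _⟩

end Cfsg.Agent.Lib.Helper31.CS
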