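import Cfsg.Agent.Lib.Helper10.Nilpotent
import Cfsg.Agent.Lib.Helper31.ChainStab
import Cfsg.Agent.Lib.Helper84.OmegaAut

/-!
Thompson's critical subgroup in an operator form, and the resulting small-exponent subgroup on
which `p'`-automorphisms act faithfully.
-/

set_option autoImplicit false

namespace Cfsg.Agent.Lib.Helper31.Crit

open scoped commutatorElement
open Cfsg.Agent.Lib.Helper31.CS Cfsg.Agent.Lib.Helper31.SCI

variable {R : Type*} [Group R]

/-- central element modulo `A`: if `A < Y` are normal subgroups of a finite `p`-group then some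
`y ∈ Y ∖ A` has `y ^ p ∈ A` and `⁅y, g⁆ ∈ A` for all `g`. -/
theorem exists_central_mod [Finite R] {p : ℕ} [Fact p.Prime] (hR : IsPGroup p R)
    (A Y : Subgroup R) [hA : A.Normal] [hY : Y.Normal] (hAY : A ≤ Y) (hne : A ≠ Y) :
    ∃ y ∈ Y, y ∉ A ∧ y ^ p ∈ A ∧ ∀ g : R, ⁅y, g⁆ ∈ A := by
  classical
  have hp : p.Prime := Fact.out
  let π := QuotientGroup.mk' A
  have hπs : Function.Surjective π := QuotientGroup.mk'_surjective A
  have hNp : IsPGroup p (R ⧸ A) := hR.to_quotient A
  have hNnil : Group.IsNilpotent (R ⧸ A) := hNp.isNilpotent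
  set M : Subgroup (R ⧸ A) := Y.map π with hM
  have hMn : M.Normal := hY.map π hπs
  have hMne : M ≠ ⊥ := by
    intro hbot
    apply hne
    apply le_antisymm hAY
    intro y hy
    have : π y ∈ M := ⟨y, hy, rfl⟩
    rw [hbot, Subgroup.mem_bot] at this
    exact (QuotientGroup.eq_one_iff y).1 this
  have hH := Cfsg.Agent.Lib.Helper10.normal_inf_center_ne_bot M hMne
  set H : Subgroup (R ⧸ A) := M ⊓ Subgroup.center (R ⧸ A) with hHdef
  have hHp : IsPGroup p H := hNp.to_subgroup H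
  obtain ⟨k, hk⟩ := IsPGroup.iff_card.1 hHp
  have hk0 : k ≠ 0 := by
    rintro rfl
    rw [pow_zero] at hk
    exact hH (Subgroup.card_eq_one.1 hk)
  have hdvd : p ∣ Nat.card H := by
    rw [hk]; exact dvd_pow_self p hk0
  obtain ⟨z, hz⟩ := exists_prime_orderOf_dvd_card' p hdvd
  have hzM : (z : R ⧸ A) ∈ M := z.2.1
  have hzc : (z : R ⧸ A) ∈ Subgroup.center (R ⧸ A) := z.2.2
  obtain ⟨y, hyY, hyz⟩ := hzM
  have hz1 : (z : R ⧸ A) ≠ 1 := by
    intro h1
    have : z = 1 := Subtype.ext h1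
    rw [this, orderOf_one] at hz
    exact hp.one_lt.ne hz
  have hzp : (z : R ⧸ A) ^ p = 1 := by
    have : z ^ p = 1 := by rw [← hz]; exact pow_orderOf_eq_one z
    have := congrArg (fun w : H => (w : R ⧸ A)) this
    simpa using this
  refine ⟨y, hyY, ?_, ?_, ?_⟩
  · intro hyA
    apply hz1
    rw [← hyz]
    exact (QuotientGroup.eq_one_iff y).2 hyA
  · apply (QuotientGroup.eq_one_iff (y ^ p)).1
    have : π (y ^ p) = (π y) ^ p := map_pow π y p
    show π (y ^ p) = 1
    rw [this, hyz, hzp]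
  · intro g
    apply (QuotientGroup.eq_one_iff ⁅y, g⁆).1
    show π ⁅y, g⁆ = 1
    rw [map_commutatorElement, hyz, commutatorElement_eq_one_iff_commute]
    exact (Subgroup.mem_center_iff.1 hzc (π g)).symm


/-- invariance under a group of automorphisms containing the inner ones gives normality. -/
theorem normal_of_invariant (K : Subgroup (MulAut R)) (hInn : ∀ g : R, MulAut.conj g ∈ K)
    (M : Subgroup R) (hM : ∀ k ∈ K, ∀ x ∈ M, k x ∈ M) : M.Normal := by
  constructor
  intro x hx g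
  have := hM _ (hInn g) x hx
  rwa [MulAut.conj_apply] at this

/-- a maximal normal abelian subgroup of a normal subgroup `D` of a finite `p`-group is
self-centralizing in `D`. -/
theorem exists_max_normal_abelian [Finite R] {p : ℕ} [Fact p.Prime] (hR : IsPGroup p R)
    (D : Subgroup R) [hD : D.Normal] :
    ∃ A : Subgroup R, A ≤ D ∧ A.Normal ∧ (∀ x ∈ A, ∀ y ∈ A, x * y = y * x) ∧
      ∀ d ∈ D, (∀ a ∈ A, d * a = a * d) → d ∈ A := by
  classical
  let Good : Subgroup R → Prop := fun A => A ≤ D ∧ A.Normal ∧ ∀ x ∈ A, ∀ y ∈ A, x * y = y * x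
  have hbot : Good ⊥ := by
    refine ⟨bot_le, inferInstance, ?_⟩
    intro x hx y hy
    rw [Subgroup.mem_bot] at hx hy
    rw [hx, hy]
  -- choose a good subgroup of maximal cardinality
  have hex : ∃ m : ℕ, ∃ A : Subgroup R, Good A ∧ Nat.card R - Nat.card A = m := ⟨_, ⊥, hbot, rfl⟩
  obtain ⟨A, hA, hAcard⟩ := Nat.find_spec hex
  have hAmax : ∀ A' : Subgroup R, Good A' → Nat.card A' ≤ Nat.card A := by
    intro A' hA'
    have h1 := Nat.find_min' hex ⟨A', hA', rfl⟩
    rw [← hAcard] at h1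
    have h2 : Nat.card A ≤ Nat.card R := Subgroup.card_le_card_group A
    have h3 : Nat.card A' ≤ Nat.card R := Subgroup.card_le_card_group A'
    omega
  obtain ⟨hAD, hAn, hAab⟩ := hA
  refine ⟨A, hAD, hAn, hAab, ?_⟩
  intro d hdD hdA
  by_contra hdnot
  -- the centralizer of `A` in `D`
  set Y : Subgroup R := D ⊓ Subgroup.centralizer (A : Set R) with hY
  have hYn : Y.Normal := by
    constructor
    intro x hx g
    refine ⟨hD.conj_mem x hx.1 g, ?_⟩
    show g * x * g⁻¹ ∈ Subgroup.centralizer (A : Set R)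
    rw [Subgroup.mem_centralizer_iff]
    intro a ha
    have ha' : g⁻¹ * a * g⁻¹⁻¹ ∈ A := hAn.conj_mem a ha g⁻¹
    have hc := (Subgroup.mem_centralizer_iff.1 hx.2) _ ha'
    -- (g⁻¹ a g) x = x (g⁻¹ a g)
    calc a * (g * x * g⁻¹) = g * ((g⁻¹ * a * g⁻¹⁻¹) * x) * g⁻¹ := by group
      _ = g * (x * (g⁻¹ * a * g⁻¹⁻¹)) * g⁻¹ := by rw [hc]
      _ = g * x * g⁻¹ * a := by group
  have hAY : A ≤ Y := by
    intro a ha
    refine ⟨hAD ha, ?_⟩
    show a ∈ Subgroup.centralizer (A : Set R)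
    rw [Subgroup.mem_centralizer_iff]
    intro b hb
    exact hAab b hb a ha
  have hne : A ≠ Y := by
    intro h
    apply hdnot
    rw [h]
    refine ⟨hdD, ?_⟩
    show d ∈ Subgroup.centralizer (A : Set R)
    rw [Subgroup.mem_centralizer_iff]
    intro a ha
    exact (hdA a ha).symm
  obtain ⟨y, hyY, hyA, -, hycomm⟩ := exists_central_mod hR A Y hAY hne
  -- the bigger subgroup
  set A' : Subgroup R := Subgroup.closure ((A : Set R) ∪ {y}) with hA'
  have hyc : ∀ a ∈ A, y * a = a * y := by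
    intro a ha
    exact ((Subgroup.mem_centralizer_iff.1 hyY.2) a ha).symm
  have hcommgen : ∀ x ∈ ((A : Set R) ∪ {y}), ∀ z ∈ ((A : Set R) ∪ {y}), x * z = z * x := by
    rintro x (hx | hx) z (hz | hz)
    · exact hAab x hx z hz
    · rw [Set.mem_singleton_iff] at hz; subst hz; exact (hyc x hx).symm
    · rw [Set.mem_singleton_iff] at hx; subst hx; exact hyc z hz
    · rw [Set.mem_singleton_iff] at hx hz; rw [hx, hz]
  have hA'good : Good A' := by
    refine ⟨?_, ?_, ?_⟩
    · rw [hA', Subgroup.closure_le]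
      rintro x (hx | hx)
      · exact hAD hx
      · rw [Set.mem_singleton_iff] at hx; subst hx; exact hyY.1
    · constructor
      intro x hx g
      induction hx using Subgroup.closure_induction with
      | mem x hx =>
        rcases hx with hx | hx
        · exact Subgroup.subset_closure (Or.inl (hAn.conj_mem x hx g))
        · rw [Set.mem_singleton_iff] at hx
          subst hx
          have e : g * x * g⁻¹ = (⁅x, g⁆)⁻¹ * x := by
            rw [commutatorElement_def]; group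
          rw [e]
          exact Subgroup.mul_mem _
            (Subgroup.subset_closure (Or.inl (A.inv_mem (hycomm g))))
            (Subgroup.subset_closure (Or.inr rfl))
      | one => simp
      | mul a b _ _ ha hb =>
        have e : g * (a * b) * g⁻¹ = (g * a * g⁻¹) * (g * b * g⁻¹) := by group
        rw [e]; exact mul_mem ha hb
      | inv a _ ha =>
        have e : g * a⁻¹ * g⁻¹ = (g * a * g⁻¹)⁻¹ := by group
        rw [e]; exact inv_mem ha
    · intro x hx z hz
      have hc := Subgroup.isMulCommutative_closure hcommgen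
      have := hc.is_comm.comm (⟨x, hx⟩ : Subgroup.closure ((A : Set R) ∪ {y})) ⟨z, hz⟩
      exact congrArg (fun w : Subgroup.closure ((A : Set R) ∪ {y}) => (w : R)) this
  have hle : A ≤ A' := fun a ha => Subgroup.subset_closure (Or.inl ha)
  have hyA' : y ∈ A' := Subgroup.subset_closure (Or.inr rfl)
  have h1 := hAmax A' hA'good
  have h2 : A' = A := (Subgroup.eq_of_le_of_card_ge hle h1).symm
  exact hyA (h2 ▸ hyA')


theorem mul_pow_expo' {p : ℕ} (hp : p.Prime) {x y : R}
    (h1 : Commute ⁅y, x⁆ x) (h2 : Commute ⁅y, x⁆ y) (h3 : Commute (y ^ p) x) :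
    (x * y) ^ expo p = x ^ expo p * y ^ expo p := by
  unfold expo
  split_ifs with h
  · subst h
    exact Cfsg.Agent.Lib.Helper63.mul_pow_four_of_commute x y h1 h2 h3
  · exact Cfsg.Agent.Lib.Helper63.mul_pow_prime_of_commute hp h x y h1 h2 h3

theorem pow_expo_of_small {p : ℕ} {x : R} (hx : x ^ p = 1 ∨ (p = 2 ∧ x ^ 4 = 1)) :
    x ^ expo p = 1 := by
  unfold expo
  split_ifs with h
  · rcases hx with h1 | ⟨_, h4⟩
    · subst h
      have : x ^ 4 = (x ^ 2) ^ 2 := by rw [← pow_mul]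
      rw [this, h1, one_pow]
    · exact h4
  · rcases hx with h1 | ⟨h2, _⟩
    · exact h1
    · exact absurd h2 h

/-- **Thompson's critical subgroup, operator form, and its `Ω`**: a `K`-invariant subgroup `D` of
`Q` of exponent `p` (or `4`) such that a `p'`-element of `K` centralizing `D` centralizes `Q`. -/
theorem exists_small_faithful [Finite R] {p : ℕ} [Fact p.Prime] (hR : IsPGroup p R)
    (K : Subgroup (MulAut R)) (hInn : ∀ g : R, MulAut.conj g ∈ K)
    (Q : Subgroup R) (hQinv : ∀ k ∈ K, ∀ x ∈ Q, k x ∈ Q) :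
    ∃ D : Subgroup R, D ≤ Q ∧ (∀ k ∈ K, ∀ x ∈ D, k x ∈ D) ∧
      (∀ x ∈ D, x ^ p = 1 ∨ (p = 2 ∧ x ^ 4 = 1)) ∧
      ∀ a ∈ K, (orderOf a).Coprime p → (∀ x ∈ D, a x = x) → ∀ x ∈ Q, a x = x := by
  classical
  have hp : p.Prime := Fact.out
  -- Step 1: a maximal `K`-invariant abelian subgroup `A` of `Q`
  let Good : Subgroup R → Prop := fun A => A ≤ Q ∧ (∀ k ∈ K, ∀ x ∈ A, k x ∈ A) ∧
    ∀ x ∈ A, ∀ y ∈ A, x * y = y * x
  have hbot : Good ⊥ := by
    refine ⟨bot_le, ?_, ?_⟩
    · intro k _ x hx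
      rw [Subgroup.mem_bot] at hx ⊢
      rw [hx, map_one]
    · intro x hx y hy
      rw [Subgroup.mem_bot] at hx hy
      rw [hx, hy]
  have hex : ∃ m : ℕ, ∃ A : Subgroup R, Good A ∧ Nat.card R - Nat.card A = m := ⟨_, ⊥, hbot, rfl⟩
  obtain ⟨A, hA, hAcard⟩ := Nat.find_spec hex
  have hAmax : ∀ A' : Subgroup R, Good A' → Nat.card A' ≤ Nat.card A := by
    intro A' hA'
    have h1 := Nat.find_min' hex ⟨A', hA', rfl⟩
    rw [← hAcard] at h1
    have h2 : Nat.card A ≤ Nat.card R := Subgroup.card_le_card_group A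
    have h3 : Nat.card A' ≤ Nat.card R := Subgroup.card_le_card_group A'
    omega
  obtain ⟨hAQ, hAinv, hAab⟩ := hA
  have hAn : A.Normal := normal_of_invariant K hInn A hAinv
  have hQn : Q.Normal := normal_of_invariant K hInn Q hQinv
  have hkinv : ∀ k ∈ K, ∀ x : R, k⁻¹ (k x) = x ∧ k (k⁻¹ x) = x := by
    intro k _ x
    constructor
    · show k.symm (k x) = x
      simp
    · show k (k.symm x) = x
      simp
  -- Step 2: the subgroup `C`
  let C : Subgroup R :=
    { carrier := {x | x ∈ Q ∧ (∀ a ∈ A, x * a = a * x) ∧ x ^ p ∈ A ∧ ∀ g : R, ⁅x, g⁆ ∈ A}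
      one_mem' := by
        refine ⟨Q.one_mem, fun a _ => by rw [one_mul, mul_one], by rw [one_pow]; exact A.one_mem,
          fun g => ?_⟩
        rw [commutatorElement_one_left]; exact A.one_mem
      mul_mem' := by
        rintro x y ⟨hxQ, hxA, hxp, hxc⟩ ⟨hyQ, hyA, hyp, hyc⟩
        refine ⟨Q.mul_mem hxQ hyQ, ?_, ?_, ?_⟩
        · intro a ha
          rw [mul_assoc, hyA a ha, ← mul_assoc, hxA a ha, mul_assoc]
        · have hc : ⁅y, x⁆ ∈ A := hyc x
          have h1 : Commute ⁅y, x⁆ x := (hxA _ hc).symm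
          have h2 : Commute ⁅y, x⁆ y := (hyA _ hc).symm
          rw [Cfsg.Agent.Lib.Helper63.mul_pow_of_commute x y h1 h2 p]
          exact A.mul_mem (A.mul_mem hxp hyp) (A.pow_mem hc _)
        · intro g
          have e : ⁅x * y, g⁆ = x * ⁅y, g⁆ * x⁻¹ * ⁅x, g⁆ := by
            simp only [commutatorElement_def]; group
          rw [e]
          exact A.mul_mem (hAn.conj_mem _ (hyc g) x) (hxc g)
      inv_mem' := by
        rintro x ⟨hxQ, hxA, hxp, hxc⟩
        refine ⟨Q.inv_mem hxQ, ?_, ?_, ?_⟩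
        · intro a ha
          have := hxA a ha
          calc x⁻¹ * a = x⁻¹ * (a * x) * x⁻¹ := by group
            _ = x⁻¹ * (x * a) * x⁻¹ := by rw [this]
            _ = a * x⁻¹ := by group
        · rw [inv_pow]; exact A.inv_mem hxp
        · intro g
          have e : ⁅x⁻¹, g⁆ = x⁻¹ * (⁅x, g⁆)⁻¹ * x⁻¹⁻¹ := by
            simp only [commutatorElement_def]; group
          rw [e]
          exact hAn.conj_mem _ (A.inv_mem (hxc g)) x⁻¹ }
  have hCmem : ∀ x, x ∈ C ↔ x ∈ Q ∧ (∀ a ∈ A, x * a = a * x) ∧ x ^ p ∈ A ∧ ∀ g : R, ⁅x, g⁆ ∈ A :=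
    fun x => Iff.rfl
  have hAC : A ≤ C := by
    intro a ha
    refine ⟨hAQ ha, fun b hb => hAab a ha b hb, A.pow_mem ha p, fun g => ?_⟩
    rw [commutatorElement_def]
    have : a * g * a⁻¹ * g⁻¹ = a * (g * a⁻¹ * g⁻¹) := by group
    rw [this]
    exact A.mul_mem ha (hAn.conj_mem _ (A.inv_mem ha) g)
  have hCQ : C ≤ Q := fun x hx => hx.1
  have hCinv : ∀ k ∈ K, ∀ x ∈ C, k x ∈ C := by
    rintro k hk x ⟨hxQ, hxA, hxp, hxc⟩
    refine ⟨hQinv k hk x hxQ, ?_, ?_, ?_⟩
    · intro a ha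
      have ha' : k⁻¹ a ∈ A := hAinv k⁻¹ (K.inv_mem hk) a ha
      have := hxA _ ha'
      have h2 := congrArg k this
      rw [map_mul, map_mul, (hkinv k hk a).2] at h2
      exact h2
    · rw [← map_pow]; exact hAinv k hk _ hxp
    · intro g
      have e : ⁅k x, g⁆ = k ⁅x, k⁻¹ g⁆ := by
        rw [map_commutatorElement, (hkinv k hk g).2]
      rw [e]
      exact hAinv k hk _ (hxc _)
  have hCn : C.Normal := normal_of_invariant K hInn C hCinv
  -- the centre of `C` equals `A`
  have hZC : ∀ z ∈ C, (∀ c ∈ C, z * c = c * z) → z ∈ A := by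
    intro z hzC hzcen
    set ZC : Subgroup R := C ⊓ Subgroup.centralizer (C : Set R) with hZCdef
    have hZCgood : Good ZC := by
      refine ⟨inf_le_left.trans hCQ, ?_, ?_⟩
      · rintro k hk x ⟨hxC, hxcen⟩
        refine ⟨hCinv k hk x hxC, ?_⟩
        show k x ∈ Subgroup.centralizer (C : Set R)
        rw [Subgroup.mem_centralizer_iff]
        intro c hc
        have hc' : k⁻¹ c ∈ C := hCinv k⁻¹ (K.inv_mem hk) c hc
        have := (Subgroup.mem_centralizer_iff.1 hxcen) _ hc'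
        have h2 := congrArg k this
        rw [map_mul, map_mul, (hkinv k hk c).2] at h2
        exact h2
      · rintro x ⟨hxC, hxcen⟩ y ⟨hyC, _⟩
        exact ((Subgroup.mem_centralizer_iff.1 hxcen) y hyC).symm
    have hAZC : A ≤ ZC := by
      intro a ha
      refine ⟨hAC ha, ?_⟩
      show a ∈ Subgroup.centralizer (C : Set R)
      rw [Subgroup.mem_centralizer_iff]
      intro c hc
      exact hc.2.1 a ha
    have h1 := hAmax ZC hZCgood
    have h2 : ZC = A := (Subgroup.eq_of_le_of_card_ge hAZC h1).symm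
    rw [← h2]
    refine ⟨hzC, ?_⟩
    show z ∈ Subgroup.centralizer (C : Set R)
    rw [Subgroup.mem_centralizer_iff]
    intro c hc
    exact (hzcen c hc).symm
  -- Step 3: `C_Q(C) ≤ A`
  have hCQC : ∀ x ∈ Q, (∀ c ∈ C, x * c = c * x) → x ∈ A := by
    intro x hxQ hxcen
    by_contra hxA
    set X : Subgroup R := Q ⊓ Subgroup.centralizer (C : Set R) with hX
    have hXinv : ∀ k ∈ K, ∀ x ∈ X, k x ∈ X := by
      rintro k hk x ⟨hxQ, hxcen⟩
      refine ⟨hQinv k hk x hxQ, ?_⟩
      show k x ∈ Subgroup.centralizer (C : Set R)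
      rw [Subgroup.mem_centralizer_iff]
      intro c hc
      have hc' : k⁻¹ c ∈ C := hCinv k⁻¹ (K.inv_mem hk) c hc
      have := (Subgroup.mem_centralizer_iff.1 hxcen) _ hc'
      have h2 := congrArg k this
      rw [map_mul, map_mul, (hkinv k hk c).2] at h2
      exact h2
    have hXn : X.Normal := normal_of_invariant K hInn X hXinv
    have hAX : A ≤ X := by
      intro a ha
      refine ⟨hAQ ha, ?_⟩
      show a ∈ Subgroup.centralizer (C : Set R)
      rw [Subgroup.mem_centralizer_iff]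
      intro c hc
      exact hc.2.1 a ha
    have hne : A ≠ X := by
      intro h
      apply hxA
      rw [h]
      refine ⟨hxQ, ?_⟩
      show x ∈ Subgroup.centralizer (C : Set R)
      rw [Subgroup.mem_centralizer_iff]
      intro c hc
      exact (hxcen c hc).symm
    obtain ⟨y, hyX, hyA, hyp, hycomm⟩ := exists_central_mod hR A X hAX hne
    have hycen : ∀ c ∈ C, y * c = c * y := fun c hc =>
      ((Subgroup.mem_centralizer_iff.1 hyX.2) c hc).symm
    have hyC : y ∈ C := ⟨hyX.1, fun a ha => hycen a (hAC ha), hyp, hycomm⟩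
    exact hyA (hZC y hyC hycen)
  -- Step 4: the power map on `C`
  have hpowC : ∀ x ∈ C, ∀ y ∈ C, (x * y) ^ expo p = x ^ expo p * y ^ expo p := by
    rintro x hx y hy
    have hc : ⁅y, x⁆ ∈ A := hy.2.2.2 x
    exact mul_pow_expo' hp (hx.2.1 _ hc).symm (hy.2.1 _ hc).symm (hx.2.1 _ hy.2.2.1).symm
  let D : Subgroup R :=
    { carrier := {x | x ∈ C ∧ x ^ expo p = 1}
      one_mem' := ⟨C.one_mem, one_pow _⟩
      mul_mem' := by
        rintro x y ⟨hx, hx1⟩ ⟨hy, hy1⟩
        exact ⟨C.mul_mem hx hy, by rw [hpowC x hx y hy, hx1, hy1, one_mul]⟩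
      inv_mem' := by
        rintro x ⟨hx, hx1⟩
        exact ⟨C.inv_mem hx, by rw [inv_pow, hx1, inv_one]⟩ }
  refine ⟨D, fun x hx => hCQ hx.1, ?_, ?_, ?_⟩
  · rintro k hk x ⟨hx, hx1⟩
    exact ⟨hCinv k hk x hx, by rw [← map_pow, hx1, map_one]⟩
  · rintro x ⟨_, hx1⟩
    exact small_of_pow_expo hx1
  · intro a haK hcop hfixD x hxQ
    -- `a` centralizes `C`
    have hfixC : ∀ c ∈ C, a c = c := by
      apply Cfsg.Agent.Lib.Helper84.Om.aut_fix_of_fix_omega hR a hcop C (hCinv a haK)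
      intro y hyC hysmall
      exact hfixD y ⟨hyC, pow_expo_of_small hysmall⟩
    apply fix_of_comm_fixed hR a hcop x
    apply hfixC
    apply hAC
    apply hCQC _ (Q.mul_mem (Q.inv_mem hxQ) (hQinv a haK x hxQ))
    intro c hc
    have h1 : a (x * c * x⁻¹) = x * c * x⁻¹ := hfixC _ (hCn.conj_mem c hc x)
    rw [map_mul, map_mul, map_inv, hfixC c hc] at h1
    calc x⁻¹ * a x * c = x⁻¹ * (a x * c * (a x)⁻¹) * a x := by group
      _ = x⁻¹ * (x * c * x⁻¹) * a x := by rw [h1]
      _ = c * (x⁻¹ * a x) := by group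

end Cfsg.Agent.Lib.Helper31.Crit
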