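import Cfsg.Agent.Lib.Helper31.TiSig
import Cfsg.Agent.Lib.Helper70.TiABS
import Cfsg.Agent.Lib.Helper91.TiDICH
import Cfsg.Agent.Lib.Helper36.TiBN
import Cfsg.Agent.Lib.Helper36.TiIDX
import Cfsg.Agent.Lib.Helper36.F4OrderMain
import Cfsg.Agent.Lib.Helper36.F4TitsA

/-! # The Tits group `²F₄(2)′`: index 2, order 17971200, simple (helper31; Ti mini-hive assembly)

Leaves: TI-ABS helper70, TI-EO + TI-LOOK helper33, TI-VEC helper69, TI-DICH helper91, TI-BN + TI-IDX helper36;
plan after helper98's tip. -/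

set_option autoImplicit false

namespace Cfsg.Agent.Lib.Helper31.Ti

open Cfsg Cfsg.Lie Cfsg.Agent.Lib.Helper36

/-- the derived subgroup of `²F₄(2)` has index 2 -/
theorem ti_index : (commutator ↥(twistedF4 (ZMod 2) 1)).index = 2 := by
  have hne : (commutator ↥(twistedF4 (ZMod 2) 1)).index ≠ 1 := fun h =>
    ti_sig (Subgroup.index_eq_one.1 h)
  rcases (Nat.dvd_prime Nat.prime_two).1 ti_idx with h | h
  · exact absurd h hne
  · exact h

/-- the order of `²F₄(2)` -/
theorem ti_card_group : Nat.card ↥(twistedF4 (ZMod 2) 1) = 35942400 := by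
  have h : Nat.card ↥(twistedF4 (ZMod 2) 1) = _ := f4_order (K := ZMod 2) (m := 0) card_zmod2
  rw [h]; norm_num

/-- the order of the Tits group -/
theorem ti_card : Nat.card TitsGroup = 17971200 := by
  show Nat.card (commutator ↥(twistedF4 (ZMod 2) 1)) = _
  have := Subgroup.card_mul_index (commutator ↥(twistedF4 (ZMod 2) 1))
  rw [ti_index, ti_card_group] at this
  omega

/-- the Tits group is simple -/
theorem ti_simple : IsSimpleGroup TitsGroup := by
  have hsq : ¬ IsSquare (Nat.card (commutator ↥(twistedF4 (ZMod 2) 1))) := by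
    have hT : Nat.card (commutator ↥(twistedF4 (ZMod 2) 1)) = 17971200 := ti_card
    rw [hT]
    rintro ⟨k, hk⟩
    have h1 : k < 4240 := by nlinarith
    have h2 : 4239 < k := by nlinarith
    omega
  obtain ⟨P, hirr, hcore, hB⟩ := ti_bn
  exact ti_abs P.B hB (fun M hM => ti_dich P hirr hcore M hM) ti_index hsq

/-- the Tits group is not commutative -/
theorem ti_not_comm : ¬ IsMulCommutative TitsGroup := by
  intro hc
  have hsimple : IsSimpleGroup (commutator ↥(twistedF4 (ZMod 2) 1)) := ti_simple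
  have hT : Nat.card (commutator ↥(twistedF4 (ZMod 2) 1)) = 17971200 := ti_card
  let _ : CommGroup (commutator ↥(twistedF4 (ZMod 2) 1)) :=
    { (inferInstance : Group (commutator ↥(twistedF4 (ZMod 2) 1))) with
      mul_comm := hc.is_comm.comm }
  have hp : (Nat.card (commutator ↥(twistedF4 (ZMod 2) 1))).Prime :=
    @IsSimpleGroup.prime_card _ _ hsimple
  rw [hT] at hp
  norm_num at hp

end Cfsg.Agent.Lib.Helper31.Ti
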