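import Cfsg.Agent.Lib.Helper36.F4Lit

/-! # Packed bit matrices for `F₄(𝔽₂)` (helper31)

A `52 × 52` matrix over `𝔽₂` is ONE natural number `P`: the entry `(i, j)` is the bit `52 * i + j`.
The product `mulP` uses `52` steps of (shift, and, multiply, xor) on big numbers, which the kernel evaluates with
GMP: about 1 ms per product instead of 250 ms for `Helper36.mulBits`. -/

set_option autoImplicit false

namespace Cfsg.Agent.Lib.Helper31.F4P

open Cfsg Cfsg.Lie Cfsg.Agent.Lib.Helper36

/-- the matrix over `𝔽₂` packed in a number -/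
def bitMatP (P : ℕ) : Matrix chevF4.Idx chevF4.Idx (ZMod 2) :=
  Matrix.of fun i j => bitZ (P.testBit (52 * f4Num i + f4Num j))

/-- `∑_{i<n, c i} 2^(52 i)` -/
def spread (c : ℕ → Bool) : ℕ → ℕ
  | 0 => 0
  | n + 1 => (if c 0 then 1 else 0) + 2 ^ 52 * spread (fun i => c (i + 1)) n

theorem testBit_mul_spread (x : ℕ) (hx : x < 2 ^ 52) (n : ℕ) :
    ∀ (c : ℕ → Bool) (i j : ℕ), j < 52 →
      (x * spread c n).testBit (52 * i + j) = ((decide (i < n) && c i) && x.testBit j) := by
  induction n with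
  | zero =>
    intro c i j _
    simp [spread]
  | succ n ih =>
    intro c i j hj
    have e : x * spread c (n + 1) =
        2 ^ 52 * (x * spread (fun i => c (i + 1)) n) + x * (if c 0 then 1 else 0) := by
      simp only [spread]; ring
    have hb : x * (if c 0 then 1 else 0) < 2 ^ 52 := by
      split_ifs
      · simpa using hx
      · simp
    rw [e, Nat.testBit_two_pow_mul_add _ hb]
    rcases i with _ | i
    · have h1 : 52 * 0 + j < 52 := by omega
      rw [if_pos h1]
      by_cases h : c 0 = true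
      · simp [h]
      · have : c 0 = false := by simpa using h
        simp [this]
    · have h1 : ¬ (52 * (i + 1) + j < 52) := by omega
      rw [if_neg h1]
      have h2 : 52 * (i + 1) + j - 52 = 52 * i + j := by omega
      rw [h2, ih (fun i => c (i + 1)) i j hj]
      simp

theorem testBit_one' (j : ℕ) : Nat.testBit 1 j = decide (j = 0) := by
  rcases j with _ | j
  · rfl
  · rw [Nat.testBit_add_one]; simp

theorem testBit_spread (c : ℕ → Bool) (n i j : ℕ) (hj : j < 52) :
    (spread c n).testBit (52 * i + j) = ((decide (i < n) && c i) && decide (j = 0)) := by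
  have h := testBit_mul_spread 1 (by norm_num) n c i j hj
  rw [one_mul] at h
  rw [h, testBit_one']

/-- the bit `0` of each of the 52 slots -/
def M1 : ℕ := spread (fun _ => true) 52

/-- a full slot -/
def FULL : ℕ := 2 ^ 52 - 1

/-- the column `k` of `P`, one bit per slot -/
def colMask (P k : ℕ) : ℕ := (P >>> k) &&& M1

/-- the row `k` of `Q` -/
def rowOf (Q k : ℕ) : ℕ := (Q >>> (52 * k)) &&& FULL

theorem rowOf_lt (Q k : ℕ) : rowOf Q k < 2 ^ 52 := by
  unfold rowOf FULL
  exact Nat.and_lt_two_pow _ (by norm_num)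

theorem testBit_rowOf (Q k j : ℕ) (hj : j < 52) : (rowOf Q k).testBit j = Q.testBit (52 * k + j) := by
  unfold rowOf FULL
  rw [Nat.testBit_and, Nat.testBit_shiftRight, Nat.testBit_two_pow_sub_one]
  simp [hj]

theorem colMask_eq (P k : ℕ) : colMask P k = spread (fun i => P.testBit (52 * i + k)) 52 := by
  apply Nat.eq_of_testBit_eq
  intro t
  have ht : t = 52 * (t / 52) + t % 52 := (Nat.div_add_mod t 52).symm
  have hj : t % 52 < 52 := Nat.mod_lt _ (by norm_num)
  generalize t / 52 = i at ht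
  generalize t % 52 = j at ht hj
  subst ht
  unfold colMask M1
  rw [Nat.testBit_and, Nat.testBit_shiftRight, testBit_spread _ _ _ _ hj, testBit_spread _ _ _ _ hj]
  by_cases h0 : j = 0
  · subst h0
    have : k + (52 * i + 0) = 52 * i + k := by omega
    rw [this]
    by_cases hi : i < 52 <;> simp [hi]
  · simp [h0]

/-- one step of the product: (row `k` of `Q`) placed in the slots given by the column `k` of `P` -/
def mulPStep (P Q k : ℕ) : ℕ := rowOf Q k * colMask P k

theorem testBit_mulPStep (P Q k i j : ℕ) (hi : i < 52) (hj : j < 52) :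
    (mulPStep P Q k).testBit (52 * i + j) = (P.testBit (52 * i + k) && Q.testBit (52 * k + j)) := by
  unfold mulPStep
  rw [colMask_eq, testBit_mul_spread _ (rowOf_lt Q k) 52 _ i j hj, testBit_rowOf Q k j hj]
  simp [hi]

/-- partial products -/
def mulPAux (P Q : ℕ) : ℕ → ℕ
  | 0 => 0
  | k + 1 => mulPAux P Q k ^^^ mulPStep P Q k

/-- the product of two packed matrices -/
def mulP (P Q : ℕ) : ℕ := mulPAux P Q 52

theorem bitZ_and (p q : Bool) : bitZ (p && q) = bitZ p * bitZ q := by
  cases p <;> cases q <;> decide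

theorem bitZ_mulPAux (P Q i j : ℕ) (hi : i < 52) (hj : j < 52) (n : ℕ) :
    bitZ ((mulPAux P Q n).testBit (52 * i + j)) =
      ∑ k ∈ Finset.range n, bitZ (P.testBit (52 * i + k)) * bitZ (Q.testBit (52 * k + j)) := by
  induction n with
  | zero => simp [mulPAux, bitZ]
  | succ n ih =>
    rw [Finset.sum_range_succ, ← ih]
    show bitZ ((mulPAux P Q n ^^^ mulPStep P Q n).testBit (52 * i + j)) = _
    rw [Nat.testBit_xor, bitZ_xor, testBit_mulPStep P Q n i j hi hj, bitZ_and]

/-- soundness of the packed product -/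
theorem bitMatP_mul (P Q : ℕ) : bitMatP P * bitMatP Q = bitMatP (mulP P Q) := by
  ext i j
  rw [Matrix.mul_apply]
  show ∑ x, bitZ (P.testBit (52 * f4Num i + f4Num x)) * bitZ (Q.testBit (52 * f4Num x + f4Num j)) =
    bitZ ((mulP P Q).testBit (52 * f4Num i + f4Num j))
  unfold mulP
  rw [bitZ_mulPAux P Q _ _ (f4Num_lt i) (f4Num_lt j),
    sum_f4Num (fun k => bitZ (P.testBit (52 * f4Num i + k)) * bitZ (Q.testBit (52 * k + f4Num j)))]

/-- packing a list of rows -/
def packRows : List ℕ → ℕ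
  | [] => 0
  | r :: rs => r % 2 ^ 52 + 2 ^ 52 * packRows rs

theorem testBit_packRows (R : List ℕ) : ∀ (i j : ℕ), j < 52 →
    (packRows R).testBit (52 * i + j) = (R.getD i 0).testBit j := by
  induction R with
  | nil => intro i j _; simp [packRows]
  | cons r rs ih =>
    intro i j hj
    have hb : r % 2 ^ 52 < 2 ^ 52 := Nat.mod_lt _ (by norm_num)
    show (r % 2 ^ 52 + 2 ^ 52 * packRows rs).testBit (52 * i + j) = _
    rw [add_comm, Nat.testBit_two_pow_mul_add _ hb]
    rcases i with _ | i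
    · have h1 : 52 * 0 + j < 52 := by omega
      rw [if_pos h1, Nat.testBit_mod_two_pow]
      simp [hj]
    · have h1 : ¬ (52 * (i + 1) + j < 52) := by omega
      have h2 : 52 * (i + 1) + j - 52 = 52 * i + j := by omega
      rw [if_neg h1, h2, ih i j hj]
      rfl

/-- the list form and the packed form -/
theorem bitMat_eq_bitMatP (R : List ℕ) : bitMat R = bitMatP (packRows R) := by
  ext i j
  show bitZ ((R.getD (f4Num i) 0).testBit (f4Num j)) = bitZ ((packRows R).testBit (52 * f4Num i + f4Num j))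
  rw [testBit_packRows R _ _ (f4Num_lt j)]

/-- the identity matrix, packed -/
def idP : ℕ := packRows idBits

theorem bitMatP_one : (1 : Matrix chevF4.Idx chevF4.Idx (ZMod 2)) = bitMatP idP := by
  rw [bitMat_one, bitMat_eq_bitMatP]
  rfl

theorem full_mul_M1 : FULL * M1 = 2 ^ 2704 - 1 := by decide +kernel

theorem mulPStep_lt (P Q k : ℕ) : mulPStep P Q k < 2 ^ 2704 := by
  have h1 : rowOf Q k ≤ FULL := Nat.and_le_right
  have h2 : colMask P k ≤ M1 := Nat.and_le_right
  have h3 : mulPStep P Q k ≤ FULL * M1 := Nat.mul_le_mul h1 h2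
  rw [full_mul_M1] at h3
  have : 0 < 2 ^ 2704 := by positivity
  omega

theorem mulPAux_lt (P Q : ℕ) : ∀ n, mulPAux P Q n < 2 ^ 2704
  | 0 => by show 0 < 2 ^ 2704; positivity
  | n + 1 => Nat.xor_lt_two_pow (mulPAux_lt P Q n) (mulPStep_lt P Q n)

theorem mulP_lt (P Q : ℕ) : mulP P Q < 2 ^ 2704 := mulPAux_lt P Q 52

/-- the index with a given number -/
def f4Idx (k : ℕ) : chevF4.Idx :=
  if h : k < 4 then Sum.inl ⟨k, h⟩ else
    if h2 : k - 4 < 48 then Sum.inr ⟨k - 4, h2⟩ else Sum.inl ⟨0, by decide⟩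

theorem f4Num_f4Idx (k : ℕ) (hk : k < 52) : f4Num (f4Idx k) = k := by
  unfold f4Idx
  by_cases h : k < 4
  · rw [dif_pos h]; rfl
  · have h2 : k - 4 < 48 := by omega
    rw [dif_neg h, dif_pos h2]
    show 4 + (k - 4) = k
    omega

theorem bitZ_inj (p q : Bool) (h : bitZ p = bitZ q) : p = q := by
  cases p <;> cases q <;> first | rfl | (exfalso; revert h; decide)

/-- a packed matrix below `2^2704` is determined by the matrix -/
theorem bitMatP_inj (A B : ℕ) (hA : A < 2 ^ 2704) (hB : B < 2 ^ 2704) (h : bitMatP A = bitMatP B) : A = B := by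
  apply Nat.eq_of_testBit_eq
  intro t
  by_cases ht : t < 2704
  · have e : t = 52 * (t / 52) + t % 52 := (Nat.div_add_mod t 52).symm
    have hi : t / 52 < 52 := by omega
    have hj : t % 52 < 52 := Nat.mod_lt _ (by norm_num)
    have h1 := congrFun (congrFun h (f4Idx (t / 52))) (f4Idx (t % 52))
    have h2 : bitZ (A.testBit (52 * f4Num (f4Idx (t / 52)) + f4Num (f4Idx (t % 52)))) =
        bitZ (B.testBit (52 * f4Num (f4Idx (t / 52)) + f4Num (f4Idx (t % 52)))) := h1
    rw [f4Num_f4Idx _ hi, f4Num_f4Idx _ hj, ← e] at h2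
    exact bitZ_inj _ _ h2
  · have h2 : 2 ^ 2704 ≤ 2 ^ t := Nat.pow_le_pow_right (by norm_num) (by omega)
    rw [Nat.testBit_lt_two_pow (lt_of_lt_of_le hA h2), Nat.testBit_lt_two_pow (lt_of_lt_of_le hB h2)]

theorem idP_lt : idP < 2 ^ 2704 := by decide +kernel

section rep

/-- the element `g` of `GL₅₂(𝔽₂)` has the packed matrix `P` -/
def RepP (g : GL chevF4.Idx (ZMod 2)) (P : ℕ) : Prop :=
  (g : Matrix chevF4.Idx chevF4.Idx (ZMod 2)) = bitMatP P

theorem repP_mul {g h : GL chevF4.Idx (ZMod 2)} {P Q : ℕ} (hg : RepP g P) (hh : RepP h Q) :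
    RepP (g * h) (mulP P Q) := by
  unfold RepP at *
  rw [Units.val_mul, hg, hh, bitMatP_mul]

theorem repP_cast {g : GL chevF4.Idx (ZMod 2)} {P Q : ℕ} (hg : RepP g P) (e : P = Q) : RepP g Q := e ▸ hg

theorem repP_one : RepP 1 idP := by
  unfold RepP
  rw [Units.val_one]
  exact bitMatP_one

theorem repP_of_list {g : GL chevF4.Idx (ZMod 2)} {R : List ℕ}
    (hg : (g : Matrix chevF4.Idx chevF4.Idx (ZMod 2)) = bitMat R) : RepP g (packRows R) := by
  unfold RepP
  rw [hg, bitMat_eq_bitMatP]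

theorem repP_inv {g : GL chevF4.Idx (ZMod 2)} {P Q : ℕ} (hg : RepP g P) (hPQ : mulP P Q = idP) :
    RepP g⁻¹ Q := by
  unfold RepP at *
  have h1 : (g : Matrix chevF4.Idx chevF4.Idx (ZMod 2)) * bitMatP Q = 1 := by
    rw [hg, bitMatP_mul, hPQ, ← bitMatP_one]
  calc ((g⁻¹ : GL chevF4.Idx (ZMod 2)) : Matrix chevF4.Idx chevF4.Idx (ZMod 2))
      = ((g⁻¹ : GL chevF4.Idx (ZMod 2)) : Matrix chevF4.Idx chevF4.Idx (ZMod 2)) *
          ((g : Matrix chevF4.Idx chevF4.Idx (ZMod 2)) * bitMatP Q) := by rw [h1, mul_one]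
    _ = bitMatP Q := by
        rw [← mul_assoc, ← Units.val_mul, inv_mul_cancel, Units.val_one, one_mul]

theorem repP_ext {g h : GL chevF4.Idx (ZMod 2)} {P : ℕ} (hg : RepP g P) (hh : RepP h P) : g = h :=
  Units.ext (hg.trans hh.symm)

/-- two canonical packed matrices of the same element are equal -/
theorem repP_unique {g : GL chevF4.Idx (ZMod 2)} {P Q : ℕ} (hg : RepP g P) (hh : RepP g Q)
    (hP : P < 2 ^ 2704) (hQ : Q < 2 ^ 2704) : P = Q :=
  bitMatP_inj P Q hP hQ (hg.symm.trans hh)

end rep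

end Cfsg.Agent.Lib.Helper31.F4P
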