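import Mathlib
import Cfsg.Prelude.Def_ClassicalGeometry
import Cfsg.Prelude.Def_GeometricClasses
import Cfsg.Prelude.Def_Classical
import Cfsg.Agent.Lib.Helper15.HqDefs
import Cfsg.Agent.Lib.Helper81.OnBR

/-! # HQ-BR `isHyp_iff` (helper15's S5974 hive "Hq"): bridge between the frozen predicate and the
Hy vocabulary for `plusB d` -/

set_option autoImplicit false

namespace Cfsg.Agent.Lib.Helper15.Hq

open Module
open Cfsg.Agent.Lib.Helper2.BG Cfsg.Agent.Lib.Helper99 Cfsg.Agent.Lib.Helper48.Ti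
open Cfsg.Agent.Lib.Helper5.Hy (Plus Fixes)
open Cfsg.Agent.Lib.Helper81.On (plusB VP)

section bridge

variable {F : Type*} [Field F]

/-- HQ-BR: bridge between the frozen predicate and the Hy vocabulary for `plusB d` -/
theorem isHyp_iff (h2 : (2 : F) ≠ 0) (d m : ℕ) (W : Submodule F (Fin d ⊕ Fin d → F)) :
    IsHyp d m W ↔ (Nd (plusB d) W ∧ finrank F W = m ∧ Plus (plusB d) W) := by
  constructor
  · rintro ⟨hfr, hnd, U, hUW, hU2, hUQ⟩
    refine ⟨?_, hfr, U, hUW, ?_, by rw [hU2, hfr]⟩
    · intro u hu hzero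
      by_contra hne
      obtain ⟨v, hv, hvn⟩ := hnd u hu hne
      apply hvn
      rw [← Cfsg.Agent.Lib.Helper81.On.plusB_polar]
      exact hzero v hv
    · intro u hu v hv
      rw [Cfsg.Agent.Lib.Helper81.On.plusB_polar]
      unfold QuadraticMap.polar
      rw [hUQ _ (U.add_mem hu hv), hUQ u hu, hUQ v hv]
      simp
  · rintro ⟨hNd, hfr, U, hUW, hTI, h2U⟩
    refine ⟨hfr, ?_, U, hUW, by rw [h2U, hfr], ?_⟩
    · intro u hu hne
      by_contra hno
      push Not at hno
      apply hne
      apply hNd u hu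
      intro v hv
      rw [Cfsg.Agent.Lib.Helper81.On.plusB_polar]
      exact hno v hv
    · intro u hu
      have h1 := hTI u hu u hu
      rw [Cfsg.Agent.Lib.Helper81.On.plusB_self] at h1
      exact (mul_eq_zero.1 h1).resolve_left h2

end bridge

end Cfsg.Agent.Lib.Helper15.Hq
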