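import Cfsg.Agent.Lib.Helper18.AutDefs
import Cfsg.Agent.Lib.Helper36.ChevTwPerf

/-! # S2156, T6: a length-swapping permutation forces the characteristic (helper31) -/

set_option autoImplicit false

namespace Cfsg.Agent.Lib.Helper31.Au

open Cfsg Cfsg.Lie Cfsg.Agent.Lib.Helper36 Cfsg.Agent.Lib.Helper18 Cfsg.Agent.Lib.Helper18.Au

section core
variable (D : ChevalleyDatum) (hD : D ∈ [chevG2, chevB2, chevD4, chevF4, chevE6, chevE7, chevE8])
variable (F : Type*) [Field F]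

/-- `n_{p_k}(1)` inside the group -/
def nGr (k : ℕ) : ↥(D.group F) :=
  xGr D hD F (D.simple k) 1 * xGr D hD F (D.neg (D.simple k)) (-1) * xGr D hD F (D.simple k) 1

theorem nGr_coe (k : ℕ) : ((nGr D hD F k : ↥(D.group F)) : GL D.Idx F) = nGL D hD F (D.simple k) 1 := by
  unfold nGr
  rw [Subgroup.coe_mul, Subgroup.coe_mul, xGr_coe, xGr_coe, nGL_eq, inv_one]

/-- the element of `N` attached to a word, inside the group -/
def nWordGr (l : List ℕ) : ↥(D.group F) := (l.map fun k => nGr D hD F k).prod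

theorem nWordGr_coe (l : List ℕ) :
    ((nWordGr D hD F l : ↥(D.group F)) : GL D.Idx F) = nWordGL D hD F l := by
  induction l with
  | nil => simp [nWordGr, nWordGL]
  | cons k l ih =>
    have e1 : nWordGr D hD F (k :: l) = nGr D hD F k * nWordGr D hD F l := by simp [nWordGr]
    have e2 : nWordGL D hD F (k :: l) = nGL D hD F (D.simple k) 1 * nWordGL D hD F l := by simp [nWordGL]
    rw [e1, e2, Subgroup.coe_mul, ih, nGr_coe]

theorem map_nGr (θ₁ : ↥(D.group F) ≃* ↥(D.group F)) (i j : ℕ) (σ : F ≃+* F)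
    (h1 : ∀ t, θ₁ (xGr D hD F (D.simple i) t) = xGr D hD F (D.simple j) (σ t))
    (h2 : ∀ t, θ₁ (xGr D hD F (D.neg (D.simple i)) t) = xGr D hD F (D.neg (D.simple j)) (σ t)) :
    θ₁ (nGr D hD F i) = nGr D hD F j := by
  unfold nGr
  rw [map_mul, map_mul, h1, h2, map_neg, map_one]

include hD in
theorem T6_core (θ₁ : ↥(D.group F) ≃* ↥(D.group F)) (a b : ℕ) (ha : a < D.nroots) (hb : b < D.nroots)
    (σ : F ≃+* F) (hab : ∀ t, θ₁ (xGr D hD F a t) = xGr D hD F b (σ t))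
    (l l' : List ℕ) (hl : ∀ k ∈ l, k < D.rank) (hl' : ∀ k ∈ l', k < D.rank)
    (hmap : θ₁ (nWordGr D hD F l) = nWordGr D hD F l')
    (d : ℕ) (k : ℤ) (hd : d < D.nroots)
    (hc1 : wRoot D l a ≠ a) (hc2 : wRoot D l a ≠ D.neg a)
    (hterms : D.commTerms a (wRoot D l a) = [(d, k, 1, 1)])
    (hc1' : wRoot D l' b ≠ b) (hc2' : wRoot D l' b ≠ D.neg b)
    (hterms' : D.commTerms b (wRoot D l' b) = []) : (k : F) = 0 := by
  set c := wRoot D l a with hc
  set c' := wRoot D l' b with hc'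
  have hcl : c < D.nroots := wRoot_lt D hD l hl a ha
  have hcl' : c' < D.nroots := wRoot_lt D hD l' hl' b hb
  obtain ⟨ε, hε, hconj⟩ := nWordGL_conj D hD F l hl a ha
  obtain ⟨ε', hε', hconj'⟩ := nWordGL_conj D hD F l' hl' b hb
  -- conjugation inside the group
  have E1 : ∀ t, nWordGr D hD F l * xGr D hD F a t * (nWordGr D hD F l)⁻¹ = xGr D hD F c (ε * t) := by
    intro t
    apply Subtype.ext
    rw [Subgroup.coe_mul, Subgroup.coe_mul, Subgroup.coe_inv, nWordGr_coe, xGr_coe, xGr_coe]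
    exact hconj t
  have E1' : ∀ t, nWordGr D hD F l' * xGr D hD F b t * (nWordGr D hD F l')⁻¹ = xGr D hD F c' (ε' * t) := by
    intro t
    apply Subtype.ext
    rw [Subgroup.coe_mul, Subgroup.coe_mul, Subgroup.coe_inv, nWordGr_coe, xGr_coe, xGr_coe]
    exact hconj' t
  -- image of `x_c`
  have E2 : ∀ t, θ₁ (xGr D hD F c (ε * t)) = xGr D hD F c' (ε' * σ t) := by
    intro t
    rw [← E1 t, map_mul, map_mul, map_inv, hmap, hab, E1']
  -- the commutator formula
  have hcomm := hcomm_all D hD F a c ha hcl hc1 hc2 1 (ε * 1)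
  unfold ChevalleyDatum.commWord at hcomm
  rw [hterms] at hcomm
  simp only [List.map_cons, List.map_nil, ChevalleyDatum.wordMat, List.prod_cons, List.prod_nil, mul_one,
    pow_one] at hcomm
  have C1 : xGr D hD F c (ε * 1) * xGr D hD F a 1 =
      xGr D hD F a 1 * xGr D hD F c (ε * 1) * xGr D hD F d ((k : F) * -1 * ε) := by
    apply Subtype.ext
    apply Units.ext
    simp only [Subgroup.coe_mul, Units.val_mul, xGr_coe_mat hD]
    rw [mul_one]
    exact hcomm
  have C2 := congrArg θ₁ C1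
  rw [map_mul, map_mul, map_mul, E2, hab, map_one, mul_one] at C2
  have hcm : Commute (xGL D hD F b 1) (xGL D hD F c' ε') :=
    xGL_commute_of_nil D hD F b c' hb hcl' hc1' hc2' hterms' 1 ε'
  have hcm' : xGr D hD F c' ε' * xGr D hD F b 1 = xGr D hD F b 1 * xGr D hD F c' ε' := by
    apply Subtype.ext
    rw [Subgroup.coe_mul, Subgroup.coe_mul, xGr_coe, xGr_coe]
    exact hcm.eq.symm
  rw [hcm'] at C2
  have C3 : θ₁ (xGr D hD F d ((k : F) * -1 * ε)) = 1 := by
    exact left_eq_mul.1 C2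
  have C4 : xGr D hD F d ((k : F) * -1 * ε) = xGr D hD F d 0 := by
    rw [xGr_zero]
    exact (map_eq_one_iff θ₁ θ₁.injective).1 C3
  have C5 := xGr_injective D hD F d hd _ _ C4
  have : (k : F) = -(((k : F) * -1 * ε) * ε) := by
    linear_combination (-(k : F)) * hε
  rw [this, C5]; ring

end core

section facts

theorem noLong_D4 : ∀ k < chevD4.rank, chevD4.isLong (chevD4.simple k) = false := by decide +kernel
theorem noLong_E6 : ∀ k < chevE6.rank, chevE6.isLong (chevE6.simple k) = false := by decide +kernel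
theorem noLong_E7 : ∀ k < chevE7.rank, chevE7.isLong (chevE7.simple k) = false := by decide +kernel
theorem noLong_E8 : ∀ k < chevE8.rank, chevE8.isLong (chevE8.simple k) = false := by decide +kernel

theorem permB2 : ∀ π : Equiv.Perm (Fin chevB2.rank),
    (∃ i : Fin chevB2.rank, chevB2.isLong (chevB2.simple (π i)) ≠ chevB2.isLong (chevB2.simple i)) →
    (π ⟨0, by decide⟩ : Fin chevB2.rank) = ⟨1, by decide⟩ ∧
      (π ⟨1, by decide⟩ : Fin chevB2.rank) = ⟨0, by decide⟩ := by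
  decide +kernel

theorem permG2 : ∀ π : Equiv.Perm (Fin chevG2.rank),
    (∃ i : Fin chevG2.rank, chevG2.isLong (chevG2.simple (π i)) ≠ chevG2.isLong (chevG2.simple i)) →
    (π ⟨0, by decide⟩ : Fin chevG2.rank) = ⟨1, by decide⟩ ∧
      (π ⟨1, by decide⟩ : Fin chevG2.rank) = ⟨0, by decide⟩ := by
  decide +kernel

theorem permF4 : ∀ π : Equiv.Perm (Fin chevF4.rank),
    (∀ i j : Fin chevF4.rank, i ≠ j → chevF4.bonds (π i) (π j) = chevF4.bonds i j) →
    (∃ i : Fin chevF4.rank, chevF4.isLong (chevF4.simple (π i)) ≠ chevF4.isLong (chevF4.simple i)) →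
    (π ⟨1, by decide⟩ : Fin chevF4.rank) = ⟨2, by decide⟩ ∧
      (π ⟨2, by decide⟩ : Fin chevF4.rank) = ⟨1, by decide⟩ := by
  decide +kernel

theorem b2_T6_facts : chevB2.simple 0 < chevB2.nroots ∧ chevB2.simple 1 < chevB2.nroots ∧
    0 < chevB2.rank ∧ 1 < chevB2.rank ∧ 7 < chevB2.nroots ∧
    wRoot chevB2 [1] (chevB2.simple 0) ≠ chevB2.simple 0 ∧
    wRoot chevB2 [1] (chevB2.simple 0) ≠ chevB2.neg (chevB2.simple 0) ∧
    chevB2.commTerms (chevB2.simple 0) (wRoot chevB2 [1] (chevB2.simple 0)) = [(7, 2, 1, 1)] ∧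
    wRoot chevB2 [0] (chevB2.simple 1) ≠ chevB2.simple 1 ∧
    wRoot chevB2 [0] (chevB2.simple 1) ≠ chevB2.neg (chevB2.simple 1) ∧
    chevB2.commTerms (chevB2.simple 1) (wRoot chevB2 [0] (chevB2.simple 1)) = [] := by decide +kernel

theorem g2_T6_facts : chevG2.simple 0 < chevG2.nroots ∧ chevG2.simple 1 < chevG2.nroots ∧
    0 < chevG2.rank ∧ 1 < chevG2.rank ∧ 10 < chevG2.nroots ∧
    wRoot chevG2 [0, 1] (chevG2.simple 0) ≠ chevG2.simple 0 ∧
    wRoot chevG2 [0, 1] (chevG2.simple 0) ≠ chevG2.neg (chevG2.simple 0) ∧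
    chevG2.commTerms (chevG2.simple 0) (wRoot chevG2 [0, 1] (chevG2.simple 0)) = [(10, 3, 1, 1)] ∧
    wRoot chevG2 [1, 0] (chevG2.simple 1) ≠ chevG2.simple 1 ∧
    wRoot chevG2 [1, 0] (chevG2.simple 1) ≠ chevG2.neg (chevG2.simple 1) ∧
    chevG2.commTerms (chevG2.simple 1) (wRoot chevG2 [1, 0] (chevG2.simple 1)) = [] := by decide +kernel

theorem f4_T6_facts : chevF4.simple 1 < chevF4.nroots ∧ chevF4.simple 2 < chevF4.nroots ∧
    1 < chevF4.rank ∧ 2 < chevF4.rank ∧ 30 < chevF4.nroots ∧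
    wRoot chevF4 [2] (chevF4.simple 1) ≠ chevF4.simple 1 ∧
    wRoot chevF4 [2] (chevF4.simple 1) ≠ chevF4.neg (chevF4.simple 1) ∧
    chevF4.commTerms (chevF4.simple 1) (wRoot chevF4 [2] (chevF4.simple 1)) = [(30, 2, 1, 1)] ∧
    wRoot chevF4 [1] (chevF4.simple 2) ≠ chevF4.simple 2 ∧
    wRoot chevF4 [1] (chevF4.simple 2) ≠ chevF4.neg (chevF4.simple 2) ∧
    chevF4.commTerms (chevF4.simple 2) (wRoot chevF4 [1] (chevF4.simple 2)) = [] := by decide +kernel

end facts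

section main
variable (D : ChevalleyDatum) (hD : D ∈ [chevG2, chevB2, chevD4, chevF4, chevE6, chevE7, chevE8])
variable (F : Type*) [Field F]

theorem ringChar_two (h : ((2 : ℤ) : F) = 0) : ringChar F = 2 :=
  CharP.ringChar_of_prime_eq_zero Nat.prime_two (by exact_mod_cast h)

theorem ringChar_three (h : ((3 : ℤ) : F) = 0) : ringChar F = 3 :=
  CharP.ringChar_of_prime_eq_zero Nat.prime_three (by exact_mod_cast h)

/-- T6: a length-swapping permutation forces the characteristic. -/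
theorem T6_char [Finite F] (θ₁ : ↥(D.group F) ≃* ↥(D.group F)) (π : Equiv.Perm (Fin D.rank))
    (hπ : D.IsDiagramSymmetry π) (σ : Fin D.rank → F ≃+* F)
    (h : ∀ (i : Fin D.rank) (t : F),
      θ₁ (xGr D hD F (D.simple i) t) = xGr D hD F (D.simple (π i)) (σ i t) ∧
      θ₁ (xGr D hD F (D.neg (D.simple i)) t) = xGr D hD F (D.neg (D.simple (π i))) (σ i t))
    (hs : SwapsLength D π) : SwapChar D F := by
  have hD' := hD
  simp only [List.mem_cons, List.not_mem_nil, or_false] at hD'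
  rcases hD' with rfl | rfl | rfl | rfl | rfl | rfl | rfl
  · -- G2
    obtain ⟨h01, h10⟩ := permG2 π hs
    obtain ⟨ha, hb, hr0, hr1, hd, c1, c2, ct, c1', c2', ct'⟩ := g2_T6_facts
    have H0 := h ⟨0, hr0⟩
    have H1 := h ⟨1, hr1⟩
    rw [h01] at H0
    rw [h10] at H1
    have key := T6_core chevG2 hD F θ₁ (chevG2.simple 0) (chevG2.simple 1) ha hb (σ ⟨0, hr0⟩)
      (fun t => (H0 t).1) [0, 1] [1, 0] (by decide) (by decide)
      (by
        have e0 := map_nGr chevG2 hD F θ₁ 0 1 (σ ⟨0, hr0⟩) (fun t => (H0 t).1) (fun t => (H0 t).2)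
        have e1 := map_nGr chevG2 hD F θ₁ 1 0 (σ ⟨1, hr1⟩) (fun t => (H1 t).1) (fun t => (H1 t).2)
        simp only [nWordGr, List.map_cons, List.map_nil, List.prod_cons, List.prod_nil, map_mul, map_one, e0, e1])
      10 3 hd c1 c2 ct c1' c2' ct'
    exact Or.inr ⟨rfl, ringChar_three F key⟩
  · -- B2
    obtain ⟨h01, h10⟩ := permB2 π hs
    obtain ⟨ha, hb, hr0, hr1, hd, c1, c2, ct, c1', c2', ct'⟩ := b2_T6_facts
    have H0 := h ⟨0, hr0⟩
    have H1 := h ⟨1, hr1⟩
    rw [h01] at H0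
    rw [h10] at H1
    have key := T6_core chevB2 hD F θ₁ (chevB2.simple 0) (chevB2.simple 1) ha hb (σ ⟨0, hr0⟩)
      (fun t => (H0 t).1) [1] [0] (by decide) (by decide)
      (by
        have e1 := map_nGr chevB2 hD F θ₁ 1 0 (σ ⟨1, hr1⟩) (fun t => (H1 t).1) (fun t => (H1 t).2)
        simp only [nWordGr, List.map_cons, List.map_nil, List.prod_cons, List.prod_nil, map_mul, map_one, e1])
      7 2 hd c1 c2 ct c1' c2' ct'
    exact Or.inl ⟨Or.inl rfl, ringChar_two F key⟩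
  · -- D4
    obtain ⟨i, hi⟩ := hs
    exact absurd (by rw [noLong_D4 _ i.2, noLong_D4 _ (π i).2]) hi
  · -- F4
    obtain ⟨h12, h21⟩ := permF4 π hπ hs
    obtain ⟨ha, hb, hr1, hr2, hd, c1, c2, ct, c1', c2', ct'⟩ := f4_T6_facts
    have H1 := h ⟨1, hr1⟩
    have H2 := h ⟨2, hr2⟩
    rw [h12] at H1
    rw [h21] at H2
    have key := T6_core chevF4 hD F θ₁ (chevF4.simple 1) (chevF4.simple 2) ha hb (σ ⟨1, hr1⟩)
      (fun t => (H1 t).1) [2] [1] (by decide) (by decide)
      (by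
        have e2 := map_nGr chevF4 hD F θ₁ 2 1 (σ ⟨2, hr2⟩) (fun t => (H2 t).1) (fun t => (H2 t).2)
        simp only [nWordGr, List.map_cons, List.map_nil, List.prod_cons, List.prod_nil, map_mul, map_one, e2])
      30 2 hd c1 c2 ct c1' c2' ct'
    exact Or.inl ⟨Or.inr rfl, ringChar_two F key⟩
  · -- E6
    obtain ⟨i, hi⟩ := hs
    exact absurd (by rw [noLong_E6 _ i.2, noLong_E6 _ (π i).2]) hi
  · -- E7
    obtain ⟨i, hi⟩ := hs
    exact absurd (by rw [noLong_E7 _ i.2, noLong_E7 _ (π i).2]) hi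
  · -- E8
    obtain ⟨i, hi⟩ := hs
    exact absurd (by rw [noLong_E8 _ i.2, noLong_E8 _ (π i).2]) hi

end main

end Cfsg.Agent.Lib.Helper31.Au
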