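import Cfsg.Agent.Lib.Helper80.St_SW1

/-! # Steinberg hive (helper6), leaf ST-SW3: one-sided parabolic decomposition in an exchange
system (by helper31). -/

set_option autoImplicit false

namespace Cfsg.Agent.Lib.Helper6.St

open Cfsg.Agent.Lib.Helper6 Cfsg.Agent.Lib.Helper6.Exch

section W
variable {W : Type*} [Group W] {ι : Type*} {σ : ι → W}

/-- deletion condition (private copy, so that this file only needs SW1) -/
lemma sw3_deletion (h : ExSys σ) : ∀ {L : List ι}, ¬ IsRed σ L →
    ∃ a b, a < b ∧ b < L.length ∧ wp σ L = wp σ ((L.eraseIdx b).eraseIdx a) := by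
  intro L
  induction L with
  | nil => intro hL; exact absurd isRed_nil hL
  | cons i L' ih =>
    intro hL
    by_cases hL' : IsRed σ L'
    · obtain ⟨j, hj, hw⟩ := sw1_exch_eraseIdx h hL' hL
      refine ⟨0, j + 1, Nat.succ_pos j, by simpa using hj, ?_⟩
      rw [wp_cons, hw]
      simp
    · obtain ⟨a, b, hab, hb, hw⟩ := ih hL'
      refine ⟨a + 1, b + 1, by omega, by simpa using hb, ?_⟩
      rw [wp_cons, hw]
      simp

/-- products of `J`-words lie in `W_J` -/
lemma sw3_wp_mem (J : Set ι) (L : List ι) (hL : ∀ x ∈ L, x ∈ J) : wp σ L ∈ WJ σ J := by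
  induction L with
  | nil => rw [wp_nil]; exact Subgroup.one_mem _
  | cons i L ih =>
    rw [wp_cons]
    exact Subgroup.mul_mem _ (Subgroup.subset_closure ⟨i, hL i List.mem_cons_self, rfl⟩)
      (ih (fun x hx => hL x (List.mem_cons_of_mem _ hx)))

theorem mem_WJ_iff (h : ExSys σ) (J : Set ι) {v : W} :
    v ∈ WJ σ J ↔ ∃ L : List ι, (∀ x ∈ L, x ∈ J) ∧ wp σ L = v := by
  constructor
  · intro hv
    unfold WJ at hv
    induction hv using Subgroup.closure_induction with
    | mem x hx =>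
      obtain ⟨j, hj, rfl⟩ := hx
      exact ⟨[j], by simpa using hj, wp_singleton σ j⟩
    | one => exact ⟨[], by simp, wp_nil σ⟩
    | mul x y _ _ ihx ihy =>
      obtain ⟨L1, h1, rfl⟩ := ihx
      obtain ⟨L2, h2, rfl⟩ := ihy
      refine ⟨L1 ++ L2, ?_, wp_append σ L1 L2⟩
      intro x hx
      rcases List.mem_append.mp hx with hx | hx
      · exact h1 x hx
      · exact h2 x hx
    | inv x _ ih =>
      obtain ⟨L, hL, rfl⟩ := ih
      exact ⟨L.reverse, fun x hx => hL x (List.mem_reverse.mp hx), wp_reverse h L⟩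
  · rintro ⟨L, hL, rfl⟩
    exact sw3_wp_mem J L hL

theorem exists_isRed_WJ (h : ExSys σ) (J : Set ι) {v : W} (hv : v ∈ WJ σ J) :
    ∃ L : List ι, (∀ x ∈ L, x ∈ J) ∧ wp σ L = v ∧ IsRed σ L := by
  classical
  have hex : ∃ n, ∃ L : List ι, L.length = n ∧ (∀ x ∈ L, x ∈ J) ∧ wp σ L = v := by
    obtain ⟨L, hL, hw⟩ := (mem_WJ_iff h J).mp hv
    exact ⟨L.length, L, rfl, hL, hw⟩
  obtain ⟨L, hLn, hLJ, hLw⟩ := Nat.find_spec hex
  refine ⟨L, hLJ, hLw, ?_⟩
  by_contra hnr
  obtain ⟨a, b, hab, hb, hw⟩ := sw3_deletion h hnr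
  have hmem : ∀ x ∈ (L.eraseIdx b).eraseIdx a, x ∈ J := fun x hx =>
    hLJ x (List.mem_of_mem_eraseIdx (List.mem_of_mem_eraseIdx hx))
  have hlen1 : (L.eraseIdx b).length = L.length - 1 := by
    rw [List.length_eraseIdx, if_pos hb]
  have hlen : ((L.eraseIdx b).eraseIdx a).length = L.length - 1 - 1 := by
    rw [List.length_eraseIdx, if_pos (by omega), hlen1]
  have hmin := Nat.find_min' hex ⟨_, rfl, hmem, hw.symm.trans hLw⟩
  omega

/-- additivity for a representative of minimal length in its coset -/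
lemma sw3_add_of_min (h : ExSys σ) (J : Set ι) {d v : W}
    (hd : ∀ x ∈ WJ σ J, ell σ d ≤ ell σ (d * x)) (hv : v ∈ WJ σ J) :
    ell σ (d * v) = ell σ d + ell σ v := by
  obtain ⟨D, hDred, hDw, hDlen⟩ := exists_isRed_eq h d
  obtain ⟨L, hLJ, hLw, hLred⟩ := exists_isRed_WJ h J hv
  have hLlen : L.length = ell σ v := by rw [← hLw]; exact (IsRed.ell_eq hLred).symm
  suffices hred : IsRed σ (D ++ L) by
    have := IsRed.ell_eq hred
    rw [wp_append, hDw, hLw, List.length_append, hDlen, hLlen] at this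
    exact this
  by_contra hnr
  obtain ⟨a, b, hab, hb, hw⟩ := sw3_deletion h hnr
  rw [List.length_append] at hb
  by_cases hbD : b < D.length
  · -- both letters in `D`
    have e1 : (D ++ L).eraseIdx b = D.eraseIdx b ++ L := List.eraseIdx_append_of_lt_length hbD L
    have hlen1 : (D.eraseIdx b).length = D.length - 1 := by
      rw [List.length_eraseIdx, if_pos hbD]
    have haD : a < (D.eraseIdx b).length := by omega
    have e2 : (D.eraseIdx b ++ L).eraseIdx a = (D.eraseIdx b).eraseIdx a ++ L :=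
      List.eraseIdx_append_of_lt_length haD L
    rw [e1, e2, wp_append, wp_append] at hw
    have hw' : wp σ ((D.eraseIdx b).eraseIdx a) = wp σ D := (mul_right_cancel hw).symm
    have := hDred _ hw'
    rw [List.length_eraseIdx, if_pos haD, hlen1] at this
    omega
  · push Not at hbD
    have e1 : (D ++ L).eraseIdx b = D ++ L.eraseIdx (b - D.length) :=
      List.eraseIdx_append_of_length_le hbD L
    have hbL : b - D.length < L.length := by omega
    have hlenL : (L.eraseIdx (b - D.length)).length = L.length - 1 := by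
      rw [List.length_eraseIdx, if_pos hbL]
    by_cases haD : a < D.length
    · -- one letter in `D`, one in `L`
      have e2 : (D ++ L.eraseIdx (b - D.length)).eraseIdx a =
          D.eraseIdx a ++ L.eraseIdx (b - D.length) := List.eraseIdx_append_of_lt_length haD _
      rw [e1, e2, wp_append, wp_append, hDw, hLw] at hw
      have hv' : wp σ (L.eraseIdx (b - D.length)) ∈ WJ σ J :=
        sw3_wp_mem J _ (fun x hx => hLJ x (List.mem_of_mem_eraseIdx hx))
      have hd' : wp σ (D.eraseIdx a) = d * (v * (wp σ (L.eraseIdx (b - D.length)))⁻¹) := by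
        rw [← mul_assoc, hw]; group
      have h1 : ell σ d ≤ ell σ (wp σ (D.eraseIdx a)) := by
        rw [hd']
        exact hd _ (Subgroup.mul_mem _ hv (Subgroup.inv_mem _ hv'))
      have h2 : ell σ (wp σ (D.eraseIdx a)) ≤ (D.eraseIdx a).length := ell_wp_le σ _
      rw [List.length_eraseIdx, if_pos haD] at h2
      omega
    · -- both letters in `L`
      push Not at haD
      have e2 : (D ++ L.eraseIdx (b - D.length)).eraseIdx a =
          D ++ (L.eraseIdx (b - D.length)).eraseIdx (a - D.length) :=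
        List.eraseIdx_append_of_length_le haD _
      rw [e1, e2, wp_append, wp_append] at hw
      have hw' := (mul_left_cancel hw).symm
      have := hLred _ hw'
      have haL : a - D.length < (L.eraseIdx (b - D.length)).length := by omega
      rw [List.length_eraseIdx, if_pos haL, hlenL] at this
      omega

/-- a coset `w W_J` contains an element of minimal length -/
lemma sw3_exists_min (σ : ι → W) (J : Set ι) (w : W) :
    ∃ v0 ∈ WJ σ J, ∀ v ∈ WJ σ J, ell σ (w * v0) ≤ ell σ (w * v) := by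
  classical
  have hex : ∃ n, ∃ v ∈ WJ σ J, ell σ (w * v) = n := ⟨_, 1, Subgroup.one_mem _, rfl⟩
  obtain ⟨v0, hv0, hn⟩ := Nat.find_spec hex
  refine ⟨v0, hv0, fun v hv => ?_⟩
  rw [hn]
  exact Nat.find_min' hex ⟨v, hv, rfl⟩

/-- an element without right descents in `J` has minimal length in its coset -/
lemma sw3_min_of_rred (h : ExSys σ) (J : Set ι) {d : W} (hd : RRed σ J d) :
    ∀ x ∈ WJ σ J, ell σ d ≤ ell σ (d * x) := by
  obtain ⟨v0, hv0, hmin⟩ := sw3_exists_min σ J d
  have hd0min : ∀ x ∈ WJ σ J, ell σ (d * v0) ≤ ell σ (d * v0 * x) := by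
    intro x hx
    rw [mul_assoc]
    exact hmin _ (Subgroup.mul_mem _ hv0 hx)
  have huJ : v0⁻¹ ∈ WJ σ J := Subgroup.inv_mem _ hv0
  have hdu : d * v0 * v0⁻¹ = d := by group
  have hadd : ell σ d = ell σ (d * v0) + ell σ v0⁻¹ := by
    have := sw3_add_of_min h J hd0min huJ
    rwa [hdu] at this
  by_cases hu1 : v0⁻¹ = 1
  · have hv01 : v0 = 1 := inv_eq_one.mp hu1
    intro x hx
    have := hd0min x hx
    rwa [hv01, mul_one] at this
  · exfalso
    obtain ⟨L, hLJ, hLw, hLred⟩ := exists_isRed_WJ h J huJ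
    have hLne : L ≠ [] := by
      rintro rfl
      exact hu1 (by rw [← hLw, wp_nil])
    obtain ⟨L', j, rfl⟩ : ∃ L' j, L = L' ++ [j] :=
      ⟨L.dropLast, L.getLast hLne, (List.dropLast_append_getLast hLne).symm⟩
    have hjJ : j ∈ J := hLJ j (by simp)
    have hu' : v0⁻¹ = wp σ L' * σ j := by rw [← hLw, wp_append, wp_singleton]
    have hlen : ell σ v0⁻¹ = L'.length + 1 := by
      rw [← hLw, IsRed.ell_eq hLred]; simp
    have hdj : d * σ j = d * v0 * wp σ L' := by
      have : d = d * v0 * (wp σ L' * σ j) := by rw [← hu', hdu]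
      calc d * σ j = d * v0 * (wp σ L' * σ j) * σ j := by rw [← this]
        _ = d * v0 * wp σ L' * (σ j * σ j) := by simp only [mul_assoc]
        _ = d * v0 * wp σ L' := by rw [h.sq, mul_one]
    have h1 : ell σ (d * σ j) ≤ ell σ (d * v0) + L'.length := by
      rw [hdj]
      exact (ell_mul_le h _ _).trans (Nat.add_le_add_left (ell_wp_le σ L') _)
    have h2 := hd j hjJ
    omega

theorem rred_add (h : ExSys σ) (J : Set ι) {d v : W} (hd : RRed σ J d) (hv : v ∈ WJ σ J) :
    ell σ (d * v) = ell σ d + ell σ v :=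
  sw3_add_of_min h J (sw3_min_of_rred h J hd) hv

theorem exists_rred (h : ExSys σ) (J : Set ι) (w : W) :
    ∃ d v, RRed σ J d ∧ v ∈ WJ σ J ∧ w = d * v := by
  obtain ⟨v0, hv0, hmin⟩ := sw3_exists_min σ J w
  refine ⟨w * v0, v0⁻¹, ?_, Subgroup.inv_mem _ hv0, by group⟩
  intro j hj
  have hσ : σ j ∈ WJ σ J := Subgroup.subset_closure ⟨j, hj, rfl⟩
  have h1 : ell σ (w * v0) ≤ ell σ (w * v0 * σ j) := by
    rw [mul_assoc]
    exact hmin _ (Subgroup.mul_mem _ hv0 hσ)
  rcases ell_mul_gen h (w * v0) j with h2 | h2 <;> omega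

theorem rred_unique (h : ExSys σ) (J : Set ι) {d d' : W} (hd : RRed σ J d) (hd' : RRed σ J d')
    (hdd : d⁻¹ * d' ∈ WJ σ J) : d = d' := by
  have h1 : ell σ (d * (d⁻¹ * d')) = ell σ d + ell σ (d⁻¹ * d') := rred_add h J hd hdd
  have h2 : ell σ (d' * (d⁻¹ * d')⁻¹) = ell σ d' + ell σ (d⁻¹ * d')⁻¹ :=
    rred_add h J hd' (Subgroup.inv_mem _ hdd)
  have e1 : d * (d⁻¹ * d') = d' := by group
  have e2 : d' * (d⁻¹ * d')⁻¹ = d := by group
  rw [e1] at h1
  rw [e2, ell_inv h] at h2
  have h3 : ell σ (d⁻¹ * d') = 0 := by omega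
  have h4 : d⁻¹ * d' = 1 := (ell_eq_zero_iff h).mp h3
  rw [← e1, h4, mul_one]

end W

end Cfsg.Agent.Lib.Helper6.St
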