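import Mathlib
import Cfsg.Agent.Lib.Helper44.TnsDefs
import Cfsg.Agent.Lib.Helper2.BGLin

/-! # TNS-O2a (helper31, for helper44's S5979 hive): the kernel of `g(C)`, `g` irreducible, has
dimension divisible by `deg g` -/

set_option autoImplicit false
open scoped MatrixGroups Kronecker
open Matrix Polynomial

namespace Cfsg.Agent.Lib.Helper44.Tns

universe v

variable {F : Type v} [Field F]

/-- evaluation of a polynomial at a restricted endomorphism -/
theorem tnsO2a_aeval_restrict {V : Type*} [AddCommGroup V] [Module F V] (f : Module.End F V)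
    (W : Submodule F V) (hW : ∀ v ∈ W, f v ∈ W) (Q : F[X]) (w : W) :
    ((aeval (f.restrict hW) Q w : W) : V) = aeval f Q (w : V) := by
  rw [Polynomial.aeval_eq_sum_range, Polynomial.aeval_eq_sum_range, LinearMap.sum_apply,
    LinearMap.sum_apply, Submodule.coe_sum]
  refine Finset.sum_congr rfl fun i _ => ?_
  rw [LinearMap.smul_apply, LinearMap.smul_apply, Submodule.coe_smul, Module.End.pow_restrict i hW]
  rfl

/-- TNS-O2a : kernels of irreducible polynomials have dimension divisible by the degree -/
theorem natDegree_dvd_of_irreducible {b : ℕ} (C : Matrix (Fin b) (Fin b) F) (g : F[X])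
    (hg : Irreducible g) : g.natDegree ∣ b - (aeval C g).rank := by
  classical
  set f : Module.End F (Fin b → F) := Matrix.toLin' C with hf
  have h1 : Matrix.toLin' (aeval C g) = aeval f g := by
    have := Polynomial.aeval_algHom_apply (Matrix.toLinAlgEquiv' (R := F) (n := Fin b)) C g
    exact this.symm
  set W : Submodule F (Fin b → F) := LinearMap.ker (aeval f g) with hWdef
  have hdim : Module.finrank F W = b - (aeval C g).rank := by
    have hrk : (aeval C g).rank = Module.finrank F (LinearMap.range (aeval f g)) := by
      rw [Matrix.rank, ← h1]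
      rfl
    have := LinearMap.finrank_range_add_finrank_ker (aeval f g)
    rw [Module.finrank_fin_fun, ← hWdef] at this
    rw [hrk]
    omega
  have hinv : ∀ v ∈ W, f v ∈ W := Cfsg.Agent.Lib.Helper2.BG.inv_ker_aeval f g
  set f' : Module.End F W := f.restrict hinv with hf'
  have hpoly : aeval f' g = 0 := by
    apply LinearMap.ext
    intro w
    apply Subtype.ext
    rw [tnsO2a_aeval_restrict f W hinv g w]
    have hw : aeval f g (w : Fin b → F) = 0 := LinearMap.mem_ker.mp w.2
    rw [hw]
    rfl
  have hss : f'.IsSemisimple :=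
    Module.End.isSemisimple_of_squarefree_aeval_eq_zero hg.squarefree hpoly
  have hall : Cfsg.Agent.Lib.Helper2.BG.AllIrrDeg g g.natDegree := by
    intro g' hg' hdvd
    have hassoc : Associated g' g := hg'.associated_of_dvd hg hdvd
    exact Polynomial.natDegree_eq_of_degree_eq (Polynomial.degree_eq_degree_of_associated hassoc)
  have := Cfsg.Agent.Lib.Helper2.BG.dvd_finrank_of_inv hss hg.ne_zero hall _ (⊤ : Submodule F W) rfl
    (Cfsg.Agent.Lib.Helper2.BG.inv_top f') (fun v _ => by rw [hpoly]; rfl)
  rw [finrank_top, hdim] at this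
  exact this

end Cfsg.Agent.Lib.Helper44.Tns
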