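import Mathlib
import Cfsg.Agent.Lib.Helper44.TnsDefs

/-! # TNS-K3, K4, K5 (helper31, for helper44's S5979 hive): Kronecker product basics -/

set_option autoImplicit false
open scoped MatrixGroups Kronecker
open Matrix Polynomial

namespace Cfsg.Agent.Lib.Helper44.Tns

universe v

variable {F : Type v} [Field F]

/-- TNS-K3 -/
theorem eq_smul_one_of_kronecker {a b : ℕ} (hb : 0 < b) (A : Matrix (Fin a) (Fin a) F)
    (B : Matrix (Fin b) (Fin b) F) (μ : F) (hμ : μ ≠ 0)
    (h : A ⊗ₖ B = μ • (1 : Matrix (Fin a × Fin b) (Fin a × Fin b) F)) :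
    ∃ z : F, A = z • (1 : Matrix (Fin a) (Fin a) F) := by
  classical
  set k0 : Fin b := ⟨0, hb⟩ with hk0
  have hent : ∀ i j : Fin a, A i j * B k0 k0 = μ * (if i = j then 1 else 0) := by
    intro i j
    have := congrFun (congrFun h (i, k0)) (j, k0)
    rw [Matrix.kroneckerMap_apply, Matrix.smul_apply, Matrix.one_apply, smul_eq_mul] at this
    rw [this]
    by_cases hij : i = j
    · subst hij; simp
    · have : (i, k0) ≠ (j, k0) := fun hh => hij (Prod.ext_iff.mp hh).1
      rw [if_neg this, if_neg hij]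
  refine ⟨μ * (B k0 k0)⁻¹, ?_⟩
  ext i j
  have hB0 : B k0 k0 ≠ 0 := by
    intro h0
    have := hent i i
    rw [h0, mul_zero, if_pos rfl, mul_one] at this
    exact hμ this.symm
  rw [Matrix.smul_apply, Matrix.one_apply, smul_eq_mul]
  have := hent i j
  field_simp
  rw [this]

/-- TNS-K5 -/
theorem kronecker_pow' {a b : ℕ} (A : Matrix (Fin a) (Fin a) F) (B : Matrix (Fin b) (Fin b) F) (k : ℕ) :
    (A ⊗ₖ B) ^ k = (A ^ k) ⊗ₖ (B ^ k) := by
  induction k with
  | zero => simp
  | succ k ih => rw [pow_succ, ih, pow_succ, pow_succ, Matrix.mul_kronecker_mul]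

/-- TNS-K4 -/
theorem aeval_one_kronecker (a : ℕ) {b : ℕ} (C : Matrix (Fin b) (Fin b) F) (h : F[X]) :
    aeval ((1 : Matrix (Fin a) (Fin a) F) ⊗ₖ C) h = (1 : Matrix (Fin a) (Fin a) F) ⊗ₖ aeval C h := by
  induction h using Polynomial.induction_on' with
  | add p q hp hq => rw [map_add, map_add, hp, hq, Matrix.kronecker_add]
  | monomial n c =>
    rw [Polynomial.aeval_monomial, Polynomial.aeval_monomial, kronecker_pow', one_pow,
      Algebra.algebraMap_eq_smul_one, Algebra.algebraMap_eq_smul_one, Matrix.smul_mul, Matrix.one_mul,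
      Matrix.smul_mul, Matrix.one_mul, Matrix.kronecker_smul]

end Cfsg.Agent.Lib.Helper44.Tns
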