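import Mathlib
import Cfsg.Agent.Lib.Helper44.TnsDefs

/-! # TNS-R (helper31, for helper44's S5979 hive): transfer of ranks along `IsKronSimilar` -/

set_option autoImplicit false
open scoped MatrixGroups Kronecker
open Matrix Polynomial

namespace Cfsg.Agent.Lib.Helper44.Tns

universe v

variable {F : Type v} [Field F]

/-- powers of a conjugate (any finite index type) -/
theorem tnsR_conj_pow {ι : Type*} [Fintype ι] [DecidableEq ι] (U U' A : Matrix ι ι F)
    (h1 : U * U' = 1) (h2 : U' * U = 1) (k : ℕ) : (U' * A * U) ^ k = U' * A ^ k * U := by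
  induction k with
  | zero => simp [h2]
  | succ k ih =>
    rw [pow_succ, ih, pow_succ]
    calc U' * A ^ k * U * (U' * A * U) = U' * A ^ k * (U * U') * A * U := by
          simp only [Matrix.mul_assoc]
      _ = U' * (A ^ k * A) * U := by rw [h1, Matrix.mul_one]; simp only [Matrix.mul_assoc]

/-- polynomial evaluation at a conjugate (any finite index type) -/
theorem tnsR_aeval_conj {ι : Type*} [Fintype ι] [DecidableEq ι] (U U' A : Matrix ι ι F)
    (h1 : U * U' = 1) (h2 : U' * U = 1) (Q : F[X]) : aeval (U' * A * U) Q = U' * aeval A Q * U := by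
  rw [Polynomial.aeval_eq_sum_range, Polynomial.aeval_eq_sum_range, Finset.mul_sum, Finset.sum_mul]
  refine Finset.sum_congr rfl fun i _ => ?_
  rw [tnsR_conj_pow U U' A h1 h2, Matrix.mul_smul, Matrix.smul_mul]

/-- rank of a conjugate -/
theorem tnsR_rank_conj {ι : Type*} [Fintype ι] [DecidableEq ι] (U U' M : Matrix ι ι F)
    (h1 : U * U' = 1) (h2 : U' * U = 1) : (U' * M * U).rank = M.rank := by
  have hU : IsUnit U.det := by
    have := congrArg Matrix.det h1
    rw [Matrix.det_mul, Matrix.det_one] at this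
    exact IsUnit.of_mul_eq_one _ this
  have hU' : IsUnit U'.det := by
    have := congrArg Matrix.det h2
    rw [Matrix.det_mul, Matrix.det_one] at this
    exact IsUnit.of_mul_eq_one _ this
  rw [Matrix.rank_mul_eq_left_of_isUnit_det _ _ hU, Matrix.rank_mul_eq_right_of_isUnit_det _ _ hU']

/-- TNS-R -/
theorem exists_rank_of_isKronSimilar {n a b : ℕ} (e : Fin n ≃ Fin a × Fin b)
    (x : Matrix (Fin n) (Fin n) F) (h : IsKronSimilar a b e x) :
    ∃ (A : Matrix (Fin a) (Fin a) F) (B : Matrix (Fin b) (Fin b) F), IsUnit A.det ∧ IsUnit B.det ∧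
      (∀ f : F[X], (aeval x f).rank = (aeval (A ⊗ₖ B) f).rank) ∧
      (∀ k : ℕ, x ^ k = 1 → (A ⊗ₖ B) ^ k = 1) := by
  obtain ⟨A, B, V, V', hA, hB, hVV', hx⟩ := h
  have hV'V : V' * V = 1 := mul_eq_one_comm.mp hVV'
  -- `A ⊗ B = V' * reindex e e x * V`
  have hAB : A ⊗ₖ B = V' * Matrix.reindex e e x * V := by
    rw [hx]
    calc A ⊗ₖ B = (V' * V) * (A ⊗ₖ B) * (V' * V) := by rw [hV'V, Matrix.one_mul, Matrix.mul_one]
      _ = V' * (V * (A ⊗ₖ B) * V') * V := by simp only [Matrix.mul_assoc]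
  -- reindexing as an algebra equivalence
  have hre : ∀ M : Matrix (Fin n) (Fin n) F, Matrix.reindex e e M = Matrix.reindexAlgEquiv F F e M := by
    intro M; rfl
  refine ⟨A, B, hA, hB, ?_, ?_⟩
  · intro f
    rw [hAB, tnsR_aeval_conj V V' _ hVV' hV'V, tnsR_rank_conj V V' _ hVV' hV'V, hre,
      Polynomial.aeval_algHom_apply, ← hre, Matrix.rank_reindex]
  · intro k hk
    rw [hAB, tnsR_conj_pow V V' _ hVV' hV'V, hre, ← map_pow, hk, map_one, Matrix.mul_one, hV'V]

end Cfsg.Agent.Lib.Helper44.Tns
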