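import Mathlib

set_option autoImplicit false
set_option linter.style.haveILetI false

/-!
# S4067 leaf AO-E (for helper67): a central automorphism moving classes.
-/

namespace Cfsg.Agent.Lib.Helper67.AO

open scoped commutatorElement

theorem h31e_mem_of_coprime {G : Type*} [Group G] (H : Subgroup G) (u : G) (m p : ℕ)
    (hmp : Nat.Coprime m p) (hm : u ^ m ∈ H) (hpz : u ^ p ∈ H) : u ∈ H := by
  have h1 : ((Nat.gcd m p : ℕ) : ℤ) = m * Nat.gcdA m p + p * Nat.gcdB m p := Nat.gcd_eq_gcd_ab m p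
  rw [hmp.gcd_eq_one] at h1
  have h2 : u = (u ^ m) ^ (Nat.gcdA m p) * (u ^ p) ^ (Nat.gcdB m p) := by
    rw [← zpow_natCast u m, ← zpow_natCast u p, ← zpow_mul, ← zpow_mul, ← zpow_add, ← h1]
    simp
  rw [h2]
  exact Subgroup.mul_mem _ (Subgroup.zpow_mem _ hm _) (Subgroup.zpow_mem _ hpz _)

/-- (AO-E, central automorphism). -/
theorem exists_central_moving {G : Type*} [Group G] [Finite G] {p : ℕ} (hp : p.Prime)
    (hZ : commutator G ≤ Subgroup.center G) (hc : Nat.card (commutator G) = p)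
    (e : G) (heZ : e ∈ Subgroup.center G) (hep : e ^ p = 1) (he : e ∉ commutator G) (u : G) :
    ∃ β : MulAut G, ∀ g : G, ⁅u, g⁆ ≠ 1 → ¬ IsConj g (β g) := by
  haveI : Fact p.Prime := ⟨hp⟩
  by_cases hall : ∀ g : G, ⁅u, g⁆ = 1
  · exact ⟨1, fun g hg => absurd (hall g) hg⟩
  push Not at hall
  obtain ⟨g0, hg0⟩ := hall
  have hcomm_mem : ∀ x y : G, ⁅x, y⁆ ∈ commutator G := fun x y =>
    Subgroup.commutator_mem_commutator (Subgroup.mem_top x) (Subgroup.mem_top y)
  set c : G := ⁅u, g0⁆ with hcdef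
  have hcG : c ∈ commutator G := hcomm_mem u g0
  have hc1 : c ≠ 1 := hg0
  have hek : ∀ (k : ℕ) (x : G), x * e ^ k = e ^ k * x := fun k x =>
    Subgroup.mem_center_iff.mp (Subgroup.pow_mem _ heZ k) x
  have hcp : c ^ p = 1 := by
    have h1 := pow_card_eq_one' (G := commutator G) (x := ⟨c, hcG⟩)
    rw [hc] at h1
    have h2 := congrArg Subtype.val h1
    simpa using h2
  have hord : orderOf c = p := orderOf_eq_prime hcp hc1
  have hcmod : ∀ m n : ℕ, c ^ m = c ^ n → m ≡ n [MOD p] := by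
    intro m n h
    rw [← hord]
    exact pow_eq_pow_iff_modEq.mp h
  have hemod : ∀ m n : ℕ, m ≡ n [MOD p] → e ^ m = e ^ n := by
    intro m n h
    rw [← pow_mod_orderOf e m, ← pow_mod_orderOf e n]
    congr 1
    exact Nat.ModEq.of_dvd (orderOf_dvd_of_pow_eq_one hep) h
  have hex : ∀ g : G, ∃ a : ℕ, ⁅u, g⁆ = c ^ a := by
    intro g
    have hne : (⟨c, hcG⟩ : commutator G) ≠ 1 := fun h => hc1 (congrArg Subtype.val h)
    have hmem : (⟨⁅u, g⁆, hcomm_mem u g⟩ : commutator G) ∈
        Submonoid.powers (⟨c, hcG⟩ : commutator G) := mem_powers_of_prime_card hc hne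
    obtain ⟨a, ha⟩ := hmem
    refine ⟨a, ?_⟩
    have h2 := congrArg Subtype.val ha
    simpa using h2.symm
  choose a ha using hex
  have hcomm_mul : ∀ g h : G, ⁅u, g * h⁆ = ⁅u, g⁆ * ⁅u, h⁆ := by
    intro g h
    have h1 : g * ⁅u, h⁆ = ⁅u, h⁆ * g := Subgroup.mem_center_iff.mp (hZ (hcomm_mem u h)) g
    calc ⁅u, g * h⁆ = ⁅u, g⁆ * (g * ⁅u, h⁆) * g⁻¹ := by
          simp only [commutatorElement_def]; group
      _ = ⁅u, g⁆ * (⁅u, h⁆ * g) * g⁻¹ := by rw [h1]
      _ = ⁅u, g⁆ * ⁅u, h⁆ := by group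
  have hamul : ∀ g h : G, a (g * h) ≡ a g + a h [MOD p] := by
    intro g h
    apply hcmod
    rw [← ha, hcomm_mul, ha g, ha h, pow_add]
  have ha1 : a 1 ≡ 0 [MOD p] := by
    apply hcmod
    rw [← ha, pow_zero]
    simp [commutatorElement_def]
  let βh : G →* G :=
    { toFun := fun g => g * e ^ (a g)
      map_one' := by
        show 1 * e ^ (a 1) = 1
        rw [one_mul, hemod _ _ ha1, pow_zero]
      map_mul' := by
        intro g h
        show g * h * e ^ (a (g * h)) = g * e ^ (a g) * (h * e ^ (a h))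
        rw [hemod _ _ (hamul g h), pow_add]
        calc g * h * (e ^ a g * e ^ a h) = g * (h * e ^ a g) * e ^ a h := by
              simp only [mul_assoc]
          _ = g * (e ^ a g * h) * e ^ a h := by rw [hek (a g) h]
          _ = g * e ^ a g * (h * e ^ a h) := by simp only [mul_assoc] }
  have hβapp : ∀ g, βh g = g * e ^ (a g) := fun g => rfl
  have hinj : Function.Injective βh := by
    rw [injective_iff_map_eq_one]
    intro g hg
    rw [hβapp] at hg
    have hg' : g = (e ^ (a g))⁻¹ := eq_inv_of_mul_eq_one_left hg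
    have hgZ : g ∈ Subgroup.center G := by
      rw [hg']
      exact Subgroup.inv_mem _ (Subgroup.pow_mem _ heZ _)
    have hug : ⁅u, g⁆ = 1 := by
      rw [commutatorElement_eq_one_iff_mul_comm]
      exact Subgroup.mem_center_iff.mp hgZ u
    have h0 : a g ≡ 0 [MOD p] := by
      apply hcmod
      rw [← ha, hug, pow_zero]
    rw [hemod _ _ h0, pow_zero, mul_one] at hg
    exact hg
  have hbij : Function.Bijective βh := Finite.injective_iff_bijective.mp hinj
  refine ⟨MulEquiv.ofBijective βh hbij, ?_⟩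
  intro g hg hconjg
  have hβg : (MulEquiv.ofBijective βh hbij) g = g * e ^ (a g) := rfl
  rw [hβg, isConj_iff] at hconjg
  obtain ⟨x, hx⟩ := hconjg
  have hemem : e ^ (a g) ∈ commutator G := by
    have h1 : e ^ (a g) = ⁅g⁻¹, x⁆ := by
      rw [commutatorElement_def, inv_inv]
      calc e ^ (a g) = g⁻¹ * (g * e ^ (a g)) := by group
        _ = g⁻¹ * (x * g * x⁻¹) := by rw [hx]
        _ = g⁻¹ * x * g * x⁻¹ := by group
    rw [h1]
    exact hcomm_mem _ _
  have hndvd : ¬ p ∣ a g := by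
    intro hd
    apply hg
    rw [ha g]
    obtain ⟨k, hk⟩ := hd
    rw [hk, pow_mul, hcp, one_pow]
  have hcop : Nat.Coprime (a g) p :=
    (Nat.Coprime.symm ((Nat.Prime.coprime_iff_not_dvd hp).mpr hndvd))
  exact he (h31e_mem_of_coprime (commutator G) e (a g) p hcop hemem
    (by rw [hep]; exact Subgroup.one_mem _))

end Cfsg.Agent.Lib.Helper67.AO
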