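import Mathlib

set_option autoImplicit false
set_option linter.style.haveILetI false

/-!
# S4067 leaf AO-T (for helper67): the transvection automorphism of a class-2 group with `|G'| = p`.
-/

namespace Cfsg.Agent.Lib.Helper67.AO

open scoped commutatorElement

theorem h31_choose_two_add (a b : ℕ) :
    (a + b).choose 2 = a.choose 2 + b.choose 2 + a * b := by
  induction b with
  | zero => simp
  | succ b ih =>
    rw [← add_assoc, Nat.choose_succ_succ' (a + b) 1, Nat.choose_succ_succ' b 1, ih,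
      Nat.choose_one_right, Nat.choose_one_right]
    ring

theorem h31_mem_center_of_coprime {G : Type*} [Group G] (u : G) (m p : ℕ) (hmp : Nat.Coprime m p)
    (hm : u ^ m ∈ Subgroup.center G) (hpz : u ^ p ∈ Subgroup.center G) :
    u ∈ Subgroup.center G := by
  have h1 : ((Nat.gcd m p : ℕ) : ℤ) = m * Nat.gcdA m p + p * Nat.gcdB m p := Nat.gcd_eq_gcd_ab m p
  rw [hmp.gcd_eq_one] at h1
  have h2 : u = (u ^ m) ^ (Nat.gcdA m p) * (u ^ p) ^ (Nat.gcdB m p) := by
    rw [← zpow_natCast u m, ← zpow_natCast u p, ← zpow_mul, ← zpow_mul, ← zpow_add, ← h1]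
    simp
  rw [h2]
  exact Subgroup.mul_mem _ (Subgroup.zpow_mem _ hm _) (Subgroup.zpow_mem _ hpz _)

/-- (AO-T, transvection). -/
theorem exists_transvection {G : Type*} [Group G] [Finite G] {p : ℕ} (hp : p.Prime)
    (hZ : commutator G ≤ Subgroup.center G) (hc : Nat.card (commutator G) = p)
    (u : G) (hu : u ∉ Subgroup.center G) (c : G) (hcG : c ∈ commutator G) (hc1 : c ≠ 1)
    (hup : u ^ p * c ^ (p.choose 2) = 1) :
    ∃ β : MulAut G, ∀ g : G, ⁅u, g⁆ ≠ 1 → ¬ IsConj g (β g) := by
  haveI : Fact p.Prime := ⟨hp⟩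
  have hcomm_mem : ∀ x y : G, ⁅x, y⁆ ∈ commutator G := fun x y =>
    Subgroup.commutator_mem_commutator (Subgroup.mem_top x) (Subgroup.mem_top y)
  -- central powers of `c`
  have hck : ∀ (k : ℕ) (x : G), x * c ^ k = c ^ k * x := fun k x =>
    Subgroup.mem_center_iff.mp (Subgroup.pow_mem _ (hZ hcG) k) x
  have hcp : c ^ p = 1 := by
    have h1 := pow_card_eq_one' (G := commutator G) (x := ⟨c, hcG⟩)
    rw [hc] at h1
    have h2 := congrArg Subtype.val h1
    simpa using h2
  have hord : orderOf c = p := orderOf_eq_prime hcp hc1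
  have hcmod : ∀ m n : ℕ, c ^ m = c ^ n → m ≡ n [MOD p] := by
    intro m n h
    rw [← hord]
    exact pow_eq_pow_iff_modEq.mp h
  have hex : ∀ g : G, ∃ a : ℕ, ⁅u, g⁆ = c ^ a := by
    intro g
    have hne : (⟨c, hcG⟩ : commutator G) ≠ 1 := fun h => hc1 (congrArg Subtype.val h)
    have hmem : (⟨⁅u, g⁆, hcomm_mem u g⟩ : commutator G) ∈
        Submonoid.powers (⟨c, hcG⟩ : commutator G) := mem_powers_of_prime_card hc hne
    obtain ⟨a, ha⟩ := hmem
    refine ⟨a, ?_⟩
    have h2 := congrArg Subtype.val ha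
    simpa using h2.symm
  choose a ha using hex
  -- the function `F`
  set F : ℕ → G := fun n => u ^ n * c ^ (n.choose 2) with hF
  have hF0 : F 0 = 1 := by simp [hF]
  have hFp : F p = 1 := hup
  have hFadd : ∀ m n : ℕ, F (m + n) = F m * F n * c ^ (m * n) := by
    intro m n
    simp only [hF]
    rw [h31_choose_two_add, pow_add, pow_add, pow_add]
    -- u^m * u^n * (c^A * c^B * c^(mn)) = u^m * c^A * (u^n * c^B) * c^(mn)
    have h1 : u ^ n * c ^ m.choose 2 = c ^ m.choose 2 * u ^ n := hck _ _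
    calc u ^ m * u ^ n * (c ^ m.choose 2 * c ^ n.choose 2 * c ^ (m * n))
        = u ^ m * (u ^ n * c ^ m.choose 2) * c ^ n.choose 2 * c ^ (m * n) := by
          simp only [mul_assoc]
      _ = u ^ m * (c ^ m.choose 2 * u ^ n) * c ^ n.choose 2 * c ^ (m * n) := by rw [h1]
      _ = u ^ m * c ^ m.choose 2 * (u ^ n * c ^ n.choose 2) * c ^ (m * n) := by
          simp only [mul_assoc]
  have hFstep : ∀ m : ℕ, F (m + p) = F m := by
    intro m
    rw [hFadd, hFp, mul_one, mul_comm m p, pow_mul, hcp, one_pow, mul_one]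
  have hFmul : ∀ k m : ℕ, F (m + k * p) = F m := by
    intro k
    induction k with
    | zero => intro m; simp
    | succ k ih => intro m; rw [Nat.succ_mul, ← add_assoc, hFstep, ih]
  have hFmod : ∀ m : ℕ, F m = F (m % p) := by
    intro m
    conv_lhs => rw [← Nat.mod_add_div m p, mul_comm p (m / p)]
    exact hFmul _ _
  have hFper : ∀ m n : ℕ, m ≡ n [MOD p] → F m = F n := by
    intro m n h
    rw [hFmod m, hFmod n, h]
  -- `a` is additive mod `p`
  have hcomm_mul : ∀ g h : G, ⁅u, g * h⁆ = ⁅u, g⁆ * ⁅u, h⁆ := by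
    intro g h
    have h1 : g * ⁅u, h⁆ = ⁅u, h⁆ * g := Subgroup.mem_center_iff.mp (hZ (hcomm_mem u h)) g
    calc ⁅u, g * h⁆ = ⁅u, g⁆ * (g * ⁅u, h⁆) * g⁻¹ := by
          simp only [commutatorElement_def]; group
      _ = ⁅u, g⁆ * (⁅u, h⁆ * g) * g⁻¹ := by rw [h1]
      _ = ⁅u, g⁆ * ⁅u, h⁆ := by group
  have hamul : ∀ g h : G, a (g * h) ≡ a g + a h [MOD p] := by
    intro g h
    apply hcmod
    rw [← ha, hcomm_mul, ha g, ha h, pow_add]
  have ha1 : a 1 ≡ 0 [MOD p] := by
    apply hcmod
    rw [← ha, pow_zero]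
    simp [commutatorElement_def]
  -- conjugation rule
  have hconj : ∀ (n : ℕ) (h : G), u ^ n * h = h * u ^ n * c ^ (n * a h) := by
    intro n h
    induction n with
    | zero => simp
    | succ n ih =>
      have h1 : u * h = c ^ (a h) * (h * u) := by
        rw [← ha h]; simp only [commutatorElement_def]; group
      calc u ^ (n + 1) * h = u ^ n * (u * h) := by rw [pow_succ, mul_assoc]
        _ = u ^ n * (c ^ (a h) * (h * u)) := by rw [h1]
        _ = (u ^ n * c ^ (a h)) * (h * u) := by rw [mul_assoc]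
        _ = (c ^ (a h) * u ^ n) * (h * u) := by rw [hck]
        _ = c ^ (a h) * ((u ^ n * h) * u) := by simp only [mul_assoc]
        _ = c ^ (a h) * ((h * u ^ n * c ^ (n * a h)) * u) := by rw [ih]
        _ = c ^ (a h) * (h * u ^ n * (c ^ (n * a h) * u)) := by simp only [mul_assoc]
        _ = c ^ (a h) * (h * u ^ n * (u * c ^ (n * a h))) := by rw [← hck (n * a h) u]
        _ = c ^ (a h) * ((h * u ^ (n + 1)) * c ^ (n * a h)) := by
            rw [pow_succ]; simp only [mul_assoc]
        _ = (h * u ^ (n + 1)) * c ^ (n * a h) * c ^ (a h) := by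
            rw [← hck (a h)]
        _ = h * u ^ (n + 1) * c ^ ((n + 1) * a h) := by
            rw [mul_assoc, ← pow_add, Nat.succ_mul]
  have hFconj : ∀ (m : ℕ) (h : G), F m * h = h * F m * c ^ (m * a h) := by
    intro m h
    simp only [hF]
    calc u ^ m * c ^ m.choose 2 * h = u ^ m * (c ^ m.choose 2 * h) := by rw [mul_assoc]
      _ = u ^ m * (h * c ^ m.choose 2) := by rw [hck]
      _ = (u ^ m * h) * c ^ m.choose 2 := by rw [mul_assoc]
      _ = (h * u ^ m * c ^ (m * a h)) * c ^ m.choose 2 := by rw [hconj]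
      _ = h * u ^ m * (c ^ (m * a h) * c ^ m.choose 2) := by rw [mul_assoc]
      _ = h * u ^ m * (c ^ m.choose 2 * c ^ (m * a h)) := by rw [← pow_add, ← pow_add, add_comm]
      _ = h * (u ^ m * c ^ m.choose 2) * c ^ (m * a h) := by simp only [mul_assoc]
  -- the homomorphism
  let βh : G →* G :=
    { toFun := fun g => g * F (a g)
      map_one' := by
        show 1 * F (a 1) = 1
        rw [one_mul, hFper _ _ ha1, hF0]
      map_mul' := by
        intro g h
        show g * h * F (a (g * h)) = g * F (a g) * (h * F (a h))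
        rw [hFper _ _ (hamul g h), hFadd]
        calc g * h * (F (a g) * F (a h) * c ^ (a g * a h))
            = g * (h * F (a g) * c ^ (a g * a h)) * F (a h) := by
              simp only [mul_assoc]; rw [hck (a g * a h) (F (a h))]
          _ = g * (F (a g) * h) * F (a h) := by rw [← hFconj]
          _ = g * F (a g) * (h * F (a h)) := by simp only [mul_assoc] }
  have hβapp : ∀ g, βh g = g * F (a g) := fun g => rfl
  have hFu : ∀ m : ℕ, u * F m = F m * u := by
    intro m
    simp only [hF]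
    calc u * (u ^ m * c ^ m.choose 2) = u ^ m * (u * c ^ m.choose 2) := by
          rw [← mul_assoc, ← pow_succ', pow_succ, mul_assoc]
      _ = u ^ m * (c ^ m.choose 2 * u) := by rw [hck]
      _ = u ^ m * c ^ m.choose 2 * u := by rw [mul_assoc]
  have hinj : Function.Injective βh := by
    rw [injective_iff_map_eq_one]
    intro g hg
    rw [hβapp] at hg
    have hg' : g = (F (a g))⁻¹ := eq_inv_of_mul_eq_one_left hg
    have hug : ⁅u, g⁆ = 1 := by
      rw [commutatorElement_eq_one_iff_mul_comm, hg']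
      have := hFu (a g)
      -- u * F⁻¹ = F⁻¹ * u
      calc u * (F (a g))⁻¹ = (F (a g))⁻¹ * (F (a g) * u) * (F (a g))⁻¹ := by group
        _ = (F (a g))⁻¹ * (u * F (a g)) * (F (a g))⁻¹ := by rw [this]
        _ = (F (a g))⁻¹ * u := by group
    have h0 : a g ≡ 0 [MOD p] := by
      apply hcmod
      rw [← ha, hug, pow_zero]
    rw [hFper _ _ h0, hF0, mul_one] at hg
    exact hg
  have hbij : Function.Bijective βh := Finite.injective_iff_bijective.mp hinj
  refine ⟨MulEquiv.ofBijective βh hbij, ?_⟩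
  intro g hg hconjg
  have hβg : (MulEquiv.ofBijective βh hbij) g = g * F (a g) := rfl
  rw [hβg, isConj_iff] at hconjg
  obtain ⟨x, hx⟩ := hconjg
  -- `F (a g) = g⁻¹ x g x⁻¹ ∈ G'`
  have hFmem : F (a g) ∈ Subgroup.center G := by
    have h1 : F (a g) = ⁅g⁻¹, x⁆ := by
      rw [commutatorElement_def, inv_inv]
      calc F (a g) = g⁻¹ * (g * F (a g)) := by group
        _ = g⁻¹ * (x * g * x⁻¹) := by rw [hx]
        _ = g⁻¹ * x * g * x⁻¹ := by group
    rw [h1]
    exact hZ (hcomm_mem _ _)
  have hum : u ^ (a g) ∈ Subgroup.center G := by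
    have h1 : u ^ (a g) = F (a g) * (c ^ (a g).choose 2)⁻¹ := by
      simp only [hF]; group
    rw [h1]
    exact Subgroup.mul_mem _ hFmem (Subgroup.inv_mem _ (Subgroup.pow_mem _ (hZ hcG) _))
  have hupz : u ^ p ∈ Subgroup.center G := by
    have h1 : u ^ p = (c ^ p.choose 2)⁻¹ := eq_inv_of_mul_eq_one_left hup
    rw [h1]
    exact Subgroup.inv_mem _ (Subgroup.pow_mem _ (hZ hcG) _)
  have hndvd : ¬ p ∣ a g := by
    intro hd
    apply hg
    rw [ha g]
    obtain ⟨k, hk⟩ := hd
    rw [hk, pow_mul, hcp, one_pow]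
  have hcop : Nat.Coprime (a g) p := (Nat.Coprime.symm ((Nat.Prime.coprime_iff_not_dvd hp).mpr hndvd))
  exact hu (h31_mem_center_of_coprime u (a g) p hcop hum hupz)

end Cfsg.Agent.Lib.Helper67.AO
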