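import Mathlib

set_option autoImplicit false
set_option linter.style.haveILetI false

/-!
# S4067 leaf AO-U2 (for helper67): a non-central square root of the generator of `G'`, `|G'| = 2`.
-/

namespace Cfsg.Agent.Lib.Helper67.AO

open scoped commutatorElement

/-- (AO-U2, `p = 2`). -/
theorem exists_noncentral_sq_eq {G : Type*} [Group G] [Finite G]
    (hZ : commutator G ≤ Subgroup.center G) (hc : Nat.card (commutator G) = 2)
    (hidx : 4 * Nat.card (Subgroup.center G) ≤ Nat.card G)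
    (hB : ∀ e ∈ Subgroup.center G, e ^ 2 = 1 → e ∈ commutator G) :
    ∃ u : G, u ∉ Subgroup.center G ∧ u ^ 2 ≠ 1 ∧ u ^ 2 ∈ commutator G := by
  have hcomm_mem : ∀ x y : G, ⁅x, y⁆ ∈ commutator G := fun x y =>
    Subgroup.commutator_mem_commutator (Subgroup.mem_top x) (Subgroup.mem_top y)
  -- the generator `c`
  obtain ⟨⟨c, hcG⟩, hcne, hcuniq⟩ := (Nat.card_eq_two_iff' (1 : commutator G)).mp hc
  have hc1 : c ≠ 1 := fun h => hcne (Subtype.ext h)
  have hG' : ∀ w ∈ commutator G, w = 1 ∨ w = c := by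
    intro w hw
    by_cases hw1 : w = 1
    · exact Or.inl hw1
    · right
      have := hcuniq ⟨w, hw⟩ (fun h => hw1 (congrArg Subtype.val h))
      exact congrArg Subtype.val this
  have hcZ : c ∈ Subgroup.center G := hZ hcG
  have hcc : ∀ x : G, x * c = c * x := fun x => Subgroup.mem_center_iff.mp hcZ x
  have hc2 : c ^ 2 = 1 := by
    have h1 := pow_card_eq_one' (G := commutator G) (x := ⟨c, hcG⟩)
    rw [hc] at h1
    have h2 := congrArg Subtype.val h1
    simpa using h2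
  have hcinv : c⁻¹ = c := by
    rw [inv_eq_iff_mul_eq_one, ← pow_two, hc2]
  -- it suffices to find a non-central `u` with `u ^ 2 = c`
  suffices h : ∃ u : G, u ∉ Subgroup.center G ∧ u ^ 2 = c by
    obtain ⟨u, hu, hu2⟩ := h
    exact ⟨u, hu, by rw [hu2]; exact hc1, by rw [hu2]; exact hcG⟩
  -- commutators are `1` or `c`, central, of square one
  have hk2 : ∀ x y : G, ⁅x, y⁆ ^ 2 = 1 := by
    intro x y
    rcases hG' _ (hcomm_mem x y) with h | h <;> rw [h]
    · exact one_pow 2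
    · exact hc2
  have hkc : ∀ x y z : G, z * ⁅x, y⁆ = ⁅x, y⁆ * z := fun x y z =>
    Subgroup.mem_center_iff.mp (hZ (hcomm_mem x y)) z
  have hswap : ∀ x y : G, x * y = ⁅x, y⁆ * (y * x) := by
    intro x y
    simp only [commutatorElement_def]; group
  -- squares are central
  have hsqZ : ∀ g : G, g ^ 2 ∈ Subgroup.center G := by
    intro g
    rw [Subgroup.mem_center_iff]
    intro h
    -- h * g^2 = g^2 * h
    have e1 : g * h = ⁅g, h⁆ * (h * g) := hswap g h
    calc h * g ^ 2 = (h * g) * g := by rw [pow_two, mul_assoc]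
      _ = ⁅g, h⁆ ^ 2 * ((h * g) * g) := by rw [hk2, one_mul]
      _ = ⁅g, h⁆ * (⁅g, h⁆ * (h * g)) * g := by rw [pow_two]; simp only [mul_assoc]
      _ = ⁅g, h⁆ * (g * h) * g := by rw [← e1]
      _ = (⁅g, h⁆ * g) * (h * g) := by simp only [mul_assoc]
      _ = (g * ⁅g, h⁆) * (h * g) := by rw [hkc g h g]
      _ = g * (⁅g, h⁆ * (h * g)) := by rw [mul_assoc]
      _ = g * (g * h) := by rw [← e1]
      _ = g ^ 2 * h := by rw [pow_two, mul_assoc]
  have hsqmul : ∀ x y : G, (x * y) ^ 2 = ⁅y, x⁆ * x ^ 2 * y ^ 2 := by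
    intro x y
    have e1 : y * x = ⁅y, x⁆ * (x * y) := hswap y x
    calc (x * y) ^ 2 = x * (y * x) * y := by rw [pow_two]; simp only [mul_assoc]
      _ = x * (⁅y, x⁆ * (x * y)) * y := by rw [← e1]
      _ = (x * ⁅y, x⁆) * (x * y) * y := by simp only [mul_assoc]
      _ = (⁅y, x⁆ * x) * (x * y) * y := by rw [hkc y x x]
      _ = ⁅y, x⁆ * x ^ 2 * y ^ 2 := by rw [pow_two, pow_two]; simp only [mul_assoc]
  -- a non-commuting pair
  have hnab : ∃ x0 y0 : G, ⁅x0, y0⁆ ≠ 1 := by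
    by_contra hno
    push Not at hno
    have hbot : commutator G = ⊥ := by
      rw [commutator_def, Subgroup.commutator_eq_bot_iff_le_centralizer]
      intro x _ 
      rw [Subgroup.mem_centralizer_iff]
      intro y _
      have := hno y x
      rw [commutatorElement_eq_one_iff_mul_comm] at this
      exact this
    rw [hbot, Subgroup.card_bot] at hc
    norm_num at hc
  obtain ⟨x0, y0, hxy0⟩ := hnab
  have hxyc : ⁅x0, y0⁆ = c := (hG' _ (hcomm_mem x0 y0)).resolve_left hxy0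
  -- the squaring endomorphism of the centre
  let Zs := Subgroup.center G
  let sq : Zs →* Zs :=
    { toFun := fun z => z ^ 2
      map_one' := one_pow 2
      map_mul' := by
        intro a b
        apply Subtype.ext
        have hab : Commute (a : G) (b : G) := Subgroup.mem_center_iff.mp b.2 a
        simp only [Subgroup.coe_pow, Subgroup.coe_mul]
        exact hab.mul_pow 2 }
  have hsq_apply : ∀ z : Zs, ((sq z : Zs) : G) = (z : G) ^ 2 := fun z => rfl
  have hker : Nat.card sq.ker = 2 := by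
    rw [Nat.card_eq_two_iff' (1 : sq.ker)]
    have hcker : (⟨c, hcZ⟩ : Zs) ∈ sq.ker := by
      rw [MonoidHom.mem_ker]
      apply Subtype.ext
      rw [hsq_apply]
      exact hc2
    refine ⟨⟨⟨c, hcZ⟩, hcker⟩, ?_, ?_⟩
    · intro h
      apply hc1
      have := congrArg (fun w : sq.ker => ((w : Zs) : G)) h
      exact this
    · rintro ⟨⟨w, hwZ⟩, hwk⟩ hw1
      have hw2 : w ^ 2 = 1 := by
        rw [MonoidHom.mem_ker] at hwk
        have := congrArg (fun z : Zs => (z : G)) hwk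
        exact this
      rcases hG' w (hB w hwZ hw2) with h | h
      · exfalso
        apply hw1
        apply Subtype.ext
        apply Subtype.ext
        exact h
      · apply Subtype.ext
        apply Subtype.ext
        exact h
  have hidx2 : sq.range.index = 2 := by
    rw [Subgroup.index_range, hker]
  have hmem_range : ∀ w : Zs, w ∈ sq.range ↔ ∃ z : G, z ∈ Subgroup.center G ∧ z ^ 2 = (w : G) := by
    intro w
    rw [MonoidHom.mem_range]
    constructor
    · rintro ⟨z, hz⟩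
      exact ⟨z, z.2, by rw [← hsq_apply, hz]⟩
    · rintro ⟨z, hzZ, hz⟩
      exact ⟨⟨z, hzZ⟩, Subtype.ext (by rw [hsq_apply]; exact hz)⟩
  have hx0Z : x0 ∉ Subgroup.center G := by
    intro h
    apply hxy0
    rw [commutatorElement_eq_one_iff_mul_comm]
    exact (Subgroup.mem_center_iff.mp h y0).symm
  have hy0Z : y0 ∉ Subgroup.center G := by
    intro h
    apply hxy0
    rw [commutatorElement_eq_one_iff_mul_comm]
    exact Subgroup.mem_center_iff.mp h x0
  -- a non-central element times a central one is non-central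
  have hncmul : ∀ g z : G, g ∉ Subgroup.center G → z ∈ Subgroup.center G →
      g * z ∉ Subgroup.center G := by
    intro g z hg hz hgz
    apply hg
    have : g = (g * z) * z⁻¹ := by group
    rw [this]
    exact Subgroup.mul_mem _ hgz (Subgroup.inv_mem _ hz)
  by_cases hcR : (⟨c, hcZ⟩ : Zs) ∈ sq.range
  · -- case (I): `c = i ^ 2` with `i` central
    obtain ⟨i, hiZ, hi2⟩ := (hmem_range _).mp hcR
    -- find non-central `g` with `g ^ 2 ∈ R`
    have hfind : ∃ g : G, g ∉ Subgroup.center G ∧ (⟨g ^ 2, hsqZ g⟩ : Zs) ∈ sq.range := by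
      by_cases h1 : (⟨x0 ^ 2, hsqZ x0⟩ : Zs) ∈ sq.range
      · exact ⟨x0, hx0Z, h1⟩
      by_cases h2 : (⟨y0 ^ 2, hsqZ y0⟩ : Zs) ∈ sq.range
      · exact ⟨y0, hy0Z, h2⟩
      refine ⟨x0 * y0, ?_, ?_⟩
      · intro h
        apply hxy0
        rw [commutatorElement_eq_one_iff_mul_comm]
        -- x0 * y0 central => x0 commutes with y0
        have e := Subgroup.mem_center_iff.mp h x0
        -- e : x0 * (x0 * y0) = x0 * y0 * x0
        have : x0 * (x0 * y0) = x0 * (y0 * x0) := by rw [e]; simp only [mul_assoc]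
        exact mul_left_cancel this
      · have h12 : (⟨x0 ^ 2, hsqZ x0⟩ : Zs) * ⟨y0 ^ 2, hsqZ y0⟩ ∈ sq.range :=
          (Subgroup.mul_mem_iff_of_index_two hidx2).mpr ⟨fun h => absurd h h1, fun h => absurd h h2⟩
        have hkR : (⟨⁅y0, x0⁆, hZ (hcomm_mem y0 x0)⟩ : Zs) ∈ sq.range := by
          rcases hG' _ (hcomm_mem y0 x0) with h | h
          · have : (⟨⁅y0, x0⁆, hZ (hcomm_mem y0 x0)⟩ : Zs) = 1 := Subtype.ext h
            rw [this]; exact Subgroup.one_mem _
          · have : (⟨⁅y0, x0⁆, hZ (hcomm_mem y0 x0)⟩ : Zs) = ⟨c, hcZ⟩ := Subtype.ext h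
            rw [this]; exact hcR
        have heq : (⟨(x0 * y0) ^ 2, hsqZ (x0 * y0)⟩ : Zs) =
            ⟨⁅y0, x0⁆, hZ (hcomm_mem y0 x0)⟩ * (⟨x0 ^ 2, hsqZ x0⟩ * ⟨y0 ^ 2, hsqZ y0⟩) := by
          apply Subtype.ext
          simp only [Subgroup.coe_mul]
          rw [hsqmul, mul_assoc]
        rw [heq]
        exact Subgroup.mul_mem _ hkR h12
    obtain ⟨g, hgZ, hgR⟩ := hfind
    obtain ⟨z, hzZ, hz2⟩ := (hmem_range _).mp hgR
    have hz2' : z ^ 2 = g ^ 2 := hz2
    refine ⟨g * (z⁻¹ * i), hncmul g _ hgZ (Subgroup.mul_mem _ (Subgroup.inv_mem _ hzZ) hiZ), ?_⟩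
    have hcomm1 : Commute g (z⁻¹ * i) :=
      Subgroup.mem_center_iff.mp (Subgroup.mul_mem _ (Subgroup.inv_mem _ hzZ) hiZ) g
    have hcomm2 : Commute z⁻¹ i := Subgroup.mem_center_iff.mp hiZ z⁻¹
    rw [hcomm1.mul_pow, hcomm2.mul_pow, hi2, inv_pow, hz2', ← mul_assoc, mul_inv_cancel, one_mul]
  · -- case (II): `c ∉ R`
    have hdich : ∀ g : G, ∃ z : G, z ∈ Subgroup.center G ∧ ((g * z⁻¹) ^ 2 = 1 ∨ (g * z⁻¹) ^ 2 = c) := by
      intro g
      by_cases hgR : (⟨g ^ 2, hsqZ g⟩ : Zs) ∈ sq.range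
      · obtain ⟨z, hzZ, hz2⟩ := (hmem_range _).mp hgR
        have hz2' : z ^ 2 = g ^ 2 := hz2
        refine ⟨z, hzZ, Or.inl ?_⟩
        have hcomm1 : Commute g z⁻¹ := Subgroup.mem_center_iff.mp (Subgroup.inv_mem _ hzZ) g
        rw [hcomm1.mul_pow, inv_pow, hz2', mul_inv_cancel]
      · have h12 : (⟨c, hcZ⟩ : Zs) * ⟨g ^ 2, hsqZ g⟩ ∈ sq.range :=
          (Subgroup.mul_mem_iff_of_index_two hidx2).mpr ⟨fun h => absurd h hcR, fun h => absurd h hgR⟩
        obtain ⟨z, hzZ, hz2⟩ := (hmem_range _).mp h12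
        have hz2' : z ^ 2 = c * g ^ 2 := hz2
        refine ⟨z, hzZ, Or.inr ?_⟩
        have hcomm1 : Commute g z⁻¹ := Subgroup.mem_center_iff.mp (Subgroup.inv_mem _ hzZ) g
        rw [hcomm1.mul_pow, inv_pow, hz2', mul_inv_rev, ← mul_assoc, mul_inv_cancel, one_mul, hcinv]
    obtain ⟨z1, hz1Z, hx⟩ := hdich x0
    obtain ⟨z2, hz2Z, hy⟩ := hdich y0
    have hxZ : x0 * z1⁻¹ ∉ Subgroup.center G := hncmul x0 _ hx0Z (Subgroup.inv_mem _ hz1Z)
    have hyZ : y0 * z2⁻¹ ∉ Subgroup.center G := hncmul y0 _ hy0Z (Subgroup.inv_mem _ hz2Z)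
    rcases hx with hx | hx
    swap
    · exact ⟨_, hxZ, hx⟩
    rcases hy with hy | hy
    swap
    · exact ⟨_, hyZ, hy⟩
    -- both `x`, `y` are involutions; they do not commute
    set x := x0 * z1⁻¹ with hxdef
    set y := y0 * z2⁻¹ with hydef
    have hncomm : ⁅y, x⁆ ≠ 1 := by
      intro h
      rw [commutatorElement_eq_one_iff_mul_comm] at h
      apply hxy0
      rw [commutatorElement_eq_one_iff_mul_comm]
      have hz1c : ∀ w : G, w * z1⁻¹ = z1⁻¹ * w := fun w =>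
        Subgroup.mem_center_iff.mp (Subgroup.inv_mem _ hz1Z) w
      have hz2c : ∀ w : G, w * z2⁻¹ = z2⁻¹ * w := fun w =>
        Subgroup.mem_center_iff.mp (Subgroup.inv_mem _ hz2Z) w
      -- h : y0 z2⁻¹ x0 z1⁻¹ = x0 z1⁻¹ y0 z2⁻¹
      have e1 : y * x = (y0 * x0) * (z1⁻¹ * z2⁻¹) := by
        rw [hxdef, hydef]
        calc y0 * z2⁻¹ * (x0 * z1⁻¹) = y0 * (z2⁻¹ * (x0 * z1⁻¹)) := by rw [mul_assoc]
          _ = y0 * ((x0 * z1⁻¹) * z2⁻¹) := by rw [hz2c]
          _ = (y0 * x0) * (z1⁻¹ * z2⁻¹) := by simp only [mul_assoc]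
      have e2 : x * y = (x0 * y0) * (z1⁻¹ * z2⁻¹) := by
        rw [hxdef, hydef]
        calc x0 * z1⁻¹ * (y0 * z2⁻¹) = x0 * (z1⁻¹ * (y0 * z2⁻¹)) := by rw [mul_assoc]
          _ = x0 * ((y0 * z2⁻¹) * z1⁻¹) := by rw [hz1c]
          _ = x0 * (y0 * (z2⁻¹ * z1⁻¹)) := by simp only [mul_assoc]
          _ = x0 * (y0 * (z1⁻¹ * z2⁻¹)) := by rw [hz2c z1⁻¹]
          _ = (x0 * y0) * (z1⁻¹ * z2⁻¹) := by simp only [mul_assoc]
      rw [e1, e2] at h
      exact (mul_right_cancel h).symm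
    have hyxc : ⁅y, x⁆ = c := (hG' _ (hcomm_mem y x)).resolve_left hncomm
    refine ⟨x * y, ?_, ?_⟩
    · intro h
      apply hncomm
      rw [commutatorElement_eq_one_iff_mul_comm]
      have e := Subgroup.mem_center_iff.mp h x
      have : x * (x * y) = x * (y * x) := by rw [e]; simp only [mul_assoc]
      exact (mul_left_cancel this).symm
    · rw [hsqmul, hx, hy, hyxc, mul_one, mul_one]

end Cfsg.Agent.Lib.Helper67.AO
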