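import Cfsg.Agent.Lib.Helper31.ChainStab
import Cfsg.Agent.Lib.Helper88.AlperinUse

/-!
If every map of a saturated fusion system `F` over `S` between cyclic subgroups of order `p` or `4`
of the hyperfocal subgroup is a map of `N_F(S)`, then `S` is normal in `F`.
-/

set_option autoImplicit false

namespace Cfsg.Agent.Lib.Helper31.SCN

open Cfsg Cfsg.FusionSystem
open scoped commutatorElement

variable {Ω : Type*} [Group Ω] {S : Subgroup Ω} {p : ℕ} [Fact p.Prime] [Finite S]

/-- under the hypothesis, `F`-automorphisms of `R` preserve the terms of the upper central series of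
`S` on small hyperfocal elements. -/
theorem ucs_invariant (F : FusionSystem S)
    (h : ∀ A B : Subgroup Ω, A ≤ (F.hyperfocalSubgroup p) → B ≤ (F.hyperfocalSubgroup p) →
      IsCyclic ↥A → (Nat.card ↥A = p ∨ Nat.card ↥A = 4) → IsCyclic ↥B →
      (Nat.card ↥B = p ∨ Nat.card ↥B = 4) →
      F.homSet A B ⊆ F.normalizerHom S A)
    {R : Subgroup Ω} (hR : R ≤ S) {b : MulAut R} (hbF : b ∈ F.autGroup R) {y : R}
    (hysmall : y ^ p = 1 ∨ (p = 2 ∧ y ^ 4 = 1))
    (hyH : (y : Ω) ∈ F.hyperfocalSubgroup p) (hbyH : ((b y : R) : Ω) ∈ F.hyperfocalSubgroup p)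
    (i : ℕ) (hyZ : Subgroup.inclusion hR y ∈ Subgroup.upperCentralSeries S i) :
    Subgroup.inclusion hR (b y) ∈ Subgroup.upperCentralSeries S i := by
  by_cases hy1 : y = 1
  · rw [hy1, map_one, map_one]; exact one_mem _
  have hord : orderOf y = p ∨ orderOf y = 4 := by
    rcases hysmall with h1 | ⟨h2, h4⟩
    · left; exact orderOf_eq_prime h1 hy1
    · have hdvd : orderOf y ∣ 2 ^ 2 := by
        apply orderOf_dvd_of_pow_eq_one
        norm_num
        exact h4
      obtain ⟨k, hk, hk2⟩ := (Nat.dvd_prime_pow Nat.prime_two).1 hdvd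
      interval_cases k
      · exfalso
        rw [pow_zero, orderOf_eq_one_iff] at hk2
        exact hy1 hk2
      · left; rw [hk2, h2]; rfl
      · right; rw [hk2]; rfl
  set A₀ : Subgroup Ω := Subgroup.zpowers (y : Ω) with hA₀
  set B₀ : Subgroup Ω := Subgroup.zpowers ((b y : R) : Ω) with hB₀
  have hA₀R : A₀ ≤ R := (Subgroup.zpowers_le).2 y.2
  set ψ : A₀ →* Ω := (R.subtype.comp b.toMonoidHom).comp (Subgroup.inclusion hA₀R) with hψdef
  have hψ : ψ ∈ F.Hom A₀ :=
    Cfsg.Agent.Lib.Helper87.restrict_mem F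
      ((Cfsg.Agent.Lib.Helper87.mem_autGroup_iff F hR b).1 hbF) hA₀R
  have hψB : ∀ x : A₀, ψ x ∈ B₀ := by
    intro x
    obtain ⟨n, hn⟩ := Subgroup.mem_zpowers_iff.1 x.2
    have hx : Subgroup.inclusion hA₀R x = y ^ n := by
      apply Subtype.ext
      rw [Subgroup.coe_inclusion, Subgroup.coe_zpow]
      exact hn.symm
    show ((b (Subgroup.inclusion hA₀R x) : R) : Ω) ∈ B₀
    rw [hx, map_zpow, Subgroup.coe_zpow]
    exact Subgroup.zpow_mem _ (Subgroup.mem_zpowers _) n
  have hcardA : Nat.card A₀ = p ∨ Nat.card A₀ = 4 := by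
    rw [hA₀, Nat.card_zpowers, Subgroup.orderOf_coe]
    exact hord
  have hcardB : Nat.card B₀ = p ∨ Nat.card B₀ = 4 := by
    rw [hB₀, Nat.card_zpowers, Subgroup.orderOf_coe]
    have : orderOf (b y) = orderOf y := MulEquiv.orderOf_eq b y
    rw [this]
    exact hord
  have hAH : A₀ ≤ F.hyperfocalSubgroup p := (Subgroup.zpowers_le).2 hyH
  have hBH : B₀ ≤ F.hyperfocalSubgroup p := (Subgroup.zpowers_le).2 hbyH
  have hin := h A₀ B₀ hAH hBH (Subgroup.isCyclic_zpowers _) hcardA (Subgroup.isCyclic_zpowers _)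
    hcardB ⟨hψ, hψB⟩
  obtain ⟨-, -, -, χ, hχ, hχext, hχS⟩ := hin
  -- the automorphism of `S` induced by `χ`
  have hχmem : ∀ s : S, χ (Subgroup.inclusion le_sup_right s) ∈ S := by
    intro s
    have hmem : χ (Subgroup.inclusion le_sup_right s) ∈
        Subgroup.map χ (S.subgroupOf (A₀ ⊔ S)) :=
      ⟨Subgroup.inclusion le_sup_right s, Subgroup.mem_subgroupOf.2 s.2, rfl⟩
    exact hχS.le hmem
  let θ : S →* S := (χ.comp (Subgroup.inclusion le_sup_right)).codRestrict S hχmem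
  have hθinj : Function.Injective θ := by
    intro s t hst
    have h1 : χ (Subgroup.inclusion le_sup_right s) = χ (Subgroup.inclusion le_sup_right t) :=
      congrArg (fun z : S => (z : Ω)) hst
    exact Subgroup.inclusion_injective _ (F.injective_of_mem hχ h1)
  have hθbij : Function.Bijective θ := ⟨hθinj, Finite.injective_iff_surjective.1 hθinj⟩
  let Θ : S ≃* S := MulEquiv.ofBijective θ hθbij
  have hchar : (Subgroup.upperCentralSeries S i).Characteristic := inferInstance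
  have hmap := (Subgroup.characteristic_iff_map_le.1 hchar) Θ
  have hΘy : Θ (Subgroup.inclusion hR y) = Subgroup.inclusion hR (b y) := by
    apply Subtype.ext
    show χ (Subgroup.inclusion le_sup_right (Subgroup.inclusion hR y)) = ((b y : R) : Ω)
    have e : Subgroup.inclusion (le_sup_right : S ≤ A₀ ⊔ S) (Subgroup.inclusion hR y) =
        Subgroup.inclusion (le_sup_left : A₀ ≤ A₀ ⊔ S) ⟨(y : Ω), Subgroup.mem_zpowers _⟩ := by
      apply Subtype.ext; rfl
    rw [e, hχext]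
    rfl
  rw [← hΘy]
  exact hmap ⟨_, hyZ, rfl⟩


/-- `[R, O^p(Aut_F(R))]`, generated by the `x⁻¹ α(x)` for `α ∈ Aut_F(R)` of order prime to `p`. -/
def hypOf (F : FusionSystem S) (p : ℕ) (R : Subgroup Ω) : Subgroup R :=
  Subgroup.closure {c : R | ∃ (x : R) (α : MulAut R), α ∈ F.autGroup R ∧ (orderOf α).Coprime p ∧
    c = x⁻¹ * α x}

omit [Fact p.Prime] [Finite S] in
theorem hypOf_invariant (F : FusionSystem S) (R : Subgroup Ω) :
    ∀ g ∈ F.autGroup R, ∀ x ∈ hypOf F p R, g x ∈ hypOf F p R := by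
  intro g hg x hx
  unfold hypOf at hx
  induction hx using Subgroup.closure_induction with
  | mem c hc =>
    obtain ⟨x, α, hα, hαc, rfl⟩ := hc
    refine Subgroup.subset_closure ⟨g x, g * α * g⁻¹,
      (F.autGroup R).mul_mem ((F.autGroup R).mul_mem hg hα) ((F.autGroup R).inv_mem hg), ?_, ?_⟩
    · have : orderOf (g * α * g⁻¹) = orderOf α := by
        have := (MulAut.conj g).orderOf_eq α
        rwa [MulAut.conj_apply] at this
      rw [this]; exact hαc
    · rw [map_mul, map_inv]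
      simp only [MulAut.mul_apply]
      have : g⁻¹ (g x) = x := by
        show g.symm (g x) = x
        simp
      rw [this]
  | one => rw [map_one]; exact one_mem _
  | mul a b _ _ ha hb => rw [map_mul]; exact mul_mem ha hb
  | inv a _ ha => rw [map_inv]; exact inv_mem ha

omit [Fact p.Prime] [Finite S] in
theorem hypOf_le_hyperfocal (F : FusionSystem S) {R : Subgroup Ω} (hR : R ≤ S) :
    ∀ x ∈ hypOf F p R, (x : Ω) ∈ F.hyperfocalSubgroup p := by
  have hle : hypOf F p R ≤ (F.hyperfocalSubgroup p).comap R.subtype := by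
    unfold hypOf
    rw [Subgroup.closure_le]
    rintro c ⟨x, α, hα, hαc, rfl⟩
    show ((x⁻¹ * α x : R) : Ω) ∈ F.hyperfocalSubgroup p
    rw [Subgroup.coe_mul, Subgroup.coe_inv]
    unfold hyperfocalSubgroup
    refine Subgroup.subset_closure ⟨R, ⟨α, hα⟩, x, hR, ?_, rfl⟩
    apply Subgroup.subset_closure
    show Nat.Coprime (orderOf (⟨α, hα⟩ : F.autGroup R)) p
    rw [Subgroup.orderOf_mk]
    exact hαc
  intro x hx
  exact hle hx

/-- under the hypothesis, `Aut_S(R)` is a normal Sylow subgroup of `Aut_F(R)` whenever it is a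
Sylow subgroup. -/
theorem exists_normal_sylow (hS : IsPGroup p S) (F : FusionSystem S)
    (h : ∀ A B : Subgroup Ω, A ≤ (F.hyperfocalSubgroup p) → B ≤ (F.hyperfocalSubgroup p) →
      IsCyclic ↥A → (Nat.card ↥A = p ∨ Nat.card ↥A = 4) → IsCyclic ↥B →
      (Nat.card ↥B = p ∨ Nat.card ↥B = 4) →
      F.homSet A B ⊆ F.normalizerHom S A)
    {R : Subgroup Ω} (hfa : F.IsFullyAutomized p R) :
    ∃ T : Sylow p (F.autGroup R), (T : Subgroup (F.autGroup R)).Normal := by
  obtain ⟨hR, T, hT⟩ := hfa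
  have hfinR : Finite R := Cfsg.Agent.Lib.Helper87.finite_of_le hR
  have hRp : IsPGroup p R := hS.to_le hR
  refine ⟨T, ?_⟩
  set Q : Subgroup R := hypOf F p R with hQdef
  have hQinv : ∀ g ∈ (F.autGroup R), ∀ x ∈ Q, g x ∈ Q := hypOf_invariant F R
  have hQH : ∀ x ∈ Q, (x : Ω) ∈ F.hyperfocalSubgroup p := hypOf_le_hyperfocal F hR
  let Zc : ℕ → Subgroup R := fun i =>
    (Subgroup.upperCentralSeries S i).comap (Subgroup.inclusion hR)
  -- invariance of `Zc i` on small elements of `Q`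
  have hZinv : ∀ g ∈ (F.autGroup R), ∀ y ∈ Q, (y ^ p = 1 ∨ (p = 2 ∧ y ^ 4 = 1)) → ∀ i, y ∈ Zc i →
      g y ∈ Zc i := by
    intro g hg y hy hys i hyZ
    exact ucs_invariant F h hR hg hys (hQH y hy) (hQH _ (hQinv g hg y hy)) i hyZ
  -- the good subgroups
  let Good : Subgroup R → Prop := fun M => M ≤ Q ∧ (∀ g ∈ (F.autGroup R), ∀ x ∈ M, g x ∈ M) ∧
    (∀ x ∈ M, x ^ p = 1 ∨ (p = 2 ∧ x ^ 4 = 1))
  -- the chain stabilizer
  let N' : Subgroup (MulAut R) :=
    { carrier := {k | k ∈ (F.autGroup R) ∧ ∀ M : Subgroup R, Good M → ∀ i : ℕ, ∀ x ∈ M, x ∈ Zc (i + 1) →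
        x⁻¹ * k x ∈ Zc i}
      one_mem' := by
        refine ⟨(F.autGroup R).one_mem, fun M _ i x _ _ => ?_⟩
        rw [MulAut.one_apply, inv_mul_cancel]
        exact one_mem _
      mul_mem' := by
        rintro k k' ⟨hk, hkM⟩ ⟨hk', hk'M⟩
        refine ⟨(F.autGroup R).mul_mem hk hk', fun M hM i x hx hxZ => ?_⟩
        have hk'x : k' x ∈ M := hM.2.1 k' hk' x hx
        have hk'xZ : k' x ∈ Zc (i + 1) :=
          hZinv k' hk' x (hM.1 hx) (hM.2.2 x hx) (i + 1) hxZ
        have h1 := hk'M M hM i x hx hxZ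
        have h2 := hkM M hM i (k' x) hk'x hk'xZ
        have e : x⁻¹ * (k * k') x = (x⁻¹ * k' x) * ((k' x)⁻¹ * k (k' x)) := by
          rw [MulAut.mul_apply]; group
        rw [e]
        exact (Zc i).mul_mem h1 h2
      inv_mem' := by
        rintro k ⟨hk, hkM⟩
        refine ⟨(F.autGroup R).inv_mem hk, fun M hM i x hx hxZ => ?_⟩
        have hkix : k⁻¹ x ∈ M := hM.2.1 k⁻¹ ((F.autGroup R).inv_mem hk) x hx
        have hkixZ : k⁻¹ x ∈ Zc (i + 1) :=
          hZinv k⁻¹ ((F.autGroup R).inv_mem hk) x (hM.1 hx) (hM.2.2 x hx) (i + 1) hxZ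
        have h2 := hkM M hM i (k⁻¹ x) hkix hkixZ
        have e1 : k (k⁻¹ x) = x := by
          show k (k.symm x) = x
          simp
        rw [e1] at h2
        have e : x⁻¹ * k⁻¹ x = ((k⁻¹ x)⁻¹ * x)⁻¹ := by group
        rw [e]
        exact (Zc i).inv_mem h2 }
  have hN'K : N' ≤ (F.autGroup R) := fun k hk => hk.1
  have hN'normal : ∀ g ∈ (F.autGroup R), ∀ k ∈ N', g * k * g⁻¹ ∈ N' := by
    rintro g hg k ⟨hk, hkM⟩
    refine ⟨(F.autGroup R).mul_mem ((F.autGroup R).mul_mem hg hk) ((F.autGroup R).inv_mem hg), fun M hM i x hx hxZ => ?_⟩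
    have hgix : g⁻¹ x ∈ M := hM.2.1 g⁻¹ ((F.autGroup R).inv_mem hg) x hx
    have hgixZ : g⁻¹ x ∈ Zc (i + 1) :=
      hZinv g⁻¹ ((F.autGroup R).inv_mem hg) x (hM.1 hx) (hM.2.2 x hx) (i + 1) hxZ
    have h2 := hkM M hM i (g⁻¹ x) hgix hgixZ
    have hzM : (g⁻¹ x)⁻¹ * k (g⁻¹ x) ∈ M := M.mul_mem (M.inv_mem hgix) (hM.2.1 k hk _ hgix)
    have h3 := hZinv g hg _ (hM.1 hzM) (hM.2.2 _ hzM) i h2
    have e1 : g (g⁻¹ x) = x := by
      show g (g.symm x) = x
      simp
    have e : x⁻¹ * (g * k * g⁻¹) x = g ((g⁻¹ x)⁻¹ * k (g⁻¹ x)) := by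
      rw [map_mul, map_inv, e1]
      rfl
    rw [e]
    exact h3
  -- `Aut_S(R) ≤ N'`
  have hTN' : ∀ a ∈ autInducedBy S R, a ∈ (F.autGroup R) → a ∈ N' := by
    intro a ha haK
    obtain ⟨s, hs, hsa⟩ := (Cfsg.Agent.Lib.Helper87.mem_autInducedBy_iff S R a).1 ha
    refine ⟨haK, fun M _ i x _ hxZ => ?_⟩
    show Subgroup.inclusion hR (x⁻¹ * a x) ∈ Subgroup.upperCentralSeries S i
    have hxZ' : Subgroup.inclusion hR x⁻¹ ∈ Subgroup.upperCentralSeries S (i + 1) := by
      rw [map_inv]; exact inv_mem hxZ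
    have hcomm := (Subgroup.mem_upperCentralSeries_succ_iff.1 hxZ') ⟨s, hs⟩
    have e : Subgroup.inclusion hR (x⁻¹ * a x) =
        ⁅Subgroup.inclusion hR x⁻¹, (⟨s, hs⟩ : S)⁆ := by
      apply Subtype.ext
      rw [commutatorElement_def]
      simp only [Subgroup.coe_inclusion, Subgroup.coe_mul, Subgroup.coe_inv, hsa, inv_inv,
        mul_assoc]
    rw [e]
    exact hcomm
  -- `N'` has no nontrivial `p'`-elements
  obtain ⟨n, hn⟩ := (hS.isNilpotent : Group.IsNilpotent S).nilpotent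
  have hpp : ∀ b ∈ N', (orderOf b).Coprime p → b = 1 := by
    apply Cfsg.Agent.Lib.Helper31.CS.pprime_trivial hRp (F.autGroup R) N' hN'K hN'normal Q hQinv ?_ Zc n ?_ ?_ ?_
    · intro b hb hbc x
      exact Subgroup.subset_closure ⟨x, b, hN'K hb, hbc, rfl⟩
    · show (Subgroup.upperCentralSeries S n).comap (Subgroup.inclusion hR) = ⊤
      rw [hn, Subgroup.comap_top]
    · show (Subgroup.upperCentralSeries S 0).comap (Subgroup.inclusion hR) = ⊥
      rw [Subgroup.upperCentralSeries_zero]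
      ext x
      rw [Subgroup.mem_comap, Subgroup.mem_bot, Subgroup.mem_bot]
      constructor
      · intro hx
        apply Subtype.ext
        have := congrArg (fun z : S => (z : Ω)) hx
        simpa using this
      · rintro rfl
        exact map_one _
    · intro M hMQ hMinv hMsmall k hk i x hx hxZ
      exact hk.2 M ⟨hMQ, hMinv, hMsmall⟩ i x hx hxZ
  -- conclusion
  set N : Subgroup (F.autGroup R) := N'.subgroupOf (F.autGroup R) with hN
  have hNnormal : N.Normal := by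
    constructor
    intro a ha b
    rw [hN, Subgroup.mem_subgroupOf] at ha ⊢
    exact hN'normal b b.2 a ha
  have hTN : (T : Subgroup (F.autGroup R)) ≤ N := by
    rw [hT, hN]
    intro a ha
    rw [Subgroup.mem_subgroupOf] at ha ⊢
    exact hTN' a ha a.2
  have hNp : IsPGroup p N := by
    intro a
    have hpos : orderOf a ≠ 0 := (isOfFinOrder_of_finite a).orderOf_pos.ne'
    obtain ⟨k, m, hm, hkm⟩ := Nat.exists_eq_pow_mul_and_not_dvd hpos p
      (Fact.out : p.Prime).ne_one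
    refine ⟨k, ?_⟩
    set b := a ^ (p ^ k) with hb
    have hbord : orderOf b = m := by
      rw [hb, orderOf_pow' a (pow_ne_zero k (Fact.out : p.Prime).ne_zero), hkm,
        Nat.gcd_eq_right (dvd_mul_right _ _), Nat.mul_div_cancel_left _
          (pow_pos (Fact.out : p.Prime).pos k)]
    have hcop : (orderOf ((b : F.autGroup R) : MulAut R)).Coprime p := by
      rw [Subgroup.orderOf_coe, Subgroup.orderOf_coe, hbord]
      exact ((Fact.out : p.Prime).coprime_iff_not_dvd.2 hm).symm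
    have hbN' : ((b : F.autGroup R) : MulAut R) ∈ N' := by
      have h0 : (b : F.autGroup R) ∈ N := b.2
      exact Subgroup.mem_subgroupOf.1 h0
    have h1 := hpp _ hbN' hcop
    apply Subtype.ext
    apply Subtype.ext
    rw [h1]
    rfl
  have hEq : N = (T : Subgroup (F.autGroup R)) := T.is_maximal' hNp hTN
  rw [← hEq]
  exact hNnormal

/-- **Main theorem.** -/
theorem isNormal_top (hS : IsPGroup p S) (F : FusionSystem S) (hF : F.IsSaturated p)
    (h : ∀ A B : Subgroup Ω, A ≤ (F.hyperfocalSubgroup p) → B ≤ (F.hyperfocalSubgroup p) →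
      IsCyclic ↥A → (Nat.card ↥A = p ∨ Nat.card ↥A = 4) → IsCyclic ↥B →
      (Nat.card ↥B = p ∨ Nat.card ↥B = 4) →
      F.homSet A B ⊆ F.normalizerHom S A) :
    F.IsNormal S := by
  apply Cfsg.Agent.Lib.Helper88.isNormal_top_of_extends
  intro P φ hφ
  refine Cfsg.Agent.Lib.Helper88.extends_to_top_of_alperin_eq_top hS F hF ?_ hφ
  intro R hR
  exact Cfsg.Agent.Lib.Helper88.eq_top_of_normal_sylow hS F hR.1 hR.2.2.1 hR.2.2.2
    (exists_normal_sylow hS F h hR.1)

end Cfsg.Agent.Lib.Helper31.SCN
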