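import Cfsg.Agent.Lib.Helper31.CritSub
import Cfsg.Agent.Lib.Helper31.SmallCyclicNormal
import Cfsg.Agent.Lib.Helper87.Alperin

/-!
Small-exponent abelian subgroups control fusion: preparatory lemmas.
-/

set_option autoImplicit false

namespace Cfsg.Agent.Lib.Helper31.BGH

open Cfsg Cfsg.FusionSystem
open Cfsg.Agent.Lib.Helper87
open Cfsg.Agent.Lib.Helper31.CS Cfsg.Agent.Lib.Helper31.SCI Cfsg.Agent.Lib.Helper31.Crit
open Cfsg.Agent.Lib.Helper31.SCN

/-- a small abelian normal subgroup detecting `p'`-automorphisms. -/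
theorem exists_detecting {R : Type*} [Group R] [Finite R] {p : ℕ} [Fact p.Prime] (hR : IsPGroup p R)
    (K : Subgroup (MulAut R)) (hInn : ∀ g : R, MulAut.conj g ∈ K)
    (Q : Subgroup R) (hQinv : ∀ k ∈ K, ∀ x ∈ Q, k x ∈ Q)
    (hQgen : ∀ a ∈ K, (orderOf a).Coprime p → ∀ x : R, x⁻¹ * a x ∈ Q) :
    ∃ D A : Subgroup R, D ≤ Q ∧ (∀ k ∈ K, ∀ x ∈ D, k x ∈ D) ∧
      (∀ x ∈ D, x ^ p = 1 ∨ (p = 2 ∧ x ^ 4 = 1)) ∧ A ≤ D ∧ A.Normal ∧
      (∀ x ∈ A, ∀ y ∈ A, x * y = y * x) ∧
      ∀ u ∈ K, (orderOf u).Coprime p → (∀ a ∈ A, u a = a) → u = 1 := by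
  obtain ⟨D, hDQ, hDinv, hDsm, hDf⟩ := exists_small_faithful hR K hInn Q hQinv
  have hDn : D.Normal := normal_of_invariant K hInn D hDinv
  obtain ⟨A, hAD, hAn, hAab, hAc⟩ := exists_max_normal_abelian hR D
  refine ⟨D, A, hDQ, hDinv, hDsm, hAD, hAn, hAab, ?_⟩
  intro u hu hcop hfix
  have hD : ∀ d ∈ D, u d = d := by
    intro d hd
    apply fix_of_comm_fixed hR u hcop d
    have hcD : d⁻¹ * u d ∈ D := D.mul_mem (D.inv_mem hd) (hDinv u hu d hd)
    have hcA : d⁻¹ * u d ∈ A := by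
      apply hAc _ hcD
      intro a ha
      have h1 : d * a * d⁻¹ ∈ A := hAn.conj_mem a ha d
      have h2 := hfix _ h1
      rw [map_mul, map_mul, map_inv, hfix a ha] at h2
      have h3 : u d * a = d * a * d⁻¹ * u d := by rw [← h2]; group
      calc d⁻¹ * u d * a = d⁻¹ * (u d * a) := by group
        _ = d⁻¹ * (d * a * d⁻¹ * u d) := by rw [h3]
        _ = a * (d⁻¹ * u d) := by group
    exact hfix _ hcA
  have hQ := hDf u hu hcop hD
  ext x
  have := fix_of_comm_fixed hR u hcop x (hQ _ (hQgen u hu hcop x))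
  simpa using this

variable {Ω : Type*} [Group Ω] {S : Subgroup Ω} {p : ℕ} [Fact p.Prime] [Finite S]

omit [Fact p.Prime] [Finite S] in
theorem autGroup_mono {E F : FusionSystem S} (hEF : E.IsSubsystemOf F) {P : Subgroup Ω}
    (hP : P ≤ S) : E.autGroup P ≤ F.autGroup P := by
  intro α hα
  rw [mem_autGroup_iff F hP]
  rw [mem_autGroup_iff E hP] at hα
  exact hEF P hα

omit [Fact p.Prime] in
theorem exists_aut_of_hom (E : FusionSystem S) {P : Subgroup Ω} {e : P →* Ω} (he : e ∈ E.Hom P)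
    (hP : ∀ x : P, e x ∈ P) :
    ∃ α : MulAut P, α ∈ E.autGroup P ∧ ∀ x : P, ((α x : P) : Ω) = e x := by
  have hPS : P ≤ S := hom_le E he
  have : Finite P := finite_of_le hPS
  have hinj : Function.Injective (e.codRestrict P hP) := by
    intro x y hxy
    apply E.injective_of_mem he
    exact congrArg Subtype.val hxy
  have hbij : Function.Bijective (e.codRestrict P hP) :=
    ⟨hinj, Finite.injective_iff_surjective.mp hinj⟩
  let α : MulAut P := MulEquiv.ofBijective (e.codRestrict P hP) hbij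
  refine ⟨α, ?_, fun x => rfl⟩
  apply Subgroup.subset_closure
  show P.subtype.comp α.toMonoidHom ∈ E.Hom P
  have : P.subtype.comp α.toMonoidHom = e := by ext x; rfl
  rw [this]; exact he

/-- Claim A: if the automizers of large Alperin subgroups lie in `E`, so do all maps between
large subgroups. -/
theorem claimA (hS : IsPGroup p S) (E F : FusionSystem S) (hF : F.IsSaturated p) (m : ℕ)
    (ih : ∀ R : Subgroup Ω, IsAlperin F p R → m < Nat.card R → F.autGroup R ≤ E.autGroup R) :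
    ∀ (X : Subgroup Ω) (φ : X →* Ω), φ ∈ F.Hom X → m < Nat.card X → φ ∈ E.Hom X := by
  intro X φ hφ
  have hgen := alperin hS F hF X φ hφ
  clear hφ
  induction hgen with
  | @aut P R hR α hα hPR =>
    intro hm
    have hRS : R ≤ S := hR.1.1
    have : Finite R := finite_of_le hRS
    have hcard : Nat.card P ≤ Nat.card R :=
      Nat.card_le_card_of_injective _ (Subgroup.inclusion_injective hPR)
    have hαE := ih R hR (lt_of_lt_of_le hm hcard) hα
    exact restrict_mem E ((mem_autGroup_iff E hRS α).mp hαE) hPR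
  | @comp P Q φ ψ h1 h2 h ih1 ih2 =>
    intro hm
    have hφF := h1.mem_hom
    have hψF := h2.mem_hom
    have hQS : Q ≤ S := hom_le F hψF
    have : Finite Q := finite_of_le hQS
    have hcard : Nat.card P ≤ Nat.card Q :=
      Nat.card_le_card_of_injective (φ.codRestrict Q h) (by
        intro x y hxy
        apply F.injective_of_mem hφF
        exact congrArg Subtype.val hxy)
    exact E.comp_mem (ih1 hm) (ih2 (lt_of_lt_of_le hm hcard)) h

omit [Fact p.Prime] [Finite S] in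
/-- elements of `P` normalize the image in `Ω` of a normal subgroup of `P`. -/
theorem mem_normalizer_map_subtype {P : Subgroup Ω} (N : Subgroup P) (hN : N.Normal) {g : Ω}
    (hg : g ∈ P) : g ∈ Subgroup.normalizer ((N.map P.subtype : Subgroup Ω) : Set Ω) := by
  rw [Subgroup.mem_normalizer_iff]
  intro h
  constructor
  · rintro ⟨n, hn, rfl⟩
    exact ⟨⟨g, hg⟩ * n * ⟨g, hg⟩⁻¹, hN.conj_mem n hn _, rfl⟩
  · rintro ⟨n, hn, hne⟩
    refine ⟨⟨g, hg⟩⁻¹ * n * ⟨g, hg⟩, ?_, ?_⟩
    · have := hN.conj_mem n hn ⟨g, hg⟩⁻¹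
      simpa using this
    · show g⁻¹ * (n : Ω) * g = h
      have : (n : Ω) = g * h * g⁻¹ := hne
      rw [this]; group

/-- normalizer growth for a product: if `P₁` normalizes `C` and `C ≰ P₁` then some element of
`C` outside `P₁` normalizes `P₁`. -/
theorem exists_normalizing_outside (hS : IsPGroup p S) {P₁ C : Subgroup Ω} (hP₁ : P₁ ≤ S)
    (hC : C ≤ S) (hN : P₁ ≤ Subgroup.normalizer (C : Set Ω)) (hnot : ¬ C ≤ P₁) :
    ∃ c ∈ C, c ∉ P₁ ∧ c ∈ Subgroup.normalizer (P₁ : Set Ω) := by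
  classical
  set H : Subgroup Ω := P₁ ⊔ C with hH
  have hHS : H ≤ S := sup_le hP₁ hC
  have hfinH : Finite H := finite_of_le hHS
  have hHp : IsPGroup p H := hS.to_le hHS
  have hP₁H : P₁ ≤ H := le_sup_left
  have hne : P₁ ≠ H := by
    intro h
    apply hnot
    rw [h]
    exact le_sup_right
  have hlt := card_lt_card_normalizerIn (S := H) hHp hP₁H hne
  have hex : ∃ n ∈ normalizerIn H P₁, n ∉ P₁ := by
    by_contra hcon
    push Not at hcon
    have hle : normalizerIn H P₁ ≤ P₁ := hcon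
    have hfinP₁ : Finite P₁ := finite_of_le hP₁
    have := Nat.card_le_card_of_injective _ (Subgroup.inclusion_injective hle)
    omega
  obtain ⟨n, hn, hnP₁⟩ := hex
  have hnH : n ∈ ((P₁ ⊔ C : Subgroup Ω) : Set Ω) := hn.1
  rw [Subgroup.coe_mul_of_left_le_normalizer_right P₁ C hN] at hnH
  obtain ⟨x, hx, c, hc, rfl⟩ := hnH
  refine ⟨c, hc, ?_, ?_⟩
  · intro hcP
    exact hnP₁ (P₁.mul_mem hx hcP)
  · have hxN : x ∈ Subgroup.normalizer (P₁ : Set Ω) := Subgroup.le_normalizer hx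
    have : c = x⁻¹ * (x * c) := by group
    rw [this]
    exact Subgroup.mul_mem _ (Subgroup.inv_mem _ hxN) hn.2

end Cfsg.Agent.Lib.Helper31.BGH
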