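import Cfsg.Agent.Lib.Helper31.BGHa
import Cfsg.Agent.Lib.Helper84.FusionBasic

/-!
Small-exponent abelian subgroups control fusion: the main step.
-/

set_option autoImplicit false

namespace Cfsg.Agent.Lib.Helper31.BGH

open Cfsg Cfsg.FusionSystem
open Cfsg.Agent.Lib.Helper87
open Cfsg.Agent.Lib.Helper31.CS Cfsg.Agent.Lib.Helper31.SCI Cfsg.Agent.Lib.Helper31.Crit
open Cfsg.Agent.Lib.Helper31.SCN

variable {Ω : Type*} [Group Ω] {S : Subgroup Ω} {p : ℕ} [Fact p.Prime] [Finite S]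

/-- small abelian subgroups of the hyperfocal subgroup. -/
def SmallAb (F : FusionSystem S) (p : ℕ) (A : Subgroup Ω) : Prop :=
  A ≤ F.hyperfocalSubgroup p ∧ (∀ x ∈ A, ∀ y ∈ A, x * y = y * x) ∧
    ∀ x ∈ A, x ^ p = 1 ∨ (p = 2 ∧ x ^ 4 = 1)

omit [Fact p.Prime] [Finite S] in
theorem coe_small {P : Subgroup Ω} {x : P} (h : x ^ p = 1 ∨ (p = 2 ∧ x ^ 4 = 1)) :
    (x : Ω) ^ p = 1 ∨ (p = 2 ∧ (x : Ω) ^ 4 = 1) := by
  rcases h with h | ⟨h2, h4⟩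
  · left
    rw [← Subgroup.coe_pow, h]; rfl
  · right
    refine ⟨h2, ?_⟩
    rw [← Subgroup.coe_pow, h4]; rfl

theorem exists_good_A (hS : IsPGroup p S) (F : FusionSystem S) {P : Subgroup Ω}
    (hfa : F.IsFullyAutomized p P) :
    ∃ A : Subgroup P, A.Normal ∧ (∀ x ∈ A, ∀ y ∈ A, x * y = y * x) ∧
      (∀ k ∈ F.autGroup P, ∀ a ∈ A, ((k a : P) : Ω) ∈ F.hyperfocalSubgroup p ∧
        ((k a) ^ p = 1 ∨ (p = 2 ∧ (k a) ^ 4 = 1))) ∧
      ∀ u ∈ F.autGroup P, (∀ a ∈ A, u a = a) → u ∈ autInducedBy S P := by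
  have hPS : P ≤ S := hfa.1
  have hfinP : Finite P := finite_of_le hPS
  have hPp : IsPGroup p P := hS.to_le hPS
  have hInn : ∀ g : P, MulAut.conj g ∈ F.autGroup P := by
    intro g
    exact (autInducedBy_le_autGroup F hPS) ((inn_le_autInducedBy hPS) ⟨g, rfl⟩)
  obtain ⟨D, A₀, hDQ, hDinv, hDsm, hAD, hAn, hAab, hAdet⟩ :=
    exists_detecting hPp (F.autGroup P) hInn (hypOf F p P) (hypOf_invariant F P)
      (fun a ha hcop x => Subgroup.subset_closure ⟨x, a, ha, hcop, rfl⟩)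
  let C : Subgroup (MulAut P) :=
    { carrier := {u | u ∈ F.autGroup P ∧ ∀ a ∈ A₀, u a = a}
      mul_mem' := by
        rintro u v ⟨hu, hu'⟩ ⟨hv, hv'⟩
        refine ⟨(F.autGroup P).mul_mem hu hv, fun a ha => ?_⟩
        rw [MulAut.mul_apply, hv' a ha, hu' a ha]
      one_mem' := ⟨(F.autGroup P).one_mem, fun a _ => rfl⟩
      inv_mem' := by
        rintro u ⟨hu, hu'⟩
        refine ⟨(F.autGroup P).inv_mem hu, fun a ha => ?_⟩
        have := hu' a ha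
        calc u⁻¹ a = u⁻¹ (u a) := by rw [this]
          _ = a := by simp }
  have hCK : C ≤ F.autGroup P := fun u hu => hu.1
  have hCp : IsPGroup p C := by
    rintro ⟨a, ha⟩
    have hpos : orderOf a ≠ 0 := (isOfFinOrder_of_finite a).orderOf_pos.ne'
    obtain ⟨k, m, hm, hkm⟩ := Nat.exists_eq_pow_mul_and_not_dvd hpos p
      (Fact.out : p.Prime).ne_one
    refine ⟨k, ?_⟩
    have hbord : orderOf (a ^ (p ^ k)) = m := by
      rw [orderOf_pow' a (pow_ne_zero k (Fact.out : p.Prime).ne_zero), hkm,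
        Nat.gcd_eq_right (dvd_mul_right _ _), Nat.mul_div_cancel_left _
          (pow_pos (Fact.out : p.Prime).pos k)]
    have hcop : (orderOf (a ^ (p ^ k))).Coprime p := by
      rw [hbord]; exact ((Fact.out : p.Prime).coprime_iff_not_dvd.2 hm).symm
    have hbC : a ^ (p ^ k) ∈ C := C.pow_mem ha _
    have h1 := hAdet _ hbC.1 hcop hbC.2
    apply Subtype.ext
    exact h1
  obtain ⟨β, hβ, hβC⟩ := exists_conj_into_autS F hfa C hCK hCp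
  refine ⟨A₀.map β.toMonoidHom, hAn.map _ β.surjective, ?_, ?_, ?_⟩
  · rintro _ ⟨a, ha, rfl⟩ _ ⟨b, hb, rfl⟩
    show β a * β b = β b * β a
    rw [← map_mul, ← map_mul, hAab a ha b hb]
  · rintro k hk _ ⟨a, ha, rfl⟩
    have hD : (k * β) a ∈ D := hDinv (k * β) ((F.autGroup P).mul_mem hk hβ) a (hAD ha)
    exact ⟨hypOf_le_hyperfocal F hPS _ (hDQ hD), hDsm _ hD⟩
  · intro u hu hfix
    have ht : β⁻¹ * u * β ∈ C := by
      refine ⟨(F.autGroup P).mul_mem ((F.autGroup P).mul_mem ((F.autGroup P).inv_mem hβ) hu) hβ,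
        fun a ha => ?_⟩
      show β⁻¹ (u (β a)) = a
      rw [hfix (β a) ⟨a, ha, rfl⟩]
      simp
    have := hβC _ ht
    have e : β * (β⁻¹ * u * β) * β⁻¹ = u := by group
    rwa [e] at this


set_option maxHeartbeats 1600000 in
/-- the main step: the automizer of an Alperin subgroup lies in `E` provided all maps between
larger subgroups do. -/
theorem step (hS : IsPGroup p S) (E F : FusionSystem S) (hE : E.IsSaturated p)
    (hEF : E.IsSubsystemOf F)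
    (hsm : ∀ A B : Subgroup Ω, SmallAb F p A → SmallAb F p B → F.homSet A B ⊆ E.homSet A B)
    {P : Subgroup Ω} (hP : IsAlperin F p P)
    (hA : ∀ (X : Subgroup Ω) (φ : X →* Ω), φ ∈ F.Hom X → Nat.card P < Nat.card X →
      φ ∈ E.Hom X) :
    F.autGroup P ≤ E.autGroup P := by
  classical
  have hPS : P ≤ S := hP.1.1
  have hfinP : Finite P := finite_of_le hPS
  obtain ⟨A, hAn, hAab, hAsm, hAdet⟩ := exists_good_A hS F hP.1
  have hTE : autInducedBy S P ≤ E.autGroup P := autInducedBy_le_autGroup E hPS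
  have hEK : E.autGroup P ≤ F.autGroup P := autGroup_mono hEF hPS
  intro k hk
  set AΩ : Subgroup Ω := A.map P.subtype with hAΩ
  have hAΩP : AΩ ≤ P := Subgroup.map_subtype_le A
  have hmemA : ∀ (x : Ω) (hx : x ∈ AΩ), (⟨x, hAΩP hx⟩ : P) ∈ A := by
    rintro x ⟨a, ha, rfl⟩
    exact ha
  have hkφ : P.subtype.comp k.toMonoidHom ∈ F.Hom P := (mem_autGroup_iff F hPS k).mp hk
  set ε : AΩ →* Ω := (P.subtype.comp k.toMonoidHom).comp (Subgroup.inclusion hAΩP) with hε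
  have hεF : ε ∈ F.Hom AΩ := restrict_mem F hkφ hAΩP
  set A₂ : Subgroup Ω := (A.map k.toMonoidHom).map P.subtype with hA₂
  have hrε : ε.range = A₂ := by
    ext y
    constructor
    · rintro ⟨x, rfl⟩
      exact ⟨k ⟨x, hAΩP x.2⟩, ⟨_, hmemA x x.2, rfl⟩, rfl⟩
    · rintro ⟨_, ⟨a, ha, rfl⟩, rfl⟩
      exact ⟨⟨a, ⟨a, ha, rfl⟩⟩, rfl⟩
  have hsmA : SmallAb F p AΩ := by
    refine ⟨?_, ?_, ?_⟩
    · rintro _ ⟨a, ha, rfl⟩
      exact (hAsm 1 (Subgroup.one_mem _) a ha).1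
    · rintro _ ⟨a, ha, rfl⟩ _ ⟨b, hb, rfl⟩
      exact congrArg Subtype.val (hAab a ha b hb)
    · rintro _ ⟨a, ha, rfl⟩
      exact coe_small (hAsm 1 (Subgroup.one_mem _) a ha).2
  have hsmA₂ : SmallAb F p A₂ := by
    refine ⟨?_, ?_, ?_⟩
    · rintro _ ⟨_, ⟨a, ha, rfl⟩, rfl⟩
      exact (hAsm k hk a ha).1
    · rintro _ ⟨_, ⟨a, ha, rfl⟩, rfl⟩ _ ⟨_, ⟨b, hb, rfl⟩, rfl⟩
      show ((k a : P) : Ω) * ((k b : P) : Ω) = ((k b : P) : Ω) * ((k a : P) : Ω)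
      have : k a * k b = k b * k a := by rw [← map_mul, ← map_mul, hAab a ha b hb]
      exact congrArg Subtype.val this
    · rintro _ ⟨_, ⟨a, ha, rfl⟩, rfl⟩
      exact coe_small (hAsm k hk a ha).2
  have hA₂P : A₂ ≤ P := Subgroup.map_subtype_le _
  have hεE : ε ∈ E.Hom AΩ :=
    (hsm AΩ A₂ hsmA hsmA₂ ⟨hεF, fun x => hrε.le ⟨x, rfl⟩⟩).1
  have hA₂S : A₂ ≤ S := hA₂P.trans hPS
  obtain ⟨A', ⟨φ₂, hφ₂, hr₂⟩, hfa', hrec'⟩ := hE A₂ hA₂S
  obtain ⟨β₂, hβ₂, χ, hχ, hχe⟩ := exists_extension_normalizer hS E hφ₂ hr₂ hfa' hrec'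
  have hkAn : (A.map k.toMonoidHom).Normal := hAn.map _ k.surjective
  have hPN : P ≤ normalizerIn S A₂ :=
    fun g hg => ⟨hPS hg, mem_normalizer_map_subtype _ hkAn hg⟩
  set χ' : P →* Ω := χ.comp (Subgroup.inclusion hPN) with hχ'
  have hχ'E : χ' ∈ E.Hom P := restrict_mem E hχ hPN
  have hεP : ∀ x : AΩ, ε x ∈ P := fun x => (k ⟨x, hAΩP x.2⟩).2
  obtain ⟨θ, hθ, hθe⟩ := comp_mem' E hεE hχ'E hεP
  have hθx : ∀ x : AΩ, θ x = χ' (k ⟨x, hAΩP x.2⟩) := fun x => by rw [hθe]; rfl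
  have hθA' : ∀ x : AΩ, θ x ∈ A' := by
    intro x
    rw [hθx]
    have hmem : ((k ⟨x, hAΩP x.2⟩ : P) : Ω) ∈ A₂ :=
      ⟨k ⟨x, hAΩP x.2⟩, ⟨_, hmemA x x.2, rfl⟩, rfl⟩
    have hQ : φ₂ ⟨_, hmem⟩ ∈ A' := hr₂.le ⟨_, rfl⟩
    have := hχe ⟨_, hmem⟩ (hPN (k ⟨x, hAΩP x.2⟩).2) hQ
    show χ ⟨((k ⟨x, hAΩP x.2⟩ : P) : Ω), _⟩ ∈ A'
    rw [this]
    exact (β₂ _).2
  have hA'S : A' ≤ S := hfa'.1
  have hfinA' : Finite A' := finite_of_le hA'S
  have hrθ : θ.range = A' := by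
    apply Subgroup.eq_of_le_of_card_ge
    · rintro _ ⟨x, rfl⟩; exact hθA' x
    · have h1 : Nat.card AΩ = Nat.card θ.range := card_eq_of_isConj E ⟨θ, hθ, rfl⟩
      have h2 : Nat.card AΩ = Nat.card A₂ := card_eq_of_isConj E ⟨ε, hεE, hrε⟩
      have h3 : Nat.card A₂ = Nat.card A' := card_eq_of_isConj E ⟨φ₂, hφ₂, hr₂⟩
      omega
  have hconjA : ∀ (g : P) (x : AΩ), (g : Ω) * x * (g : Ω)⁻¹ ∈ AΩ := by
    intro g x
    exact ⟨g * ⟨x, hAΩP x.2⟩ * g⁻¹, hAn.conj_mem _ (hmemA x x.2) g, rfl⟩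
  have hθconj : ∀ (g : P) (x : AΩ) (hx : (g : Ω) * x * (g : Ω)⁻¹ ∈ AΩ),
      θ ⟨(g : Ω) * x * (g : Ω)⁻¹, hx⟩ = χ' (k g) * θ x * (χ' (k g))⁻¹ := by
    intro g x hx
    rw [hθx, hθx]
    have e1 : (⟨(g : Ω) * x * (g : Ω)⁻¹, hAΩP hx⟩ : P) = g * ⟨x, hAΩP x.2⟩ * g⁻¹ :=
      Subtype.ext rfl
    show χ' (k ⟨(g : Ω) * x * (g : Ω)⁻¹, _⟩) = _
    rw [e1, map_mul, map_mul, map_inv, map_mul, map_mul, map_inv]
  have hext : P ≤ extender S AΩ θ := by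
    intro g hg
    refine Subgroup.subset_closure ⟨hPS hg, mem_normalizer_map_subtype A hAn hg,
      χ' (k ⟨g, hg⟩), hom_mem_S E hχ'E _, fun x hx => ?_⟩
    exact hθconj ⟨g, hg⟩ x hx
  obtain ⟨ψ, hψ, hψe⟩ := extend_to_sub E hθ hrθ hrec' hext
  have hψx : ∀ x : AΩ, ψ ⟨x, hAΩP x.2⟩ = θ x := fun x => hψe x x.2 (hAΩP x.2)
  have hcent : ∀ g : P, (ψ g)⁻¹ * χ' (k g) ∈ centralizerIn S A' := by
    intro g
    refine ⟨S.mul_mem (S.inv_mem (hom_mem_S E hψ g)) (hom_mem_S E hχ'E _), ?_⟩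
    show _ ∈ Subgroup.centralizer (A' : Set Ω)
    rw [Subgroup.mem_centralizer_iff]
    intro y hy
    obtain ⟨x, rfl⟩ := hrθ.ge hy
    have hx := hconjA g x
    have h1 : ψ g * θ x * (ψ g)⁻¹ = θ ⟨(g : Ω) * x * (g : Ω)⁻¹, hx⟩ := by
      rw [← hψx, ← hψx]
      have e1 : (⟨(g : Ω) * x * (g : Ω)⁻¹, hAΩP hx⟩ : P) = g * ⟨x, hAΩP x.2⟩ * g⁻¹ :=
        Subtype.ext rfl
      show _ = ψ ⟨(g : Ω) * x * (g : Ω)⁻¹, _⟩
      rw [e1, map_mul, map_mul, map_inv]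
    rw [hθconj g x hx] at h1
    have h2 : θ x = (ψ g)⁻¹ * (χ' (k g) * θ x * (χ' (k g))⁻¹) * ψ g := by
      rw [← h1]; group
    calc θ x * ((ψ g)⁻¹ * χ' (k g))
        = ((ψ g)⁻¹ * (χ' (k g) * θ x * (χ' (k g))⁻¹) * ψ g) * ((ψ g)⁻¹ * χ' (k g)) := by
          rw [← h2]
      _ = (ψ g)⁻¹ * χ' (k g) * θ x := by group
  set P₁ : Subgroup Ω := χ'.range with hP₁
  have hP₁S : P₁ ≤ S := range_le E hχ'E
  by_cases hC : centralizerIn S A' ≤ P₁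
  · -- Case I
    have hψP₁ : ∀ g : P, ψ g ∈ P₁ := by
      intro g
      have h1 : χ' (k g) ∈ P₁ := ⟨_, rfl⟩
      have h2 := hC (hcent g)
      have h3 : ψ g = χ' (k g) * ((ψ g)⁻¹ * χ' (k g))⁻¹ := by group
      rw [h3]
      exact P₁.mul_mem h1 (P₁.inv_mem h2)
    obtain ⟨ι, hι, hιe, hιr⟩ := inv_exists E hχ'E (rfl : χ'.range = P₁)
    obtain ⟨e, he, hee⟩ := comp_mem' E hψ hι hψP₁
    have heP : ∀ x : P, e x ∈ P := by
      intro x
      rw [hee]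
      exact hιr.le ⟨_, rfl⟩
    obtain ⟨α, hα, hαe⟩ := exists_aut_of_hom E he heP
    have hαk : ∀ a ∈ A, α a = k a := by
      intro a ha
      apply Subtype.ext
      rw [hαe, hee]
      have haΩ : (a : Ω) ∈ AΩ := ⟨a, ha, rfl⟩
      have h1 : ψ a = χ' (k a) := by
        have h0 := hψx ⟨a, haΩ⟩
        rw [hθx] at h0
        exact h0
      have h2 : (⟨ψ a, hψP₁ a⟩ : P₁) = ⟨χ' (k a), ⟨_, rfl⟩⟩ := Subtype.ext h1
      rw [h2]
      exact hιe (k a) _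
    have hu : α⁻¹ * k ∈ autInducedBy S P := by
      apply hAdet _ ((F.autGroup P).mul_mem ((F.autGroup P).inv_mem (hEK hα)) hk)
      intro a ha
      show α⁻¹ (k a) = a
      rw [← hαk a ha]
      simp
    have h5 : k = α * (α⁻¹ * k) := by group
    rw [h5]
    exact (E.autGroup P).mul_mem hα (hTE hu)
  · -- Case II
    have hP₁A' : ∀ g : P, ∀ y ∈ A', χ' g * y * (χ' g)⁻¹ ∈ A' := by
      intro g y hy
      obtain ⟨x, rfl⟩ := hrθ.ge hy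
      have hx := hconjA (k⁻¹ g) x
      have h1 := hθconj (k⁻¹ g) x hx
      have e : k (k⁻¹ g) = g := by simp
      rw [e] at h1
      rw [← h1]
      exact hθA' _
    have key : ∀ (t : P) (h : Ω), h ∈ centralizerIn S A' →
        χ' t * h * (χ' t)⁻¹ ∈ centralizerIn S A' := by
      intro t h hh
      refine ⟨S.mul_mem (S.mul_mem (hom_mem_S E hχ'E t) hh.1)
        (S.inv_mem (hom_mem_S E hχ'E t)), ?_⟩
      show _ ∈ Subgroup.centralizer (A' : Set Ω)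
      rw [Subgroup.mem_centralizer_iff]
      intro y hy
      have hy' : (χ' t)⁻¹ * y * χ' t ∈ A' := by
        have h0 := hP₁A' t⁻¹ y hy
        rwa [map_inv, inv_inv] at h0
      have hc := (Subgroup.mem_centralizer_iff.mp hh.2) _ hy'
      calc y * (χ' t * h * (χ' t)⁻¹)
          = χ' t * ((χ' t)⁻¹ * y * χ' t * h) * (χ' t)⁻¹ := by group
        _ = χ' t * (h * ((χ' t)⁻¹ * y * χ' t)) * (χ' t)⁻¹ := by rw [hc]
        _ = χ' t * h * (χ' t)⁻¹ * y := by group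
    have hP₁N : P₁ ≤ Subgroup.normalizer ((centralizerIn S A' : Subgroup Ω) : Set Ω) := by
      rintro _ ⟨g, rfl⟩
      rw [Subgroup.mem_normalizer_iff]
      intro h
      constructor
      · exact key g h
      · intro hh
        have h0 := key g⁻¹ _ hh
        rw [map_inv, inv_inv] at h0
        have e : (χ' g)⁻¹ * (χ' g * h * (χ' g)⁻¹) * χ' g = h := by group
        rwa [e] at h0
    obtain ⟨c, hcC, hcP₁, hcN⟩ :=
      exists_normalizing_outside hS hP₁S (centralizerIn_le S A') hP₁N hC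
    have hcS : c ∈ S := hcC.1
    have hcNS : c ∈ normalizerIn S P₁ := ⟨hcS, hcN⟩
    have hχ'F : χ' ∈ F.Hom P := hEF P hχ'E
    obtain ⟨ι', hι', hι'e, hι'r⟩ := inv_exists F hχ'F (rfl : χ'.range = P₁)
    obtain ⟨β₃, hβ₃, ρ, hρ, hρe⟩ := exists_extension_normalizer hS F hι' hι'r hP.1 hP.2.1
    have hcardP : Nat.card P = Nat.card P₁ := card_eq_of_isConj F ⟨χ', hχ'F, rfl⟩
    have hne : P₁ ≠ S := by
      intro h
      exact hcP₁ (h.ge hcS)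
    have hlt : Nat.card P < Nat.card (normalizerIn S P₁) := by
      rw [hcardP]; exact card_lt_card_normalizerIn hS hP₁S hne
    have hρE : ρ ∈ E.Hom (normalizerIn S P₁) := hA _ ρ hρ hlt
    have hP₁N' : P₁ ≤ normalizerIn S P₁ := le_normalizerIn hP₁S
    have hχ'N : ∀ x : P, χ' x ∈ normalizerIn S P₁ := fun x => hP₁N' ⟨x, rfl⟩
    obtain ⟨e₁, he₁, he₁e⟩ := comp_mem' E hχ'E hρE hχ'N
    have he₁P : ∀ x : P, e₁ x ∈ P := by
      intro x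
      rw [he₁e]
      have hQ : ι' ⟨χ' x, ⟨x, rfl⟩⟩ ∈ P := hι'r.le ⟨_, rfl⟩
      have h0 := hρe ⟨χ' x, ⟨x, rfl⟩⟩ (hχ'N x) hQ
      show ρ ⟨χ' x, _⟩ ∈ P
      rw [h0]
      exact (β₃ _).2
    obtain ⟨α₁, hα₁, hα₁e⟩ := exists_aut_of_hom E he₁ he₁P
    have hsurj : ∀ h : P, ∃ y : P, (h : Ω) = ρ ⟨χ' y, hχ'N y⟩ := by
      intro h
      refine ⟨α₁⁻¹ h, ?_⟩
      rw [← he₁e, ← hα₁e]
      simp
    have hρconj : ∀ (n : Ω) (hn : n ∈ normalizerIn S P₁) (h : Ω), h ∈ P →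
        ρ ⟨n, hn⟩ * h * (ρ ⟨n, hn⟩)⁻¹ ∈ P := by
      intro n hn h hh
      obtain ⟨y, hy⟩ := hsurj ⟨h, hh⟩
      have hy' : h = ρ ⟨χ' y, hχ'N y⟩ := hy
      have hmem : n * χ' y * n⁻¹ ∈ P₁ := (Subgroup.mem_normalizer_iff.mp hn.2 _).mp ⟨y, rfl⟩
      obtain ⟨y', hy'e⟩ := hmem
      have h0 : ρ ⟨n, hn⟩ * h * (ρ ⟨n, hn⟩)⁻¹ = ρ ⟨χ' y', hχ'N y'⟩ := by
        rw [hy', ← map_inv, ← map_mul, ← map_mul]
        congr 1
        apply Subtype.ext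
        show n * χ' y * n⁻¹ = χ' y'
        exact hy'e.symm
      rw [h0, ← he₁e]
      exact he₁P y'
    set c₂ : Ω := ρ ⟨c, hcNS⟩ with hc₂
    have hc₂S : c₂ ∈ S := hom_mem_S F hρ _
    have hcinvNS : c⁻¹ ∈ normalizerIn S P₁ := (normalizerIn S P₁).inv_mem hcNS
    have hc₂inv : ρ ⟨c⁻¹, hcinvNS⟩ = c₂⁻¹ := by
      rw [hc₂, ← map_inv]; rfl
    have hc₂N : c₂ ∈ Subgroup.normalizer (P : Set Ω) := by
      rw [Subgroup.mem_normalizer_iff]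
      intro h
      constructor
      · exact hρconj c hcNS h
      · intro hh
        have h0 := hρconj c⁻¹ hcinvNS _ hh
        rw [hc₂inv] at h0
        have e : c₂⁻¹ * (c₂ * h * c₂⁻¹) * c₂⁻¹⁻¹ = h := by group
        rwa [e] at h0
    have hc₂P : c₂ ∉ P := by
      intro hh
      obtain ⟨y, hy⟩ := hsurj ⟨c₂, hh⟩
      have hy' : ρ ⟨c, hcNS⟩ = ρ ⟨χ' y, hχ'N y⟩ := hy
      have h0 := F.injective_of_mem hρ hy'
      apply hcP₁
      have h3 : c = χ' y := congrArg Subtype.val h0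
      rw [h3]; exact ⟨y, rfl⟩
    have hc₂cent : ∀ a ∈ A, c₂ * ((α₁ (k a) : P) : Ω) * c₂⁻¹ = ((α₁ (k a) : P) : Ω) := by
      intro a ha
      have haΩ : (a : Ω) ∈ AΩ := ⟨a, ha, rfl⟩
      have h1 : χ' (k a) = θ ⟨a, haΩ⟩ := (hθx ⟨a, haΩ⟩).symm
      have h2 : θ ⟨a, haΩ⟩ ∈ A' := hθA' _
      rw [hα₁e, he₁e]
      have hcomm : θ ⟨a, haΩ⟩ * c = c * θ ⟨a, haΩ⟩ :=
        (Subgroup.mem_centralizer_iff.mp hcC.2) _ h2
      have h3 : (⟨c, hcNS⟩ : normalizerIn S P₁) * ⟨χ' (k a), hχ'N (k a)⟩ * ⟨c, hcNS⟩⁻¹ =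
          ⟨χ' (k a), hχ'N (k a)⟩ := by
        apply Subtype.ext
        show c * χ' (k a) * c⁻¹ = χ' (k a)
        rw [h1, ← hcomm]; group
      rw [hc₂, ← map_inv, ← map_mul, ← map_mul, h3]
    set t₂ : MulAut P := conjAut P c₂ hc₂N with ht₂
    have ht₂T : t₂ ∈ autInducedBy S P := conjAut_mem_autInducedBy hc₂S hc₂N
    have ht₂x : ∀ x : P, ((t₂ x : P) : Ω) = c₂ * x * c₂⁻¹ := fun x => rfl
    set k₁ : MulAut P := α₁ * k with hk₁
    have hk₁K : k₁ ∈ F.autGroup P := (F.autGroup P).mul_mem (hEK hα₁) hk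
    have ht'K : k₁⁻¹ * t₂ * k₁ ∈ F.autGroup P :=
      (F.autGroup P).mul_mem ((F.autGroup P).mul_mem ((F.autGroup P).inv_mem hk₁K)
        (autInducedBy_le_autGroup F hPS ht₂T)) hk₁K
    have ht'T : k₁⁻¹ * t₂ * k₁ ∈ autInducedBy S P := by
      apply hAdet _ ht'K
      intro a ha
      show k₁⁻¹ (t₂ (k₁ a)) = a
      have h0 : t₂ (k₁ a) = k₁ a := by
        apply Subtype.ext
        rw [ht₂x]
        exact hc₂cent a ha
      rw [h0]; simp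
    obtain ⟨g', hg'S, hg'e⟩ := (mem_autInducedBy_iff S P _).mp ht'T
    set t' : MulAut P := k₁⁻¹ * t₂ * k₁ with ht'
    have hrel : ∀ x : P, k₁ (t' x) = t₂ (k₁ x) := by
      intro x
      show k₁ ((k₁⁻¹ * t₂ * k₁) x) = _
      simp [MulAut.mul_apply]
    have hg'P : g' ∉ P := by
      intro hh
      have ht'x : ∀ x : P, t' x = ⟨g', hh⟩ * x * ⟨g', hh⟩⁻¹ := fun x => Subtype.ext (hg'e x)
      have h1 : ∀ x : P, c₂ * (x : Ω) * c₂⁻¹ =
          ((k₁ ⟨g', hh⟩ : P) : Ω) * x * ((k₁ ⟨g', hh⟩ : P) : Ω)⁻¹ := by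
        intro x
        have h2 := hrel (k₁⁻¹ x)
        rw [ht'x, map_mul, map_mul, map_inv] at h2
        have e : k₁ (k₁⁻¹ x) = x := by simp
        rw [e] at h2
        have h3 := congrArg Subtype.val h2
        rw [ht₂x] at h3
        exact h3.symm
      have hz : ((k₁ ⟨g', hh⟩ : P) : Ω)⁻¹ * c₂ ∈ centralizerIn S P := by
        refine ⟨S.mul_mem (S.inv_mem (hPS (k₁ ⟨g', hh⟩).2)) hc₂S, ?_⟩
        show _ ∈ Subgroup.centralizer (P : Set Ω)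
        rw [Subgroup.mem_centralizer_iff]
        intro x hx
        have h0 := h1 ⟨x, hx⟩
        have h4 : c₂ * x = ((k₁ ⟨g', hh⟩ : P) : Ω) * x * ((k₁ ⟨g', hh⟩ : P) : Ω)⁻¹ * c₂ := by
          rw [← h0]; group
        calc x * (((k₁ ⟨g', hh⟩ : P) : Ω)⁻¹ * c₂)
            = ((k₁ ⟨g', hh⟩ : P) : Ω)⁻¹ *
              (((k₁ ⟨g', hh⟩ : P) : Ω) * x * ((k₁ ⟨g', hh⟩ : P) : Ω)⁻¹ * c₂) := by group
          _ = ((k₁ ⟨g', hh⟩ : P) : Ω)⁻¹ * (c₂ * x) := by rw [h4]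
          _ = ((k₁ ⟨g', hh⟩ : P) : Ω)⁻¹ * c₂ * x := by group
      have hzP := hP.2.2.1.2 P (isConj_refl F hPS) hz
      apply hc₂P
      have h5 : c₂ = ((k₁ ⟨g', hh⟩ : P) : Ω) * (((k₁ ⟨g', hh⟩ : P) : Ω)⁻¹ * c₂) := by group
      rw [h5]
      exact P.mul_mem (k₁ ⟨g', hh⟩).2 hzP
    have hg'N : g' ∈ Subgroup.normalizer (P : Set Ω) := by
      rw [Subgroup.mem_normalizer_iff]
      intro h
      constructor
      · intro hh
        have h0 : g' * h * g'⁻¹ = ((t' ⟨h, hh⟩ : P) : Ω) := (hg'e ⟨h, hh⟩).symm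
        rw [h0]
        exact (t' _).2
      · intro hh
        have h1 : t' (t'⁻¹ ⟨g' * h * g'⁻¹, hh⟩) = ⟨g' * h * g'⁻¹, hh⟩ := by simp
        have h2 := hg'e (t'⁻¹ ⟨g' * h * g'⁻¹, hh⟩)
        rw [h1] at h2
        have h3 : g' * h * g'⁻¹ = g' * ((t'⁻¹ ⟨g' * h * g'⁻¹, hh⟩ : P) : Ω) * g'⁻¹ := h2
        have h4 : h = ((t'⁻¹ ⟨g' * h * g'⁻¹, hh⟩ : P) : Ω) :=
          mul_left_cancel (mul_right_cancel h3)
        rw [h4]; exact (t'⁻¹ ⟨g' * h * g'⁻¹, hh⟩).2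
    set k₁φ : P →* Ω := P.subtype.comp k₁.toMonoidHom with hk₁φ
    have hk₁φF : k₁φ ∈ F.Hom P := (mem_autGroup_iff F hPS k₁).mp hk₁K
    have hk₁r : k₁φ.range = P := by
      apply le_antisymm
      · rintro _ ⟨x, rfl⟩; exact (k₁ x).2
      · intro x hx
        refine ⟨k₁⁻¹ ⟨x, hx⟩, ?_⟩
        show ((k₁ (k₁⁻¹ ⟨x, hx⟩) : P) : Ω) = x
        simp
    have hg'ext : g' ∈ extender S P k₁φ := by
      refine Subgroup.subset_closure ⟨hg'S, hg'N, c₂, hc₂S, fun x hx => ?_⟩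
      have e1 : (⟨g' * x * g'⁻¹, hx⟩ : P) = t' x := Subtype.ext (hg'e x).symm
      rw [e1]
      show ((k₁ (t' x) : P) : Ω) = c₂ * ((k₁ x : P) : Ω) * c₂⁻¹
      rw [hrel x, ht₂x]
    obtain ⟨kt, hkt, hkte⟩ := hP.2.1.2 P k₁φ hk₁φF hk₁r
    have hPext : P ≤ extender S P k₁φ := self_le_extender F hk₁φF
    have hextS : extender S P k₁φ ≤ S :=
      (Cfsg.Agent.Lib.Helper84.extender_le P k₁φ).trans (normalizerIn_le S P)
    have hfinext : Finite (extender S P k₁φ) := finite_of_le hextS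
    have hlt2 : Nat.card P < Nat.card (extender S P k₁φ) := by
      by_contra hcon
      push Not at hcon
      have h0 := Subgroup.eq_of_le_of_card_ge hPext hcon
      exact hg'P (h0.ge hg'ext)
    have hktE : kt ∈ E.Hom (extender S P k₁φ) := hA _ kt hkt hlt2
    have hk₁E : k₁ ∈ E.autGroup P := by
      apply Subgroup.subset_closure
      show k₁φ ∈ E.Hom P
      have h0 := restrict_mem E hktE hPext
      have e2 : kt.comp (Subgroup.inclusion hPext) = k₁φ := by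
        ext x
        exact hkte x x.2 (hPext x.2)
      rwa [e2] at h0
    have h6 : k = α₁⁻¹ * k₁ := by rw [hk₁]; group
    rw [h6]
    exact (E.autGroup P).mul_mem ((E.autGroup P).inv_mem hα₁) hk₁E

end Cfsg.Agent.Lib.Helper31.BGH
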