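import Cfsg.Agent.Lib.Helper31.BGHb

/-!
Small-exponent abelian subgroups of the hyperfocal subgroup control fusion.
-/

set_option autoImplicit false

namespace Cfsg.Agent.Lib.Helper31.BGH

open Cfsg Cfsg.FusionSystem
open Cfsg.Agent.Lib.Helper87

variable {Ω : Type*} [Group Ω] {S : Subgroup Ω} {p : ℕ} [Fact p.Prime] [Finite S]

theorem aut_le (hS : IsPGroup p S) (E F : FusionSystem S) (hE : E.IsSaturated p)
    (hF : F.IsSaturated p) (hEF : E.IsSubsystemOf F)
    (hsm : ∀ A B : Subgroup Ω, SmallAb F p A → SmallAb F p B → F.homSet A B ⊆ E.homSet A B) :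
    ∀ P : Subgroup Ω, IsAlperin F p P → F.autGroup P ≤ E.autGroup P := by
  have key : ∀ n : ℕ, ∀ P : Subgroup Ω, IsAlperin F p P → Nat.card S - Nat.card P = n →
      F.autGroup P ≤ E.autGroup P := by
    intro n
    induction n using Nat.strong_induction_on with
    | _ n ih =>
      intro P hP hn
      apply step hS E F hE hEF hsm hP
      apply claimA hS E F hF (Nat.card P)
      intro R hR hlt
      have hRS : R ≤ S := hR.1.1
      have hcard : Nat.card R ≤ Nat.card S :=
        Nat.card_le_card_of_injective _ (Subgroup.inclusion_injective hRS)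
      exact ih (Nat.card S - Nat.card R) (by omega) R hR rfl
  intro P hP
  exact key _ P hP rfl

theorem hom_eq (hS : IsPGroup p S) (E F : FusionSystem S) (hE : E.IsSaturated p)
    (hF : F.IsSaturated p) (hEF : E.IsSubsystemOf F)
    (hsm : ∀ A B : Subgroup Ω, SmallAb F p A → SmallAb F p B → F.homSet A B ⊆ E.homSet A B) :
    ∀ P : Subgroup Ω, E.Hom P = F.Hom P := by
  intro P
  apply Set.Subset.antisymm (hEF P)
  intro φ hφ
  have hPS : P ≤ S := hom_le F hφ
  have : Finite P := finite_of_le hPS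
  apply claimA hS E F hF 0 (fun R hR _ => aut_le hS E F hE hF hEF hsm R hR) P φ hφ
  exact Nat.card_pos

omit [Fact p.Prime] [Finite S] in
/-- the hypotheses of the statements give the containment on small abelian subgroups. -/
theorem small_of_hyps (E F : FusionSystem S)
    (hodd : p ≠ 2 → ∀ A B : Subgroup Ω, A ≤ (F.hyperfocalSubgroup p) →
      B ≤ (F.hyperfocalSubgroup p) →
      Cfsg.IsElementaryAbelian p A → Cfsg.IsElementaryAbelian p B → E.homSet A B = F.homSet A B)
    (htwo : p = 2 → ∀ A B : Subgroup Ω, A ≤ (F.hyperfocalSubgroup p) →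
      B ≤ (F.hyperfocalSubgroup p) →
      IsMulCommutative ↥A → IsMulCommutative ↥B → (∀ a ∈ A, a ^ 4 = 1) → (∀ b ∈ B, b ^ 4 = 1) →
      E.homSet A B = F.homSet A B) :
    ∀ A B : Subgroup Ω, SmallAb F p A → SmallAb F p B → F.homSet A B ⊆ E.homSet A B := by
  intro A B hA hB
  have hcomm : ∀ X : Subgroup Ω, SmallAb F p X → IsMulCommutative ↥X := by
    intro X hX
    exact ⟨⟨fun x y => Subtype.ext (hX.2.1 x x.2 y y.2)⟩⟩
  by_cases hp2 : p = 2
  · have h4 : ∀ X : Subgroup Ω, SmallAb F p X → ∀ a ∈ X, a ^ 4 = 1 := by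
      intro X hX a ha
      rcases hX.2.2 a ha with h | ⟨_, h⟩
      · rw [hp2] at h
        have e : a ^ 4 = (a ^ 2) ^ 2 := by rw [← pow_mul]
        rw [e, h, one_pow]
      · exact h
    exact (htwo hp2 A B hA.1 hB.1 (hcomm A hA) (hcomm B hB) (h4 A hA) (h4 B hB)).ge
  · have hel : ∀ X : Subgroup Ω, SmallAb F p X → Cfsg.IsElementaryAbelian p X := by
      intro X hX
      exact ⟨hcomm X hX, fun a ha => (hX.2.2 a ha).resolve_right (fun h => hp2 h.1)⟩
    exact (hodd hp2 A B hA.1 hB.1 (hel A hA) (hel B hB)).ge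

omit [Fact p.Prime] [Finite S] in
theorem hyperfocal_le_top (F : FusionSystem S) : F.hyperfocalSubgroup p ≤ S := by
  unfold FusionSystem.hyperfocalSubgroup
  rw [Subgroup.closure_le]
  rintro y ⟨P, α, x, hPS, -, rfl⟩
  exact S.mul_mem (S.inv_mem (hPS x.2)) (hPS (((α : MulAut P) x : P)).2)

end Cfsg.Agent.Lib.Helper31.BGH
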