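import Mathlib
import Cfsg.Prelude.Def_Local
import Cfsg.Agent.Lib.Helper48.CharP
import Cfsg.Agent.Lib.Helper22.Fitting
import Cfsg.Agent.Lib.Helper21.Components
import Cfsg.Agent.S0028
import Cfsg.Agent.S1265

set_option autoImplicit false

namespace Cfsg.Agent.Lib.Helper31

open Subgroup Cfsg.Agent.Lib.Helper48

section typelevel

variable {Z : Type*} [Group Z] [Finite Z] {p : ℕ} [hp : Fact p.Prime]

omit [Finite Z] hp in
theorem eq_one_of_ppow_of_coprime {x : Z} (hx : ∃ k : ℕ, orderOf x = p ^ k)
    (hc : (orderOf x).Coprime p) : x = 1 := by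
  obtain ⟨k, hk⟩ := hx
  have h1 : orderOf x ∣ p ^ k := by rw [hk]
  have h2 : orderOf x = 1 := Nat.Coprime.eq_one_of_dvd (Nat.Coprime.pow_right k hc) h1
  exact orderOf_eq_one_iff.mp h2

theorem layer_eq_bot_of_charP (h : Helper48.CharP p Z) : Cfsg.layer Z = ⊥ := by
  unfold Cfsg.layer
  rw [eq_bot_iff]
  apply sSup_le
  intro K hK
  exfalso
  have hQn : (Cfsg.pCore p Z).Normal := Cfsg.pCore_normal p Z
  have hQp : IsPGroup p (Cfsg.pCore p Z) := isPGroup_pCore p Z
  have hsolv : Group.IsSolvable ↥(Cfsg.pCore p Z) := by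
    have : Group.IsNilpotent ↥(Cfsg.pCore p Z) := hQp.isNilpotent
    infer_instance
  have hcomm : ⁅K, Cfsg.pCore p Z⁆ = ⊥ :=
    Cfsg.Agent.Lib.Helper21.component_commutes_solvable hK hsolv
      (by rw [normalizer_eq_top]; exact le_top)
  have hKle : K ≤ centralizer (Cfsg.pCore p Z : Set Z) :=
    Subgroup.commutator_eq_bot_iff_le_centralizer.mp hcomm
  have hKQ : K ≤ Cfsg.pCore p Z := hKle.trans h
  have : Group.IsSolvable ↥K :=
    Group.isSolvable_of_isSolvable_injective (Subgroup.inclusion_injective hKQ)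
  exact Cfsg.Agent.Lib.Helper21.quasisimple_not_solvable hK.2 this

theorem fitting_eq_pCore_of_charP (h : Helper48.CharP p Z) : Cfsg.fittingSubgroup Z = Cfsg.pCore p Z := by
  apply le_antisymm
  · rw [Cfsg.Agent.Lib.Helper22.fittingSubgroup_eq_iSup_pCore]
    apply iSup_le
    intro q
    by_cases hqp : (q : ℕ) = p
    · rw [hqp]
    · have : Fact (q : ℕ).Prime := ⟨q.2⟩
      have hQq : IsPGroup q (Cfsg.pCore q Z) := isPGroup_pCore q Z
      have hQp : IsPGroup p (Cfsg.pCore p Z) := isPGroup_pCore p Z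
      have hn1 : (Cfsg.pCore (q : ℕ) Z).Normal := Cfsg.pCore_normal q Z
      have hn2 : (Cfsg.pCore p Z).Normal := Cfsg.pCore_normal p Z
      have hdisj : Disjoint (Cfsg.pCore (q : ℕ) Z) (Cfsg.pCore p Z) :=
        IsPGroup.disjoint_of_ne q p hqp _ _ hQq hQp
      have hle : Cfsg.pCore (q : ℕ) Z ≤ centralizer (Cfsg.pCore p Z : Set Z) := by
        intro x hx
        rw [mem_centralizer_iff]
        intro y hy
        exact (Subgroup.commute_of_normal_of_disjoint _ _ hn1 hn2 hdisj x y hx hy).eq.symm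
      exact hle.trans h
  · exact Cfsg.Agent.Lib.Helper22.le_fittingSubgroup (Cfsg.pCore_normal p Z)
      (isPGroup_pCore p Z).isNilpotent

theorem genFitting_eq_pCore_of_charP (h : Helper48.CharP p Z) :
    Cfsg.generalizedFittingSubgroup Z = Cfsg.pCore p Z := by
  unfold Cfsg.generalizedFittingSubgroup
  rw [layer_eq_bot_of_charP h, fitting_eq_pCore_of_charP h, bot_sup_eq]

omit hp in
theorem charP_of_genFitting_eq (h : Cfsg.generalizedFittingSubgroup Z = Cfsg.pCore p Z) :
    Helper48.CharP p Z := by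
  unfold Helper48.CharP
  have := Cfsg.Agent.S1265.result (G := Z)
  rw [h] at this
  exact this

end typelevel

section glevel

variable {G : Type*} [Group G] [Finite G] {p : ℕ} [hp : Fact p.Prime]

/-- `O_p(K)` of a subgroup `K`, as a subgroup of the ambient group. -/
def OO (p : ℕ) (K : Subgroup G) : Subgroup G := (Cfsg.pCore p ↥K).map K.subtype

omit [Finite G] hp in
theorem OO_le (K : Subgroup G) : OO p K ≤ K := Subgroup.map_subtype_le _

omit [Finite G] in
theorem isPGroup_OO (K : Subgroup G) : IsPGroup p (OO p K) :=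
  (isPGroup_pCore p ↥K).map K.subtype

omit [Finite G] hp in
theorem mem_OO {K : Subgroup G} {x : G} :
    x ∈ OO p K ↔ ∃ hx : x ∈ K, (⟨x, hx⟩ : ↥K) ∈ Cfsg.pCore p ↥K := by
  unfold OO
  constructor
  · rintro ⟨y, hy, rfl⟩
    exact ⟨y.2, hy⟩
  · rintro ⟨hx, h⟩
    exact ⟨⟨x, hx⟩, h, rfl⟩

omit [Finite G] hp in
theorem le_OO {K N : Subgroup G} (hNK : N ≤ K) (hKN : K ≤ normalizer (N : Set G))
    (hN : IsPGroup p N) : N ≤ OO p K := by
  have hn : (N.subgroupOf K).Normal := (normal_subgroupOf_iff_le_normalizer hNK).mpr hKN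
  have hpN : IsPGroup p (N.subgroupOf K) := hN.comap_subtype
  have h1 : N.subgroupOf K ≤ Cfsg.pCore p ↥K := le_pCore hn hpN
  have h2 := Subgroup.map_mono (f := K.subtype) h1
  rwa [Subgroup.map_subgroupOf_eq_of_le hNK] at h2

/-- conjugation by an element of the normalizer, as an automorphism of the subgroup -/
def conjEquiv (K : Subgroup G) (g : G) (hg : g ∈ normalizer (K : Set G)) : ↥K ≃* ↥K where
  toFun x := ⟨g * x * g⁻¹, (mem_normalizer_iff.mp hg x).mp x.2⟩
  invFun x := ⟨g⁻¹ * x * g, by
    have := (mem_normalizer_iff.mp (inv_mem hg) x).mp x.2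
    simpa using this⟩
  left_inv x := by ext; simp [mul_assoc]
  right_inv x := by ext; simp [mul_assoc]
  map_mul' x y := by ext; simp [mul_assoc]

omit [Finite G] hp in
theorem conj_mem_OO {K : Subgroup G} {g : G} (hg : g ∈ normalizer (K : Set G)) {x : G}
    (hx : x ∈ OO p K) : g * x * g⁻¹ ∈ OO p K := by
  obtain ⟨hxK, hx'⟩ := mem_OO.mp hx
  have h1 := pCore_map_le (p := p) (conjEquiv K g hg)
  have h2 : (conjEquiv K g hg) ⟨x, hxK⟩ ∈ Cfsg.pCore p ↥K :=
    h1 (Subgroup.mem_map_of_mem _ hx')
  rw [mem_OO]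
  exact ⟨_, h2⟩

omit [Finite G] hp in
theorem normalizer_le_normalizer_OO (K : Subgroup G) :
    normalizer (K : Set G) ≤ normalizer (OO p K : Set G) := by
  intro g hg
  rw [mem_normalizer_iff]
  intro x
  constructor
  · intro hx
    exact conj_mem_OO hg hx
  · intro hx
    have := conj_mem_OO (inv_mem hg) hx
    simpa [mul_assoc] using this

omit [Finite G] hp in
theorem charP_iff {K : Subgroup G} :
    Helper48.CharP p ↥K ↔ ∀ c ∈ K, (∀ x ∈ OO p K, x * c = c * x) → c ∈ OO p K := by
  unfold Helper48.CharP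
  constructor
  · intro h c hc hcx
    rw [mem_OO]
    refine ⟨hc, h ?_⟩
    rw [mem_centralizer_iff]
    intro y hy
    apply Subtype.ext
    exact hcx y (mem_OO.mpr ⟨y.2, hy⟩)
  · intro h c hc
    have := h c c.2 (fun x hx => by
      obtain ⟨hxK, hx'⟩ := mem_OO.mp hx
      have := mem_centralizer_iff.mp hc ⟨x, hxK⟩ hx'
      exact congrArg Subtype.val this)
    obtain ⟨_, h'⟩ := mem_OO.mp this
    exact h'

theorem charP_of_normal {K L : Subgroup G} (hKL : K ≤ L) (hLK : L ≤ normalizer (K : Set G))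
    (h : Helper48.CharP p ↥L) : Helper48.CharP p ↥K := by
  have hn : (K.subgroupOf L).Normal := (normal_subgroupOf_iff_le_normalizer hKL).mpr hLK
  have h1 : Helper48.CharP p ↥(K.subgroupOf L) :=
    @Helper48.CharP.normal L _ _ p _ h (K.subgroupOf L) hn
  exact h1.of_equiv (Subgroup.subgroupOfEquivOfLe hKL)

omit [Finite G] hp in
theorem mem_normalizer_inf {A B : Subgroup G} {k : G} (h1 : k ∈ normalizer (A : Set G))
    (h2 : k ∈ normalizer (B : Set G)) : k ∈ normalizer ((A ⊓ B : Subgroup G) : Set G) := by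
  rw [mem_normalizer_iff] at *
  intro x
  rw [mem_inf, mem_inf, ← h1 x, ← h2 x]

/-- If `Y` has characteristic `p` and the `p`-group `A` normalizes `Y`, then `C_Y(A)` has
characteristic `p`. -/
theorem charP_centralizer_inf {Y A : Subgroup G} (hY : Helper48.CharP p ↥Y) (hA : IsPGroup p A)
    (hAY : A ≤ normalizer (Y : Set G)) :
    Helper48.CharP p ↥(centralizer (A : Set G) ⊓ Y) := by
  have hCn : (centralizer (Cfsg.pCore p ↥(centralizer (A : Set G) ⊓ Y) :
      Set ↥(centralizer (A : Set G) ⊓ Y))).Normal := by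
    have : (Cfsg.pCore p ↥(centralizer (A : Set G) ⊓ Y)).Normal := Cfsg.pCore_normal p _
    infer_instance
  have hCp : IsPGroup p (centralizer (Cfsg.pCore p ↥(centralizer (A : Set G) ⊓ Y) :
      Set ↥(centralizer (A : Set G) ⊓ Y))) := by
    apply isPGroup_of_coprime_trivial
    intro c hc
    have hczK : ((c : ↥(centralizer (A : Set G) ⊓ Y)) : G) ∈ centralizer (A : Set G) ⊓ Y :=
      (c : ↥(centralizer (A : Set G) ⊓ Y)).2
    generalize hcz : ((c : ↥(centralizer (A : Set G) ⊓ Y)) : G) = cz at hczK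
    have hczA : cz ∈ centralizer (A : Set G) := (mem_inf.mp hczK).1
    have hczY : cz ∈ Y := (mem_inf.mp hczK).2
    have hcop : (orderOf cz).Coprime p := by
      rw [← hcz, Subgroup.orderOf_coe, Subgroup.orderOf_coe]; exact hc
    have hB : (Nat.card (zpowers cz)).Coprime p := by rw [Nat.card_zpowers]; exact hcop
    have hcO : ∀ x ∈ OO p (centralizer (A : Set G) ⊓ Y), x * cz = cz * x := by
      intro x hx
      obtain ⟨hxK, hx'⟩ := mem_OO.mp hx
      have := mem_centralizer_iff.mp c.2 ⟨x, hxK⟩ hx'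
      rw [← hcz]
      exact congrArg Subtype.val this
    have hW : OO p Y ⊓ centralizer (A : Set G) ≤ OO p (centralizer (A : Set G) ⊓ Y) := by
      apply le_OO
      · exact le_inf inf_le_right (inf_le_left.trans (OO_le Y))
      · intro k hk
        have hkY : k ∈ Y := (mem_inf.mp hk).2
        have hkA : k ∈ centralizer (A : Set G) := (mem_inf.mp hk).1
        exact mem_normalizer_inf (normalizer_le_normalizer_OO Y (le_normalizer hkY))
          (le_normalizer hkA)
      · exact (isPGroup_OO Y).to_le inf_le_left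
    have key : zpowers cz ≤ centralizer (OO p Y : Set G) := by
      apply Cfsg.Agent.S0028.result p A (zpowers cz) (OO p Y) hA hB (isPGroup_OO Y)
      · rw [le_centralizer_iff, zpowers_le]; exact hczA
      · exact hAY.trans (normalizer_le_normalizer_OO Y)
      · rw [zpowers_le]; exact normalizer_le_normalizer_OO Y (le_normalizer hczY)
      · rw [le_centralizer_iff, zpowers_le, mem_centralizer_iff]
        intro x hx
        exact hcO x (hW hx)
    have hczO : cz ∈ OO p Y := (charP_iff.mp hY) cz hczY (fun x hx =>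
      mem_centralizer_iff.mp (key (mem_zpowers cz)) x hx)
    have hpow : ∃ k : ℕ, orderOf cz = p ^ k := by
      obtain ⟨k, hk⟩ := (IsPGroup.iff_orderOf.mp (isPGroup_OO (p := p) Y)) ⟨cz, hczO⟩
      exact ⟨k, by rw [← hk, Subgroup.orderOf_mk]⟩
    have h1 : cz = 1 := eq_one_of_ppow_of_coprime hpow hcop
    apply Subtype.ext; apply Subtype.ext
    rw [hcz, h1]; rfl
  exact le_pCore hCn hCp

omit [Finite G] hp in
theorem mem_normalizer_centralizer {V : Subgroup G} {g : G} (hg : g ∈ normalizer (V : Set G)) :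
    g ∈ normalizer (centralizer (V : Set G) : Set G) := by
  have key : ∀ g ∈ normalizer (V : Set G), ∀ c ∈ centralizer (V : Set G),
      g * c * g⁻¹ ∈ centralizer (V : Set G) := by
    intro g hg c hc
    rw [mem_centralizer_iff]
    intro v hv
    have hv' : g⁻¹ * v * g ∈ V := by
      have := (mem_normalizer_iff.mp (inv_mem hg) v).mp hv
      simpa using this
    have := mem_centralizer_iff.mp hc _ hv'
    calc v * (g * c * g⁻¹) = g * ((g⁻¹ * v * g) * c) * g⁻¹ := by group
      _ = g * (c * (g⁻¹ * v * g)) * g⁻¹ := by rw [this]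
      _ = g * c * g⁻¹ * v := by group
  rw [mem_normalizer_iff]
  intro c
  constructor
  · exact key g hg c
  · intro h
    have := key g⁻¹ (inv_mem hg) _ h
    simpa [mul_assoc] using this

theorem exists_mem_normalizer_not_mem {U V : Subgroup G} (hU : IsPGroup p U) (hVU : V ≤ U)
    (hne : V ≠ U) : ∃ u ∈ U, u ∈ normalizer (V : Set G) ∧ u ∉ V := by
  have : Group.IsNilpotent ↥U := hU.isNilpotent
  have hnc : NormalizerCondition ↥U := Group.normalizerCondition_of_isNilpotent
  have hlt : V.subgroupOf U < ⊤ := by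
    rw [lt_top_iff_ne_top, Ne, subgroupOf_eq_top]
    intro h; exact hne (le_antisymm hVU h)
  have h2 := hnc _ hlt
  obtain ⟨u, hu1, hu2⟩ := SetLike.exists_of_lt h2
  refine ⟨u, u.2, ?_, ?_⟩
  · rw [← subgroupOf_normalizer_eq hVU] at hu1
    exact mem_subgroupOf.mp hu1
  · intro h; exact hu2 (mem_subgroupOf.mpr h)

theorem charP_centralizer_chain {U : Subgroup G} (hU : IsPGroup p U) :
    ∀ n : ℕ, ∀ V : Subgroup G, V ≤ U → Nat.card U - Nat.card V ≤ n →
      Helper48.CharP p ↥(centralizer (V : Set G)) →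
      Helper48.CharP p ↥(centralizer (U : Set G)) := by
  intro n
  induction n with
  | zero =>
    intro V hVU hn hV
    have hVeq : V = U := by
      have h1 : Nat.card U ≤ Nat.card V := by omega
      exact Subgroup.eq_of_le_of_card_ge hVU h1
    rw [← hVeq]; exact hV
  | succ n ih =>
    intro V hVU hn hV
    by_cases hne : V = U
    · rw [← hne]; exact hV
    · obtain ⟨u, huU, huN, huV⟩ := exists_mem_normalizer_not_mem hU hVU hne
      have hVV' : V ≤ normalizer (V : Set G) ⊓ U := le_inf le_normalizer hVU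
      have hV'U : normalizer (V : Set G) ⊓ U ≤ U := inf_le_right
      have huV' : u ∈ normalizer (V : Set G) ⊓ U := mem_inf.mpr ⟨huN, huU⟩
      have hlt : Nat.card V < Nat.card ↥(normalizer (V : Set G) ⊓ U) := by
        by_contra hcon
        have h1 : Nat.card ↥(normalizer (V : Set G) ⊓ U) ≤ Nat.card V := by omega
        have := Subgroup.eq_of_le_of_card_ge hVV' h1
        exact huV (this ▸ huV')
      have hV'p : IsPGroup p ↥(normalizer (V : Set G) ⊓ U) := hU.to_le hV'U
      have hnorm : normalizer (V : Set G) ⊓ U ≤ normalizer (centralizer (V : Set G) : Set G) := by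
        intro g hg
        exact mem_normalizer_centralizer (mem_inf.mp hg).1
      have h1 := charP_centralizer_inf hV hV'p hnorm
      have h2 : centralizer ((normalizer (V : Set G) ⊓ U : Subgroup G) : Set G) ⊓
          centralizer (V : Set G) = centralizer ((normalizer (V : Set G) ⊓ U : Subgroup G) : Set G) :=
        inf_eq_left.mpr (centralizer_le hVV')
      rw [h2] at h1
      apply ih _ hV'U _ h1
      have hle : Nat.card ↥(normalizer (V : Set G) ⊓ U) ≤ Nat.card U := Subgroup.card_le_of_le hV'U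
      omega

/-- If `V ≤ U` with `U` a `p`-group and `C_G(V)` has characteristic `p`, then `N_G(U)` has
characteristic `p`. -/
theorem charP_normalizer_of_centralizer {U V : Subgroup G} (hU : IsPGroup p U) (hVU : V ≤ U)
    (hV : Helper48.CharP p ↥(centralizer (V : Set G))) :
    Helper48.CharP p ↥(normalizer (U : Set G)) := by
  have hCU : Helper48.CharP p ↥(centralizer (U : Set G)) :=
    charP_centralizer_chain hU _ V hVU le_rfl hV
  rw [charP_iff]
  have hUO : U ≤ OO p (normalizer (U : Set G)) := le_OO le_normalizer le_rfl hU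
  have hDU : centralizer (OO p (normalizer (U : Set G)) : Set G) ⊓ normalizer (U : Set G) ≤
      centralizer (U : Set G) := inf_le_left.trans (centralizer_le hUO)
  have hHD : normalizer (U : Set G) ≤ normalizer
      ((centralizer (OO p (normalizer (U : Set G)) : Set G) ⊓ normalizer (U : Set G) :
        Subgroup G) : Set G) := by
    intro h hh
    apply mem_normalizer_inf
    · exact mem_normalizer_centralizer (normalizer_le_normalizer_OO _ (le_normalizer hh))
    · exact le_normalizer hh
  have hCH : centralizer (U : Set G) ≤ normalizer (U : Set G) := centralizer_le_normalizer _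
  have hDch := charP_of_normal hDU (hCH.trans hHD) hCU
  have hOD : OO p (centralizer (OO p (normalizer (U : Set G)) : Set G) ⊓ normalizer (U : Set G)) ≤
      OO p (normalizer (U : Set G)) := by
    apply le_OO ((OO_le _).trans inf_le_right)
    · exact hHD.trans (normalizer_le_normalizer_OO _)
    · exact isPGroup_OO _
  intro c hcH hcx
  have hcD : c ∈ centralizer (OO p (normalizer (U : Set G)) : Set G) ⊓ normalizer (U : Set G) :=
    mem_inf.mpr ⟨mem_centralizer_iff.mpr hcx, hcH⟩
  have : c ∈ OO p (centralizer (OO p (normalizer (U : Set G)) : Set G) ⊓ normalizer (U : Set G)) :=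
    (charP_iff.mp hDch) c hcD (fun x hx => hcx x (hOD hx))
  exact hOD this

omit [Finite G] in
theorem exists_orderOf_eq_prime_of_ne_bot {W : Subgroup G} [Finite W] (hW : IsPGroup p W)
    (hne : W ≠ ⊥) : ∃ z ∈ W, orderOf z = p := by
  obtain ⟨n, hn⟩ := IsPGroup.iff_card.mp hW
  have hn0 : n ≠ 0 := by
    rintro rfl
    rw [pow_zero] at hn
    exact hne (Subgroup.eq_bot_of_card_eq W hn)
  have hdvd : p ∣ Nat.card ↥W := by rw [hn]; exact dvd_pow_self p hn0
  obtain ⟨x, hx⟩ := exists_prime_orderOf_dvd_card' p hdvd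
  exact ⟨x, x.2, by rw [← hx, Subgroup.orderOf_coe]⟩

end glevel

end Cfsg.Agent.Lib.Helper31
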