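import Cfsg.Agent.Lib.Helper31.E8m_TLAcore
import Cfsg.Prelude.Def_ChevE8

/-! # E8m hive (S2107), leaf T-LA: commuting pairs `(a, b)` of `chevE8` with `45 ≤ a < 60` (helper31) -/

set_option autoImplicit false
set_option maxRecDepth 1000000
set_option maxHeartbeats 0
set_option Elab.async false

namespace Cfsg.Agent.Lib.Helper76.E8m

open Cfsg Cfsg.Lie

theorem tla_r15 : tla_chk chevE8 (3 * 15) 3 = true := by decide +kernel

theorem tla_r16 : tla_chk chevE8 (3 * 16) 3 = true := by decide +kernel

theorem tla_r17 : tla_chk chevE8 (3 * 17) 3 = true := by decide +kernel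

theorem tla_r18 : tla_chk chevE8 (3 * 18) 3 = true := by decide +kernel

theorem tla_r19 : tla_chk chevE8 (3 * 19) 3 = true := by decide +kernel

end Cfsg.Agent.Lib.Helper76.E8m
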