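import Cfsg.Agent.Lib.Helper31.E8m_TLAcore
import Cfsg.Prelude.Def_ChevE8

/-! # E8m hive (S2107), leaf T-LA: commuting pairs `(a, b)` of `chevE8` with `165 ≤ a < 180` (helper31) -/

set_option autoImplicit false
set_option maxRecDepth 1000000
set_option maxHeartbeats 0
set_option Elab.async false

namespace Cfsg.Agent.Lib.Helper76.E8m

open Cfsg Cfsg.Lie

theorem tla_r55 : tla_chk chevE8 (3 * 55) 3 = true := by decide +kernel

theorem tla_r56 : tla_chk chevE8 (3 * 56) 3 = true := by decide +kernel

theorem tla_r57 : tla_chk chevE8 (3 * 57) 3 = true := by decide +kernel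

theorem tla_r58 : tla_chk chevE8 (3 * 58) 3 = true := by decide +kernel

theorem tla_r59 : tla_chk chevE8 (3 * 59) 3 = true := by decide +kernel

end Cfsg.Agent.Lib.Helper76.E8m
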