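import Cfsg.Agent.Lib.Helper31.E8m_TLA_00
import Cfsg.Agent.Lib.Helper31.E8m_TLA_01
import Cfsg.Agent.Lib.Helper31.E8m_TLA_02
import Cfsg.Agent.Lib.Helper31.E8m_TLA_03
import Cfsg.Agent.Lib.Helper31.E8m_TLA_04
import Cfsg.Agent.Lib.Helper31.E8m_TLA_05
import Cfsg.Agent.Lib.Helper31.E8m_TLA_06
import Cfsg.Agent.Lib.Helper31.E8m_TLA_07
import Cfsg.Agent.Lib.Helper31.E8m_TLA_08
import Cfsg.Agent.Lib.Helper31.E8m_TLA_09
import Cfsg.Agent.Lib.Helper31.E8m_TLA_10
import Cfsg.Agent.Lib.Helper31.E8m_TLA_11
import Cfsg.Agent.Lib.Helper31.E8m_TLA_12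
import Cfsg.Agent.Lib.Helper31.E8m_TLA_13
import Cfsg.Agent.Lib.Helper31.E8m_TLA_14
import Cfsg.Agent.Lib.Helper31.E8m_TLA_15

/-! # E8m hive (S2107), leaf T-LA `tabLA_E8` (helper31): every commuting pair `(a, b)` of roots of `E₈` has a decomposition
`a = c + d` with `b` commuting with `c` and `d` (43920 pairs, `decide +kernel` on 80 ranges in 16 files) -/

set_option autoImplicit false
set_option maxRecDepth 1000000
set_option maxHeartbeats 0
set_option Elab.async false

namespace Cfsg.Agent.Lib.Helper76.E8m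

open Cfsg Cfsg.Lie

theorem tla_all (H : ∀ q < 80, tla_chk chevE8 (3 * q) 3 = true) : TabLA chevE8 := by
  intro a b hab
  have ha : a < 240 := hab.1
  have h0 : 0 < 3 := by norm_num
  have h1 : 3 * (a / 3) ≤ a := Nat.mul_div_le a 3
  have h2 : a < 3 * (a / 3) + 3 := by
    have := Nat.lt_mul_div_succ a h0
    omega
  exact tla_chk_spec chevE8 (3 * (a / 3)) 3 (H (a / 3) (by omega)) a b h1 h2 hab

/-- T-LA (43920 commuting pairs; search `c` in the row `chain[neg a]`). -/
theorem tabLA_E8 : TabLA chevE8 := by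
  apply tla_all
  intro q hq
  interval_cases q
  · exact tla_r0
  · exact tla_r1
  · exact tla_r2
  · exact tla_r3
  · exact tla_r4
  · exact tla_r5
  · exact tla_r6
  · exact tla_r7
  · exact tla_r8
  · exact tla_r9
  · exact tla_r10
  · exact tla_r11
  · exact tla_r12
  · exact tla_r13
  · exact tla_r14
  · exact tla_r15
  · exact tla_r16
  · exact tla_r17
  · exact tla_r18
  · exact tla_r19
  · exact tla_r20
  · exact tla_r21
  · exact tla_r22
  · exact tla_r23
  · exact tla_r24
  · exact tla_r25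
  · exact tla_r26
  · exact tla_r27
  · exact tla_r28
  · exact tla_r29
  · exact tla_r30
  · exact tla_r31
  · exact tla_r32
  · exact tla_r33
  · exact tla_r34
  · exact tla_r35
  · exact tla_r36
  · exact tla_r37
  · exact tla_r38
  · exact tla_r39
  · exact tla_r40
  · exact tla_r41
  · exact tla_r42
  · exact tla_r43
  · exact tla_r44
  · exact tla_r45
  · exact tla_r46
  · exact tla_r47
  · exact tla_r48
  · exact tla_r49
  · exact tla_r50
  · exact tla_r51
  · exact tla_r52
  · exact tla_r53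
  · exact tla_r54
  · exact tla_r55
  · exact tla_r56
  · exact tla_r57
  · exact tla_r58
  · exact tla_r59
  · exact tla_r60
  · exact tla_r61
  · exact tla_r62
  · exact tla_r63
  · exact tla_r64
  · exact tla_r65
  · exact tla_r66
  · exact tla_r67
  · exact tla_r68
  · exact tla_r69
  · exact tla_r70
  · exact tla_r71
  · exact tla_r72
  · exact tla_r73
  · exact tla_r74
  · exact tla_r75
  · exact tla_r76
  · exact tla_r77
  · exact tla_r78
  · exact tla_r79

end Cfsg.Agent.Lib.Helper76.E8m
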