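import Cfsg.Agent.Lib.Helper76.E8mDefs

/-! # E8m hive (S2107), leaf T-LA: Bool checker for `TabLA` and its soundness (helper31) -/

set_option autoImplicit false

namespace Cfsg.Agent.Lib.Helper76.E8m

open Cfsg Cfsg.Lie

/-- Bool version of `Cm` -/
def tla_cmB (D : ChevalleyDatum) (a b : ℕ) : Bool :=
  Nat.blt a D.nroots && (Nat.blt b D.nroots && (!(Nat.beq b (D.neg a)) && (D.chainEntry a b).isEmpty))

theorem tla_cmB_spec (D : ChevalleyDatum) (a b : ℕ) (h : tla_cmB D a b = true) : Cm D a b := by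
  unfold tla_cmB at h
  rw [Bool.and_eq_true, Bool.and_eq_true, Bool.and_eq_true] at h
  obtain ⟨h1, h2, h3, h4⟩ := h
  refine ⟨Nat.blt_eq ▸ h1, Nat.blt_eq ▸ h2, ?_, List.isEmpty_iff.1 h4⟩
  intro hb
  rw [hb] at h3
  simp at h3

theorem tla_cmB_of (D : ChevalleyDatum) (a b : ℕ) (h : Cm D a b) : tla_cmB D a b = true := by
  obtain ⟨h1, h2, h3, h4⟩ := h
  unfold tla_cmB
  rw [Bool.and_eq_true, Bool.and_eq_true, Bool.and_eq_true]
  refine ⟨Nat.blt_eq ▸ h1, Nat.blt_eq ▸ h2, ?_, List.isEmpty_iff.2 h4⟩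
  rcases hb : Nat.beq b (D.neg a) with _ | _
  · rfl
  · exact absurd (Nat.eq_of_beq_eq_true hb) h3

/-- Bool version of `sm D c d = some a` -/
def tla_smB (D : ChevalleyDatum) (c d a : ℕ) : Bool :=
  match (D.chainEntry c d).head? with
  | some e => Nat.beq e.1 a
  | none => false

theorem tla_smB_spec (D : ChevalleyDatum) (c d a : ℕ) (h : tla_smB D c d a = true) : sm D c d = some a := by
  unfold tla_smB at h
  unfold sm
  rcases hh : (D.chainEntry c d).head? with _ | e
  · rw [hh] at h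
    simp at h
  · rw [hh] at h
    simp only at h
    rw [Option.map_some, Nat.eq_of_beq_eq_true h]

/-- one candidate decomposition `a = c + d` -/
def tla_try (D : ChevalleyDatum) (a b c d : ℕ) : Bool :=
  tla_cmB D b c && (tla_cmB D b d && tla_smB D c d a)

/-- search a decomposition in the row of `-a` -/
def tla_find (D : ChevalleyDatum) (a b : ℕ) : Bool :=
  (D.chain.getD (D.neg a) #[]).toList.any fun e =>
    tla_try D a b e.1 (D.neg ((e.2.toList.head?.map Prod.fst).getD 0))

theorem tla_find_spec (D : ChevalleyDatum) (a b : ℕ) (h : tla_find D a b = true) :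
    ∃ c d, sm D c d = some a ∧ Cm D b c ∧ Cm D b d := by
  unfold tla_find at h
  rw [List.any_eq_true] at h
  obtain ⟨e, -, he⟩ := h
  unfold tla_try at he
  rw [Bool.and_eq_true, Bool.and_eq_true] at he
  exact ⟨_, _, tla_smB_spec D _ _ _ he.2.2, tla_cmB_spec D _ _ he.1, tla_cmB_spec D _ _ he.2.1⟩

/-- all commuting pairs `(a, b)` with `lo ≤ a < lo + len` have a decomposition -/
def tla_chk (D : ChevalleyDatum) (lo len : ℕ) : Bool :=
  (List.range' lo len).all fun a => (List.range D.nroots).all fun b => !(tla_cmB D a b) || tla_find D a b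

theorem tla_chk_spec (D : ChevalleyDatum) (lo len : ℕ) (h : tla_chk D lo len = true) (a b : ℕ)
    (h1 : lo ≤ a) (h2 : a < lo + len) (hab : Cm D a b) :
    ∃ c d, sm D c d = some a ∧ Cm D b c ∧ Cm D b d := by
  unfold tla_chk at h
  rw [List.all_eq_true] at h
  have ha := h a (by rw [List.mem_range'_1]; exact ⟨h1, h2⟩)
  rw [List.all_eq_true] at ha
  have hb := ha b (List.mem_range.2 hab.2.1)
  rw [Bool.or_eq_true] at hb
  rcases hb with hb | hb
  · rw [tla_cmB_of D a b hab] at hb
    simp at hb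
  · exact tla_find_spec D a b hb

end Cfsg.Agent.Lib.Helper76.E8m
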