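import Cfsg.Agent.Lib.Helper36.F4Count

/-! # `²F₄`: the elements of `U¹ = U ∩ ²F₄(q)` in factored form (helper31)

Unfolding `Helper36.f4_fix_step` along the reduced word `f4W0R` of the longest element: every element of
`posUnipotent ⊓ twistedF4` is `x₈ · n₈ (x₇ · n₇ ( ⋯ ) n₇⁻¹) n₈⁻¹` with `xᵢ` a generator word of the `i`-th block. -/

set_option autoImplicit false

namespace Cfsg.Agent.Lib.Helper31.F4E

open Cfsg Cfsg.Lie Cfsg.Agent.Lib.Helper18 Cfsg.Agent.Lib.Helper36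

section enum
variable (K : Type*) [Field K] (m : ℕ)

/-- the generator words of a fundamental block -/
def baseSet (J : List ℕ) : Set (GL chevF4.Idx K) :=
  {x | (J = [0, 3] ∧ ∃ t : K, x = wordGL chevF4 hF4 K (f4PairWord (2 ^ m) f4p1 f4p4 t)) ∨
    (J = [1, 2, 1, 2] ∧ ∃ t u : K, x = wordGL chevF4 hF4 K (b2ClassWord (2 ^ m) f4a f4b f4ab f4aab t u))}

/-- the factored elements along a reversed list of folded reflections -/
def enumSet : List (List ℕ) → Set (GL chevF4.Idx K)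
  | [] => {1}
  | J :: rest => {g | ∃ x ∈ baseSet K m J, ∃ u ∈ enumSet rest,
      g = x * (nWordGL chevF4 hF4 K J * u * (nWordGL chevF4 hF4 K J)⁻¹)}

variable {K} {m}
variable [Fintype K] {σ : ↥(chevF4.group K) →* ↥(chevF4.group K)}

theorem base_mem (hK : Fintype.card K = 2 ^ (2 * m + 1)) (hσ : IsF4Sig K (2 ^ m) σ) (J : List ℕ)
    (hJ : J ∈ f4Fund) (x : GL chevF4.Idx K) (hx : x ∈ Subgroup.closure (sGens chevF4 K J) ⊓ f4Fix σ) :
    x ∈ baseSet K m J := by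
  obtain ⟨hx1, hx2⟩ := Subgroup.mem_inf.1 hx
  simp only [f4Fund, List.mem_cons, List.not_mem_nil, or_false] at hJ
  rcases hJ with rfl | rfl
  · obtain ⟨t, rfl⟩ := f4_XJ1_fixed hK hσ x hx1 hx2.2
    exact Or.inl ⟨rfl, t, rfl⟩
  · obtain ⟨t, u, rfl⟩ := f4_XJ2_fixed hK hσ x hx1 hx2.2
    exact Or.inr ⟨rfl, t, u, rfl⟩

theorem enum_sound (hK : Fintype.card K = 2 ^ (2 * m + 1)) (hσ : IsF4Sig K (2 ^ m) σ) (JsR : List (List ℕ))
    (h : f4RedR JsR = true) :
    ∀ g ∈ Subgroup.closure (sGens chevF4 K (f4WordR JsR)) ⊓ f4Fix σ, g ∈ enumSet K m JsR := by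
  have := f4_charP hK
  have hθ : (2 : ℕ) ^ m ≠ 0 := pow_ne_zero _ (by norm_num)
  have hle := f4_twisted_le_fix hK hσ
  induction JsR with
  | nil =>
    intro g hg
    have e : f4WordR [] = [] := rfl
    rw [e, f4_sGens_nil, bot_inf_eq, Subgroup.mem_bot] at hg
    rw [hg]
    exact Set.mem_singleton _
  | cons J rest ih =>
    obtain ⟨h1, h2, h3⟩ := f4RedR_cons J rest h
    have hl₁ := f4WordR_lt rest h3
    have hrc := f4WordR_rhoComm rest h3
    have hnJ : nWordGL chevF4 hF4 K J ∈ f4Fix σ := hle (f4_fund_mem hθ J h1)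
    intro g hg
    rw [f4WordR_cons] at hg
    obtain ⟨x, hx, u, hu, e⟩ := f4_fix_step hσ _ hl₁ hrc J h1 hnJ h2 g hg
    exact ⟨x, base_mem hK hσ J h1 x hx, u, ih h3 u hu, e⟩

/-- every element of `U¹` is in factored form -/
theorem pos_inf_enum (hK : Fintype.card K = 2 ^ (2 * m + 1)) :
    ∀ g ∈ chevF4.posUnipotent K ⊓ twistedF4 K (2 ^ m), g ∈ enumSet K m f4W0R := by
  obtain ⟨σ, hσ⟩ := exists_f4Sig hK
  intro g hg
  rw [f4_pos_inf_eq hK hσ, ← f4_sGens_w0] at hg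
  exact enum_sound hK hσ f4W0R f4W0R_red g hg

end enum

end Cfsg.Agent.Lib.Helper31.F4E
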