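import Cfsg.Agent.Lib.Helper31.F4Two

/-! # `²F₄(2)`: the list of the `4096` elements of `U¹` as packed matrices (helper31) -/

set_option autoImplicit false

namespace Cfsg.Agent.Lib.Helper31.F4Two

open Cfsg Cfsg.Lie Cfsg.Agent.Lib.Helper18 Cfsg.Agent.Lib.Helper36 Cfsg.Agent.Lib.Helper31.F4P
  Cfsg.Agent.Lib.Helper31.F4E Cfsg.Agent.Lib.Helper1.R3

theorem zmod2_cases (t : ZMod 2) : t = 0 ∨ t = 1 := by revert t; decide

theorem xg0 (r : ℕ) : xGL chevF4 hF4 (ZMod 2) r 0 = 1 :=
  Cfsg.Agent.Lib.Helper36.xGL_zero chevF4 hF4 (ZMod 2) r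

theorem pair_word (r s : ℕ) (t : ZMod 2) :
    wordGL chevF4 hF4 (ZMod 2) (f4PairWord (2 ^ 0) r s t) = if t = 0 then 1 else wordG [r, s] := by
  rcases zmod2_cases t with rfl | rfl
  · simp [wordGL, f4PairWord, xg0]
  · simp [wordGL, f4PairWord, wordG]

theorem class_word (a b ab aab : ℕ) (t u : ZMod 2) :
    wordGL chevF4 hF4 (ZMod 2) (b2ClassWord (2 ^ 0) a b ab aab t u) =
      if t = 0 then (if u = 0 then 1 else wordG [ab, aab])
      else (if u = 0 then wordG [a, b, ab] else wordG [a, b, aab]) := by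
  have h11 : (1 : ZMod 2) + 1 = 0 := by decide
  rcases zmod2_cases t with rfl | rfl <;> rcases zmod2_cases u with rfl | rfl
  · simp [wordGL, b2ClassWord, xg0]
  · simp [wordGL, b2ClassWord, xg0, wordG]
  · simp [wordGL, b2ClassWord, xg0, wordG]
  · simp [wordGL, b2ClassWord, xg0, wordG, h11]

theorem nWord_fund1 : nWordGL chevF4 hF4 (ZMod 2) [0, 3] = wordG [33, 14, 33, 24, 23, 24] := by
  simp [nWordGL, nGL, wordGL, ChevalleyDatum.nWord, wordG, mul_assoc]
  rfl

theorem nWord_fund2 : nWordGL chevF4 hF4 (ZMod 2) [1, 2, 1, 2] =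
    wordG [27, 20, 27, 25, 22, 25, 27, 20, 27, 25, 22, 25] := by
  simp [nWordGL, nGL, wordGL, ChevalleyDatum.nWord, wordG, mul_assoc]
  rfl

/-- the generator words of a block -/
def baseW (J : List ℕ) : List (List ℕ) :=
  if J = [0, 3] then [[], [33, 24]] else [[], [27, 25, 28], [28, 30], [27, 25, 30]]

/-- the word of the folded reflection of a block -/
def nW (J : List ℕ) : List ℕ :=
  if J = [0, 3] then [33, 14, 33, 24, 23, 24] else [27, 20, 27, 25, 22, 25, 27, 20, 27, 25, 22, 25]

theorem baseW_roots : ∀ J, ∀ w ∈ baseW J, ∀ r ∈ w, r ∈ roots12 := by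
  intro J w hw
  unfold baseW at hw
  split_ifs at hw
  · simp only [List.mem_cons, List.not_mem_nil, or_false] at hw
    rcases hw with rfl | rfl <;> decide
  · simp only [List.mem_cons, List.not_mem_nil, or_false] at hw
    rcases hw with rfl | rfl | rfl | rfl <;> decide

theorem nW_roots : ∀ J, ∀ r ∈ nW J, r ∈ roots12 := by
  intro J
  unfold nW
  split_ifs <;> decide

theorem nW_rev_roots : ∀ J, ∀ r ∈ (nW J).reverse, r ∈ roots12 := by
  intro J r hr
  exact nW_roots J r (List.mem_reverse.1 hr)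

theorem base_word (J : List ℕ) (hJ : J ∈ f4Fund) (x : GL chevF4.Idx (ZMod 2)) (hx : x ∈ baseSet (ZMod 2) 0 J) :
    ∃ w ∈ baseW J, x = wordG w := by
  simp only [f4Fund, List.mem_cons, List.not_mem_nil, or_false] at hJ
  rcases hx with ⟨rfl, t, rfl⟩ | ⟨rfl, t, u, rfl⟩
  · rw [pair_word]
    rcases zmod2_cases t with rfl | rfl
    · exact ⟨[], by decide, by simp [wordG]⟩
    · exact ⟨[33, 24], by decide, by simp [f4p1, f4p4]⟩
  · rw [class_word]
    rcases zmod2_cases t with rfl | rfl <;> rcases zmod2_cases u with rfl | rfl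
    · exact ⟨[], by decide, by simp [wordG]⟩
    · exact ⟨[28, 30], by decide, by simp [f4ab, f4aab]⟩
    · exact ⟨[27, 25, 28], by decide, by simp [f4a, f4b, f4ab]⟩
    · exact ⟨[27, 25, 30], by decide, by simp [f4a, f4b, f4aab]⟩

theorem nWord_eq (J : List ℕ) (hJ : J ∈ f4Fund) : nWordGL chevF4 hF4 (ZMod 2) J = wordG (nW J) := by
  simp only [f4Fund, List.mem_cons, List.not_mem_nil, or_false] at hJ
  rcases hJ with rfl | rfl
  · exact nWord_fund1
  · exact nWord_fund2

/-- evaluate a number before passing it on (the kernel then shares the value) -/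
def seqNat {α : Sort*} (n : ℕ) (f : ℕ → α) : α := Nat.rec (f 0) (fun k _ => f (k + 1)) n

theorem seqNat_eq {α : Sort*} (n : ℕ) (f : ℕ → α) : seqNat n f = f n := by
  cases n <;> rfl

/-- one level of the enumeration -/
def stepP (B : List ℕ) (n ni : ℕ) (E : List ℕ) : List ℕ :=
  E.flatMap fun u => seqNat (mulP (mulP n u) ni) fun c => B.map fun x => mulP x c

/-- evaluate the members of a list before passing it on -/
def forceList {α : Sort*} : List ℕ → (List ℕ → α) → α
  | [], k => k []
  | a :: l, k => seqNat a fun a' => forceList l fun l' => k (a' :: l')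

theorem forceList_eq {α : Sort*} (l : List ℕ) (k : List ℕ → α) : forceList l k = k l := by
  induction l generalizing k with
  | nil => rfl
  | cons a l ih => simp only [forceList, seqNat_eq, ih]

/-- the packed matrices of the elements of `U_w⁻ ∩ ²F₄(2)` along a reversed list of folded reflections -/
def enumP : List (List ℕ) → List ℕ
  | [] => [idP]
  | J :: rest =>
    forceList ((baseW J).map wordP) fun B =>
      seqNat (wordP (nW J)) fun n => seqNat (wordP (nW J).reverse) fun ni => stepP B n ni (enumP rest)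

theorem enumP_cons (J : List ℕ) (rest : List (List ℕ)) :
    enumP (J :: rest) = stepP ((baseW J).map wordP) (wordP (nW J)) (wordP (nW J).reverse) (enumP rest) := by
  simp only [enumP, forceList_eq, seqNat_eq]

theorem mem_stepP {B : List ℕ} {n ni : ℕ} {E : List ℕ} {x u : ℕ} (hx : x ∈ B) (hu : u ∈ E) :
    mulP x (mulP (mulP n u) ni) ∈ stepP B n ni E := by
  unfold stepP
  rw [List.mem_flatMap]
  refine ⟨u, hu, ?_⟩
  rw [seqNat_eq, List.mem_map]
  exact ⟨x, hx, rfl⟩

theorem enum_rep : ∀ JsR : List (List ℕ), (∀ J ∈ JsR, J ∈ f4Fund) →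
    ∀ g ∈ enumSet (ZMod 2) 0 JsR, ∃ P ∈ enumP JsR, RepP g P ∧ P < 2 ^ 2704
  | [], _, g, hg => by
    have : g = 1 := hg
    subst this
    exact ⟨idP, List.mem_singleton.2 rfl, repP_one, idP_lt⟩
  | J :: rest, hJ, g, hg => by
    obtain ⟨x, hx, u, hu, rfl⟩ := hg
    have hJ1 : J ∈ f4Fund := hJ J (List.mem_cons_self ..)
    obtain ⟨w, hw, rfl⟩ := base_word J hJ1 x hx
    obtain ⟨Pu, hPu, hrep, -⟩ := enum_rep rest (fun J' h' => hJ J' (List.mem_cons_of_mem _ h')) u hu
    rw [nWord_eq J hJ1, wordG_inv]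
    refine ⟨mulP (wordP w) (mulP (mulP (wordP (nW J)) Pu) (wordP (nW J).reverse)), ?_, ?_, mulP_lt _ _⟩
    · rw [enumP_cons]
      exact mem_stepP (List.mem_map.2 ⟨w, hw, rfl⟩) hPu
    · exact repP_mul (rep_word w (baseW_roots J w hw))
        (repP_mul (repP_mul (rep_word _ (nW_roots J)) hrep) (rep_word _ (nW_rev_roots J)))

/-- the test: a listed element is not an involution or is in the list `invs` -/
def checkAll (invs : List ℕ) (E : List ℕ) : Bool :=
  E.all fun P => seqNat P fun P' => (mulP P' P' != idP) || invs.contains P'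

theorem f4W0R_fund : ∀ J ∈ f4W0R, J ∈ f4Fund := by decide

/-- every element of `U¹` of square one has its packed matrix in the list `invs`, if the test passes -/
theorem pos_invol (invs : List ℕ) (hchk : checkAll invs (enumP f4W0R) = true)
    (g : GL chevF4.Idx (ZMod 2)) (hg : g ∈ chevF4.posUnipotent (ZMod 2) ⊓ twistedF4 (ZMod 2) (2 ^ 0))
    (h2 : g * g = 1) : ∃ P ∈ invs, RepP g P := by
  have hK : Fintype.card (ZMod 2) = 2 ^ (2 * 0 + 1) := by simp [ZMod.card]
  obtain ⟨P, hP, hrep, hlt⟩ := enum_rep f4W0R f4W0R_fund g (pos_inf_enum hK g hg)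
  unfold checkAll at hchk
  rw [List.all_eq_true] at hchk
  have h := hchk P hP
  rw [seqNat_eq, Bool.or_eq_true] at h
  rcases h with h | h
  · exfalso
    have hsq : RepP (g * g) (mulP P P) := repP_mul hrep hrep
    rw [h2] at hsq
    have := repP_unique hsq repP_one (mulP_lt _ _) idP_lt
    simp [this] at h
  · exact ⟨P, by simpa using h, hrep⟩

end Cfsg.Agent.Lib.Helper31.F4Two
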