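import Mathlib

/-! # FH-K (helper31, for helper6's S1142 Feit-Higman hive): the counting lemma -/

set_option autoImplicit false

namespace Cfsg.Agent.Lib.Helper6.FH

/-- auxiliary: the sum of squares splits as `#{m = 1} + 4 * #{m = 2}` -/
theorem k_sum_sq_eq {Z : Type*} [Fintype Z] [DecidableEq Z] (m : Z → ℕ)
    (hm : ∀ z, m z = 0 ∨ m z = 1 ∨ m z = 2) :
    ∑ z, m z ^ 2 = (Finset.univ.filter (fun z => m z = 1)).card +
      4 * (Finset.univ.filter (fun z => m z = 2)).card := by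
  have h : ∀ z, m z ^ 2 = (if m z = 1 then 1 else 0) + 4 * (if m z = 2 then 1 else 0) := by
    intro z
    rcases hm z with h0 | h1 | h2
    · simp [h0]
    · simp [h1]
    · simp [h2]
  rw [Finset.sum_congr rfl (fun z _ => h z), Finset.sum_add_distrib, ← Finset.mul_sum,
    Finset.card_filter, Finset.card_filter]

/-- FH-K -/
theorem surj_of_count {Z : Type*} [Fintype Z] [DecidableEq Z] {n : ℕ} (hn : 2 ≤ n) (m : Z → ℕ)
    (hm : ∀ z, m z = 0 ∨ m z = 1 ∨ m z = 2) (hsum : ∑ z, m z ^ 2 = 2 * n)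
    (h1 : (Finset.univ.filter (fun z => m z = 1)).card ≤ if Even n then 4 else 2)
    (jf : Z → ℕ) (hj : ∀ z, m z = 2 → 0 < jf z ∧ 2 * jf z < n)
    (hinj : ∀ z z', m z = 2 → m z' = 2 → jf z = jf z' → z = z') :
    ∀ j, 0 < j → 2 * j < n → ∃ z, m z = 2 ∧ jf z = j := by
  classical
  set A : Finset Z := Finset.univ.filter (fun z => m z = 2) with hA
  set J : Finset ℕ := (Finset.range n).filter (fun j => 0 < j ∧ 2 * j < n) with hJ
  have hsq := k_sum_sq_eq m hm
  rw [hsum, ← hA] at hsq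
  -- the cardinality of `J`
  have hJsub : J ⊆ Finset.Ioo 0 ((n + 1) / 2) := by
    intro j hj'
    rw [hJ, Finset.mem_filter] at hj'
    rw [Finset.mem_Ioo]
    omega
  have hJcard : J.card ≤ (n + 1) / 2 - 1 := by
    have := Finset.card_le_card hJsub
    rw [Nat.card_Ioo] at this
    omega
  have hAcard : J.card ≤ A.card := by
    rcases Nat.even_or_odd n with he | ho
    · rw [if_pos he] at h1
      obtain ⟨k, hk⟩ := he
      have h3 : (n + 1) / 2 = k := by omega
      omega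
    · rw [if_neg (Nat.not_even_iff_odd.mpr ho)] at h1
      obtain ⟨k, hk⟩ := ho
      have h3 : (n + 1) / 2 = k + 1 := by omega
      omega
  have hmaps : ∀ z ∈ A, jf z ∈ J := by
    intro z hz
    rw [hA, Finset.mem_filter] at hz
    obtain ⟨h0, h2⟩ := hj z hz.2
    rw [hJ, Finset.mem_filter, Finset.mem_range]
    exact ⟨by omega, h0, h2⟩
  have hinj' : ∀ z z', z ∈ A → z' ∈ A → jf z = jf z' → z = z' := by
    intro z z' hz hz' h
    rw [hA, Finset.mem_filter] at hz hz'
    exact hinj z z' hz.2 hz'.2 h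
  intro j hj0 hj2
  have hjJ : j ∈ J := by
    rw [hJ, Finset.mem_filter, Finset.mem_range]
    exact ⟨by omega, hj0, hj2⟩
  obtain ⟨z, hz, hzj⟩ := Finset.surj_on_of_inj_on_of_card_le (fun z _ => jf z) hmaps hinj' hAcard j hjJ
  rw [hA, Finset.mem_filter] at hz
  exact ⟨z, hz.2, hzj.symm⟩

end Cfsg.Agent.Lib.Helper6.FH
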