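import Cfsg.Agent.Lib.Helper47.FLDefs

set_option autoImplicit false

/-! # FL-COREFIX core (helper47's S2863 hive "FL"): `core_fix` with the leaves CORE-SPLIT and
CORE-TRIV as hypotheses -/

namespace Cfsg.Agent.Lib.Helper47.FL

open Cfsg

section core

variable {H : Type*} [Group H] {Y A : Subgroup H}

/-- conjugation fixes central elements -/
theorem corefix_conj_center {z : H} (hz : z ∈ Subgroup.center H) (x : H) : x * z * x⁻¹ = z := by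
  have h := (Subgroup.mem_center_iff.1 hz) x
  rw [h]
  group

/-- the elements whose commutator with `w` lies in `Y ⊓ center H` form a subgroup -/
def corefixSub (Y : Subgroup H) (w : H) : Subgroup H where
  carrier := {x | x * w * x⁻¹ * w⁻¹ ∈ Y ⊓ Subgroup.center H}
  one_mem' := by
    show (1 : H) * w * 1⁻¹ * w⁻¹ ∈ Y ⊓ Subgroup.center H
    have : (1 : H) * w * 1⁻¹ * w⁻¹ = 1 := by group
    rw [this]
    exact Subgroup.one_mem _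
  mul_mem' := by
    intro x1 x2 h1 h2
    show (x1 * x2) * w * (x1 * x2)⁻¹ * w⁻¹ ∈ Y ⊓ Subgroup.center H
    have h1' : x1 * w * x1⁻¹ * w⁻¹ ∈ Y ⊓ Subgroup.center H := h1
    have h2' : x2 * w * x2⁻¹ * w⁻¹ ∈ Y ⊓ Subgroup.center H := h2
    have e : (x1 * x2) * w * (x1 * x2)⁻¹ * w⁻¹
        = x1 * (x2 * w * x2⁻¹ * w⁻¹) * x1⁻¹ * (x1 * w * x1⁻¹ * w⁻¹) := by group
    rw [e, corefix_conj_center (Subgroup.mem_inf.1 h2').2 x1]
    exact Subgroup.mul_mem _ h2' h1'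
  inv_mem' := by
    intro x h1
    show x⁻¹ * w * x⁻¹⁻¹ * w⁻¹ ∈ Y ⊓ Subgroup.center H
    have h1' : x * w * x⁻¹ * w⁻¹ ∈ Y ⊓ Subgroup.center H := h1
    have e : x⁻¹ * w * x⁻¹⁻¹ * w⁻¹ = x⁻¹ * (x * w * x⁻¹ * w⁻¹)⁻¹ * x⁻¹⁻¹ := by group
    have h3 := Subgroup.inv_mem _ h1'
    rw [e, corefix_conj_center (Subgroup.mem_inf.1 h3).2 x⁻¹]
    exact h3

theorem mem_corefixSub {Y : Subgroup H} {w x : H} :
    x ∈ corefixSub Y w ↔ x * w * x⁻¹ * w⁻¹ ∈ Y ⊓ Subgroup.center H := Iff.rfl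

/-- FL-COREFIX with CORE-SPLIT and CORE-TRIV as hypotheses -/
theorem corefix_core (h : CoreSetup Y A)
    (hsplit : ∀ {g : H}, g ∉ Subgroup.normalizer (Y : Set H) → ∀ {a : H}, a ∈ A →
      ∃ w ∈ Y ⊓ A, ∃ w' ∈ cj g Y ⊓ A, a = w * w')
    (htriv : ∀ {a : H}, a ∈ A →
      (∀ x : H, x * a * x⁻¹ * a⁻¹ ∈ Y ⊓ Subgroup.center H) → a ∈ Y ⊓ Subgroup.center H)
    {a : H} (ha : a ∈ A)
    (hfix : ∀ y ∈ Y, y * a * y⁻¹ * a⁻¹ ∈ Y ⊓ Subgroup.center H) : a ∈ Y := by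
  -- some `g ∉ N(Y)`
  obtain ⟨g, hg⟩ : ∃ g : H, g ∉ Subgroup.normalizer (Y : Set H) := by
    by_contra hcon
    push Not at hcon
    exact h.nne (eq_top_iff.2 (fun x _ => hcon x))
  obtain ⟨w, hw, w', hw', rfl⟩ := hsplit hg ha
  obtain ⟨hwY, hwA⟩ := Subgroup.mem_inf.1 hw
  obtain ⟨hw'Y, hw'A⟩ := Subgroup.mem_inf.1 hw'
  -- `Y ≤ S`
  have hYS : Y ≤ corefixSub Y w' := by
    intro y hy
    rw [mem_corefixSub]
    have hc := hfix y hy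
    have hyw : y * w = w * y := h.comm y hy w hwY
    have e : y * w' * y⁻¹ * w'⁻¹ = w⁻¹ * (y * (w * w') * y⁻¹ * (w * w')⁻¹) * w⁻¹⁻¹ := by
      have e1 : w⁻¹ * (y * (w * w') * y⁻¹ * (w * w')⁻¹) * w⁻¹⁻¹
          = w⁻¹ * ((y * w) * w' * y⁻¹ * w'⁻¹ * w⁻¹) * w := by group
      rw [e1, hyw]
      group
    rw [e, corefix_conj_center (Subgroup.mem_inf.1 hc).2 w⁻¹]
    exact hc
  -- `Y^g ≤ S`
  have hY'S : cj g Y ≤ corefixSub Y w' := by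
    intro y' hy'
    rw [mem_corefixSub]
    obtain ⟨y1, hy1, rfl⟩ := mem_cj.1 hy'
    obtain ⟨y2, hy2, hy2e⟩ := mem_cj.1 hw'Y
    have hcomm : y1 * y2 = y2 * y1 := h.comm y1 hy1 y2 hy2
    have e : g * y1 * g⁻¹ * w' * (g * y1 * g⁻¹)⁻¹ * w'⁻¹ = 1 := by
      rw [← hy2e]
      have e1 : g * y1 * g⁻¹ * (g * y2 * g⁻¹) * (g * y1 * g⁻¹)⁻¹ * (g * y2 * g⁻¹)⁻¹
          = g * ((y1 * y2) * y1⁻¹ * y2⁻¹) * g⁻¹ := by group
      rw [e1, hcomm]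
      group
    rw [e]
    exact Subgroup.one_mem _
  have htop : corefixSub Y w' = ⊤ := by
    rw [eq_top_iff, ← h.opp g hg]
    exact sup_le hYS hY'S
  have hall : ∀ x : H, x * w' * x⁻¹ * w'⁻¹ ∈ Y ⊓ Subgroup.center H := by
    intro x
    have : x ∈ corefixSub Y w' := by rw [htop]; exact Subgroup.mem_top x
    exact mem_corefixSub.1 this
  have hw'C := htriv hw'A hall
  exact Y.mul_mem hwY (Subgroup.mem_inf.1 hw'C).1

end core

end Cfsg.Agent.Lib.Helper47.FL
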