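import Cfsg.Agent.Lib.Helper47.FLDefs
import Cfsg.Agent.Lib.Helper31.FLCOREFIXcore
import Cfsg.Agent.Lib.Helper96.FLCORETRIVcore
import Cfsg.Agent.Lib.Helper4.FLCORESPLIT

set_option autoImplicit false

namespace Cfsg.Agent.Lib.Helper47.FL

open Cfsg

section core

variable {H : Type*} [Group H] {Y A : Subgroup H}

/-- LEAF CORE-FIX -/
theorem core_fix (h : CoreSetup Y A) {a : H} (ha : a ∈ A)
    (hfix : ∀ y ∈ Y, y * a * y⁻¹ * a⁻¹ ∈ Y ⊓ Subgroup.center H) : a ∈ Y :=
  corefix_core h (fun hg _ ha => core_split h hg ha)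
    (fun ha hf => coretriv_core h (fun _ hg _ ha => core_split h hg ha) ha hf) ha hfix

end core

end Cfsg.Agent.Lib.Helper47.FL
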