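import Mathlib
import Cfsg.Prelude.Def_FischerSpaces

/-!
# Fischer spaces: basic combinatorics of three-point lines (helper31)
-/

set_option autoImplicit false

namespace Cfsg.Agent.Lib.Helper31.Fischer

open Cfsg Cfsg.LineSystem

variable {X : Type*}

/-- `z` is the third point of a line through the distinct points `x`, `y`. -/
def T (L : Set (Set X)) (x y z : X) : Prop :=
  z ≠ x ∧ z ≠ y ∧ x ≠ y ∧ ({x, y, z} : Set X) ∈ L

/-- `b'` is the image of `b` under the map `t(x)`. -/
def Img (L : Set (Set X)) (x b b' : X) : Prop :=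
  T L x b b' ∨ (b' = b ∧ ¬ ∃ w, T L x b w)

theorem T.symm12 {L : Set (Set X)} {x y z : X} (h : T L x y z) : T L y x z := by
  obtain ⟨h1, h2, h3, h4⟩ := h
  refine ⟨h2, h1, h3.symm, ?_⟩
  rwa [Set.insert_comm]

theorem T.symm23 {L : Set (Set X)} {x y z : X} (h : T L x y z) : T L x z y := by
  obtain ⟨h1, h2, h3, h4⟩ := h
  refine ⟨h3.symm, h2.symm, h1.symm, ?_⟩
  rwa [Set.pair_comm z y]

theorem T.symm13 {L : Set (Set X)} {x y z : X} (h : T L x y z) : T L z y x :=
  h.symm23.symm12.symm23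

theorem T.rot {L : Set (Set X)} {x y z : X} (h : T L x y z) : T L y z x :=
  h.symm12.symm23

theorem T.rot' {L : Set (Set X)} {x y z : X} (h : T L x y z) : T L z x y :=
  h.rot.rot

theorem T.mem {L : Set (Set X)} {x y z : X} (h : T L x y z) : ({x, y, z} : Set X) ∈ L := h.2.2.2

section PL

variable {L : Set (Set X)} (hPL : IsPartialLinear L)

include hPL in
theorem T.unique {x y z z' : X} (h : T L x y z) (h' : T L x y z') : z = z' := by
  have e := hPL _ h.mem _ h'.mem x y h.2.2.1 (by simp) (by simp) (by simp) (by simp)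
  have hz : z' ∈ ({x, y, z} : Set X) := by rw [e]; simp
  simp only [Set.mem_insert_iff, Set.mem_singleton_iff] at hz
  rcases hz with r | r | r
  · exact absurd r h'.1
  · exact absurd r h'.2.1
  · exact r.symm

include hPL in
theorem lineMap_of_T {x y z : X} (h : T L x y z) : lineMap L x y = z := by
  unfold lineMap
  have hex : ∃ z : X, z ≠ x ∧ z ≠ y ∧ x ≠ y ∧ ({x, y, z} : Set X) ∈ L := ⟨z, h⟩
  rw [dif_pos hex]
  have hc : T L x y hex.choose := hex.choose_spec
  exact T.unique hPL hc h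

theorem lineMap_of_not {x y : X} (h : ¬ ∃ w, T L x y w) : lineMap L x y = y := by
  unfold lineMap
  rw [dif_neg]
  exact h

include hPL in
theorem lineMap_of_Img {x y z : X} (h : Img L x y z) : lineMap L x y = z := by
  rcases h with h | ⟨rfl, h⟩
  · exact lineMap_of_T hPL h
  · exact lineMap_of_not h

include hPL in
theorem Img_lineMap (x y : X) : Img L x y (lineMap L x y) := by
  by_cases h : ∃ w, T L x y w
  · obtain ⟨w, hw⟩ := h
    rw [lineMap_of_T hPL hw]
    exact Or.inl hw
  · rw [lineMap_of_not h]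
    exact Or.inr ⟨rfl, h⟩

include hPL in
theorem lineMap_invol (x : X) : Function.Involutive (lineMap L x) := by
  intro y
  by_cases h : ∃ w, T L x y w
  · obtain ⟨w, hw⟩ := h
    rw [lineMap_of_T hPL hw, lineMap_of_T hPL hw.symm23]
  · rw [lineMap_of_not h, lineMap_of_not h]

theorem lineMap_self (x : X) : lineMap L x x = x := by
  apply lineMap_of_not
  rintro ⟨w, hw⟩
  exact hw.2.2.1 rfl

end PL

section three

variable {L : Set (Set X)} (hPL : IsPartialLinear L) (h3 : ∀ l ∈ L, l.ncard = 3)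

include h3 in
theorem exists_T_of_line {l : Set X} (hl : l ∈ L) : ∃ x y z, l = {x, y, z} ∧ T L x y z := by
  obtain ⟨x, y, z, hxy, hxz, hyz, rfl⟩ := Set.ncard_eq_three.mp (h3 l hl)
  exact ⟨x, y, z, rfl, hxz.symm, hyz.symm, hxy, hl⟩

include h3 in
theorem exists_T_of_mem {l : Set X} (hl : l ∈ L) {p q : X} (hp : p ∈ l) (hq : q ∈ l) (hpq : p ≠ q) :
    ∃ r, l = {p, q, r} ∧ T L p q r := by
  obtain ⟨x, y, z, rfl, hT⟩ := exists_T_of_line h3 hl
  simp only [Set.mem_insert_iff, Set.mem_singleton_iff] at hp hq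
  rcases hp with rfl | rfl | rfl <;> rcases hq with rfl | rfl | rfl
  · exact absurd rfl hpq
  · exact ⟨_, rfl, hT⟩
  · refine ⟨_, ?_, hT.symm23⟩
    rw [Set.pair_comm]
  · refine ⟨_, ?_, hT.symm12⟩
    rw [Set.insert_comm]
  · exact absurd rfl hpq
  · refine ⟨_, ?_, hT.rot⟩
    ext t; simp only [Set.mem_insert_iff, Set.mem_singleton_iff]; tauto
  · refine ⟨_, ?_, hT.rot'⟩
    ext t; simp only [Set.mem_insert_iff, Set.mem_singleton_iff]; tauto
  · refine ⟨_, ?_, hT.symm13⟩
    ext t; simp only [Set.mem_insert_iff, Set.mem_singleton_iff]; tauto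
  · exact absurd rfl hpq

end three

end Cfsg.Agent.Lib.Helper31.Fischer
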