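import Cfsg.Agent.Lib.Helper31.Fischer1

/-!
# Fischer spaces: subspaces, restriction, isomorphisms and the four plane properties (helper31)
-/

set_option autoImplicit false

namespace Cfsg.Agent.Lib.Helper31.Fischer

open Cfsg Cfsg.LineSystem

variable {X : Type*} {Y : Type*}

section span

variable {L : Set (Set X)}

theorem subset_span (A : Set X) : A ⊆ span L A := by
  intro a ha
  rw [span, Set.mem_sInter]
  intro U hU
  exact hU.1 ha

theorem isSubspace_span (A : Set X) : IsSubspace L (span L A) := by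
  intro l hl x hx y hy hxy hxl hyl p hp
  rw [span, Set.mem_sInter] at hx hy ⊢
  intro U hU
  exact hU.2 l hl x (hx U hU) y (hy U hU) hxy hxl hyl hp

theorem mem_of_T {S : Set X} (hS : IsSubspace L S) {p q r : X} (hp : p ∈ S) (hq : q ∈ S)
    (h : T L p q r) : r ∈ S := by
  have := hS _ h.mem p hp q hq h.2.2.1 (by simp) (by simp)
  exact this (by simp)

end span

section restrict

variable {L : Set (Set X)} (h3 : ∀ l ∈ L, l.ncard = 3) {S : Set X} (hS : IsSubspace L S)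

include h3 hS in
theorem T_restrict_iff (p q r : S) : T (restrict L S) p q r ↔ T L (p : X) (q : X) (r : X) := by
  constructor
  · rintro ⟨h1, h2, h3', l, hl, hlS, heq⟩
    have hp : (p : X) ∈ l := by
      have : p ∈ ({p, q, r} : Set S) := by simp
      rw [heq] at this
      exact this
    have hq : (q : X) ∈ l := by
      have : q ∈ ({p, q, r} : Set S) := by simp
      rw [heq] at this
      exact this
    have hr : (r : X) ∈ l := by
      have : r ∈ ({p, q, r} : Set S) := by simp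
      rw [heq] at this
      exact this
    have hpq : (p : X) ≠ (q : X) := fun e => h3' (Subtype.ext e)
    obtain ⟨r', hl', hT⟩ := exists_T_of_mem h3 hl hp hq hpq
    rw [hl'] at hr
    simp only [Set.mem_insert_iff, Set.mem_singleton_iff] at hr
    rcases hr with e | e | e
    · exact absurd (Subtype.ext e) h1
    · exact absurd (Subtype.ext e) h2
    · rw [e]; exact hT
  · rintro ⟨h1, h2, h3', hl⟩
    refine ⟨fun e => h1 (congrArg Subtype.val e), fun e => h2 (congrArg Subtype.val e),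
      fun e => h3' (congrArg Subtype.val e), _, hl, ?_, ?_⟩
    · intro t ht
      simp only [Set.mem_insert_iff, Set.mem_singleton_iff] at ht
      rcases ht with rfl | rfl | rfl
      · exact p.2
      · exact q.2
      · exact r.2
    · ext t
      simp only [Set.mem_insert_iff, Set.mem_singleton_iff, Set.mem_ofPred_eq, Subtype.ext_iff]

include h3 hS in
theorem Img_restrict_iff (p q r : S) : Img (restrict L S) p q r ↔ Img L (p : X) (q : X) (r : X) := by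
  unfold Img
  rw [T_restrict_iff h3 hS]
  constructor
  · rintro (h | ⟨e, hn⟩)
    · exact Or.inl h
    · refine Or.inr ⟨congrArg Subtype.val e, ?_⟩
      rintro ⟨w, hw⟩
      have hwS : w ∈ S := mem_of_T hS p.2 q.2 hw
      exact hn ⟨⟨w, hwS⟩, (T_restrict_iff h3 hS p q ⟨w, hwS⟩).mpr hw⟩
  · rintro (h | ⟨e, hn⟩)
    · exact Or.inl h
    · refine Or.inr ⟨Subtype.ext e, ?_⟩
      rintro ⟨w, hw⟩
      exact hn ⟨w, (T_restrict_iff h3 hS p q w).mp hw⟩

end restrict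

section iso

variable {L : Set (Set X)} {M : Set (Set Y)} {e : X ≃ Y} (he : IsIso L M e)

include he in
theorem T_iso_iff (p q r : X) : T L p q r ↔ T M (e p) (e q) (e r) := by
  unfold T
  rw [he, Set.image_insert_eq, Set.image_pair, e.injective.ne_iff, e.injective.ne_iff,
    e.injective.ne_iff]

include he in
theorem Img_iso_iff (p q r : X) : Img L p q r ↔ Img M (e p) (e q) (e r) := by
  unfold Img
  rw [T_iso_iff he, e.injective.eq_iff]
  have : (∃ w, T L p q w) ↔ ∃ w, T M (e p) (e q) w := by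
    constructor
    · rintro ⟨w, hw⟩
      exact ⟨e w, (T_iso_iff he p q w).mp hw⟩
    · rintro ⟨w, hw⟩
      refine ⟨e.symm w, (T_iso_iff he p q (e.symm w)).mpr ?_⟩
      rwa [e.apply_symm_apply]
  rw [this]

end iso

/-! ### The four plane properties -/

def P1 (M : Set (Set Y)) : Prop :=
  ∀ a b c x a' : Y, T M a b c → x ≠ a → x ≠ b → x ≠ c → T M x a a' →
    ∃ b', Img M x b b' ∧ ∃ c', Img M x c c' ∧ T M a' b' c'

def P2 (M : Set (Set Y)) : Prop :=
  ∀ x y z z' u : Y, T M x z z' → T M y z' u → x ≠ y → (∃ w, T M x y w) ∨ (∃ w, T M y z w)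

def P3 (M : Set (Set Y)) : Prop :=
  ∀ x y z v u : Y, T M x z v → T M y z u → x ≠ y → (¬ ∃ w, T M x y w) →
    ∃ r, Img M x u r ∧ Img M y v r

def P4 (M : Set (Set Y)) : Prop :=
  ∀ x y w z : Y, T M x y w →
    ∃ z₁, Img M y z z₁ ∧ ∃ z₂, Img M x z₁ z₂ ∧ ∃ z₃, Img M y z₂ z₃ ∧ ∃ z₄, Img M x z₃ z₄ ∧
      ∃ z₅, Img M y z₄ z₅ ∧ Img M x z₅ z

section isoP

variable {L : Set (Set X)} {M : Set (Set Y)} {e : X ≃ Y} (he : IsIso L M e)

include he in
theorem P1_of_iso (h : P1 M) : P1 L := by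
  intro a b c x a' h1 h2 h3 h4 h5
  obtain ⟨b', k1, c', k2, k3⟩ := h (e a) (e b) (e c) (e x) (e a') ((T_iso_iff he _ _ _).mp h1)
    (e.injective.ne h2) (e.injective.ne h3) (e.injective.ne h4) ((T_iso_iff he _ _ _).mp h5)
  refine ⟨e.symm b', ?_, e.symm c', ?_, ?_⟩
  · rw [Img_iso_iff he, e.apply_symm_apply]; exact k1
  · rw [Img_iso_iff he, e.apply_symm_apply]; exact k2
  · rw [T_iso_iff he, e.apply_symm_apply, e.apply_symm_apply]; exact k3

include he in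
theorem P2_of_iso (h : P2 M) : P2 L := by
  intro x y z z' u h1 h2 h3
  rcases h (e x) (e y) (e z) (e z') (e u) ((T_iso_iff he _ _ _).mp h1)
    ((T_iso_iff he _ _ _).mp h2) (e.injective.ne h3) with ⟨w, hw⟩ | ⟨w, hw⟩
  · left
    refine ⟨e.symm w, ?_⟩
    rw [T_iso_iff he, e.apply_symm_apply]; exact hw
  · right
    refine ⟨e.symm w, ?_⟩
    rw [T_iso_iff he, e.apply_symm_apply]; exact hw

include he in
theorem P3_of_iso (h : P3 M) : P3 L := by
  intro x y z v u h1 h2 h3 h4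
  have h4' : ¬ ∃ w, T M (e x) (e y) w := by
    rintro ⟨w, hw⟩
    apply h4
    refine ⟨e.symm w, ?_⟩
    rw [T_iso_iff he, e.apply_symm_apply]; exact hw
  obtain ⟨r, k1, k2⟩ := h (e x) (e y) (e z) (e v) (e u) ((T_iso_iff he _ _ _).mp h1)
    ((T_iso_iff he _ _ _).mp h2) (e.injective.ne h3) h4'
  refine ⟨e.symm r, ?_, ?_⟩
  · rw [Img_iso_iff he, e.apply_symm_apply]; exact k1
  · rw [Img_iso_iff he, e.apply_symm_apply]; exact k2

include he in
theorem P4_of_iso (h : P4 M) : P4 L := by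
  intro x y w z h1
  obtain ⟨z₁, k1, z₂, k2, z₃, k3, z₄, k4, z₅, k5, k6⟩ :=
    h (e x) (e y) (e w) (e z) ((T_iso_iff he _ _ _).mp h1)
  refine ⟨e.symm z₁, ?_, e.symm z₂, ?_, e.symm z₃, ?_, e.symm z₄, ?_, e.symm z₅, ?_, ?_⟩
  · rw [Img_iso_iff he, e.apply_symm_apply]; exact k1
  · rw [Img_iso_iff he, e.apply_symm_apply, e.apply_symm_apply]; exact k2
  · rw [Img_iso_iff he, e.apply_symm_apply, e.apply_symm_apply]; exact k3
  · rw [Img_iso_iff he, e.apply_symm_apply, e.apply_symm_apply]; exact k4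
  · rw [Img_iso_iff he, e.apply_symm_apply, e.apply_symm_apply]; exact k5
  · rw [Img_iso_iff he, e.apply_symm_apply]; exact k6

end isoP

/-! ### From the restricted system to the ambient one -/

section ambient

variable {L : Set (Set X)} (h3 : ∀ l ∈ L, l.ncard = 3) {S : Set X} (hS : IsSubspace L S)

include h3 hS in
theorem P1_ambient (h : P1 (restrict L S)) {a b c x a' : X} (ha : a ∈ S) (hb : b ∈ S) (hc : c ∈ S)
    (hx : x ∈ S) (ha' : a' ∈ S) (h1 : T L a b c) (h2 : x ≠ a) (h3' : x ≠ b) (h4 : x ≠ c)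
    (h5 : T L x a a') : ∃ b' c', Img L x b b' ∧ Img L x c c' ∧ T L a' b' c' := by
  obtain ⟨b', k1, c', k2, k3⟩ := h ⟨a, ha⟩ ⟨b, hb⟩ ⟨c, hc⟩ ⟨x, hx⟩ ⟨a', ha'⟩
    ((T_restrict_iff h3 hS _ _ _).mpr h1) (fun e => h2 (congrArg Subtype.val e))
    (fun e => h3' (congrArg Subtype.val e)) (fun e => h4 (congrArg Subtype.val e))
    ((T_restrict_iff h3 hS _ _ _).mpr h5)
  exact ⟨b', c', (Img_restrict_iff h3 hS _ _ _).mp k1, (Img_restrict_iff h3 hS _ _ _).mp k2,
    (T_restrict_iff h3 hS _ _ _).mp k3⟩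

include h3 hS in
theorem P2_ambient (h : P2 (restrict L S)) {x y z z' u : X} (hx : x ∈ S) (hy : y ∈ S) (hz : z ∈ S)
    (hz' : z' ∈ S) (hu : u ∈ S) (h1 : T L x z z') (h2 : T L y z' u) (h3' : x ≠ y) :
    (∃ w, T L x y w) ∨ (∃ w, T L y z w) := by
  rcases h ⟨x, hx⟩ ⟨y, hy⟩ ⟨z, hz⟩ ⟨z', hz'⟩ ⟨u, hu⟩ ((T_restrict_iff h3 hS _ _ _).mpr h1)
    ((T_restrict_iff h3 hS _ _ _).mpr h2) (fun e => h3' (congrArg Subtype.val e)) with ⟨w, hw⟩ | ⟨w, hw⟩
  · exact Or.inl ⟨w, (T_restrict_iff h3 hS _ _ _).mp hw⟩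
  · exact Or.inr ⟨w, (T_restrict_iff h3 hS _ _ _).mp hw⟩

include h3 hS in
theorem P3_ambient (h : P3 (restrict L S)) {x y z v u : X} (hx : x ∈ S) (hy : y ∈ S) (hz : z ∈ S)
    (hv : v ∈ S) (hu : u ∈ S) (h1 : T L x z v) (h2 : T L y z u) (h3' : x ≠ y)
    (h4 : ¬ ∃ w, T L x y w) : ∃ r, Img L x u r ∧ Img L y v r := by
  have h4' : ¬ ∃ w, T (restrict L S) (⟨x, hx⟩ : S) ⟨y, hy⟩ w := by
    rintro ⟨w, hw⟩
    exact h4 ⟨w, (T_restrict_iff h3 hS _ _ _).mp hw⟩
  obtain ⟨r, k1, k2⟩ := h ⟨x, hx⟩ ⟨y, hy⟩ ⟨z, hz⟩ ⟨v, hv⟩ ⟨u, hu⟩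
    ((T_restrict_iff h3 hS _ _ _).mpr h1) ((T_restrict_iff h3 hS _ _ _).mpr h2)
    (fun e => h3' (congrArg Subtype.val e)) h4'
  exact ⟨r, (Img_restrict_iff h3 hS _ _ _).mp k1, (Img_restrict_iff h3 hS _ _ _).mp k2⟩

include h3 hS in
theorem P4_ambient (h : P4 (restrict L S)) {x y w z : X} (hx : x ∈ S) (hy : y ∈ S) (hw : w ∈ S)
    (hz : z ∈ S) (h1 : T L x y w) :
    ∃ z₁ z₂ z₃ z₄ z₅, Img L y z z₁ ∧ Img L x z₁ z₂ ∧ Img L y z₂ z₃ ∧ Img L x z₃ z₄ ∧
      Img L y z₄ z₅ ∧ Img L x z₅ z := by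
  obtain ⟨z₁, k1, z₂, k2, z₃, k3, z₄, k4, z₅, k5, k6⟩ := h ⟨x, hx⟩ ⟨y, hy⟩ ⟨w, hw⟩ ⟨z, hz⟩
    ((T_restrict_iff h3 hS _ _ _).mpr h1)
  exact ⟨z₁, z₂, z₃, z₄, z₅, (Img_restrict_iff h3 hS _ _ _).mp k1,
    (Img_restrict_iff h3 hS _ _ _).mp k2, (Img_restrict_iff h3 hS _ _ _).mp k3,
    (Img_restrict_iff h3 hS _ _ _).mp k4, (Img_restrict_iff h3 hS _ _ _).mp k5,
    (Img_restrict_iff h3 hS _ _ _).mp k6⟩

end ambient

end Cfsg.Agent.Lib.Helper31.Fischer
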