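import Cfsg.Agent.Lib.Helper31.Fischer2

/-!
# The dual affine plane of order two satisfies the four plane properties (helper31)
-/

set_option autoImplicit false

namespace Cfsg.Agent.Lib.Helper31.Fischer

open Cfsg Cfsg.LineSystem

/-- decidable form of the third-point relation of the dual affine plane -/
def R₂ (u v w : DualAffinePoint) : Prop :=
  w ≠ u ∧ w ≠ v ∧ u ≠ v ∧ ∃ i : Fin 4, i ∉ u.val ∧ i ∉ v.val ∧ i ∉ w.val

instance (u v w : DualAffinePoint) : Decidable (R₂ u v w) := by unfold R₂; infer_instance

set_option synthInstance.maxSize 1000 in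
set_option synthInstance.maxHeartbeats 400000 in
set_option maxRecDepth 100000 in
theorem dual_fin_fact : ∀ (i : Fin 4) (u v w s : DualAffinePoint), w ≠ u → w ≠ v → u ≠ v →
    i ∉ u.val → i ∉ v.val → i ∉ w.val → i ∉ s.val → s = u ∨ s = v ∨ s = w := by
  decide

theorem dual_T_iff (u v w : DualAffinePoint) : T dualAffinePlaneTwo u v w ↔ R₂ u v w := by
  constructor
  · rintro ⟨h1, h2, h3, i, hi⟩
    refine ⟨h1, h2, h3, i, ?_, ?_, ?_⟩
    · have : u ∈ ({u, v, w} : Set DualAffinePoint) := by simp
      rw [hi] at this; exact this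
    · have : v ∈ ({u, v, w} : Set DualAffinePoint) := by simp
      rw [hi] at this; exact this
    · have : w ∈ ({u, v, w} : Set DualAffinePoint) := by simp
      rw [hi] at this; exact this
  · rintro ⟨h1, h2, h3, i, hu, hv, hw⟩
    refine ⟨h1, h2, h3, i, ?_⟩
    ext s
    simp only [Set.mem_insert_iff, Set.mem_singleton_iff, Set.mem_ofPred_eq]
    constructor
    · rintro (rfl | rfl | rfl) <;> assumption
    · intro hs
      exact dual_fin_fact i u v w s h1 h2 h3 hu hv hw hs

/-- decidable form of `Img` -/
def I₂ (x b b' : DualAffinePoint) : Prop := R₂ x b b' ∨ (b' = b ∧ ¬ ∃ w, R₂ x b w)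

instance (x b b' : DualAffinePoint) : Decidable (I₂ x b b') := by unfold I₂; infer_instance

theorem dual_Img_iff (x b b' : DualAffinePoint) : Img dualAffinePlaneTwo x b b' ↔ I₂ x b b' := by
  unfold Img I₂
  simp only [dual_T_iff]

set_option synthInstance.maxSize 2000 in
set_option synthInstance.maxHeartbeats 800000 in
set_option maxRecDepth 100000 in
theorem dual_P1 : P1 dualAffinePlaneTwo := by
  unfold P1
  simp only [dual_T_iff, dual_Img_iff]
  decide

set_option synthInstance.maxSize 2000 in
set_option synthInstance.maxHeartbeats 800000 in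
set_option maxRecDepth 100000 in
theorem dual_P2 : P2 dualAffinePlaneTwo := by
  unfold P2
  simp only [dual_T_iff]
  decide

set_option synthInstance.maxSize 2000 in
set_option synthInstance.maxHeartbeats 800000 in
set_option maxRecDepth 100000 in
theorem dual_P3 : P3 dualAffinePlaneTwo := by
  unfold P3
  simp only [dual_T_iff, dual_Img_iff]
  decide

set_option synthInstance.maxSize 2000 in
set_option synthInstance.maxHeartbeats 800000 in
set_option maxRecDepth 100000 in
theorem dual_P4 : P4 dualAffinePlaneTwo := by
  unfold P4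
  simp only [dual_T_iff, dual_Img_iff]
  decide

end Cfsg.Agent.Lib.Helper31.Fischer
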