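import Cfsg.Agent.Lib.Helper31.Fischer2

/-!
# The affine plane of order three satisfies the four plane properties (helper31)
-/

set_option autoImplicit false

namespace Cfsg.Agent.Lib.Helper31.Fischer

open Cfsg Cfsg.LineSystem

/-- the point type of the affine plane of order three -/
abbrev V3 : Type := Fin 2 → ZMod 3

/-- decidable form of the third-point relation of the affine plane of order three -/
def R₃ (u v w : V3) : Prop :=
  w ≠ u ∧ w ≠ v ∧ u ≠ v ∧ u + v + w = 0

instance (u v w : V3) : Decidable (R₃ u v w) := by unfold R₃; infer_instance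

set_option synthInstance.maxSize 1000 in
set_option synthInstance.maxHeartbeats 400000 in
set_option maxRecDepth 100000 in
theorem ag_fact1 : ∀ (v₀ w₀ : V3) (c₁ c₂ c₃ : ZMod 3),
    v₀ + c₃ • w₀ ≠ v₀ + c₁ • w₀ → v₀ + c₃ • w₀ ≠ v₀ + c₂ • w₀ → v₀ + c₁ • w₀ ≠ v₀ + c₂ • w₀ →
    (v₀ + c₁ • w₀) + (v₀ + c₂ • w₀) + (v₀ + c₃ • w₀) = 0 := by
  decide

set_option synthInstance.maxSize 1000 in
set_option synthInstance.maxHeartbeats 400000 in
set_option maxRecDepth 100000 in
theorem ag_fact2 : ∀ (u v : V3) (c : ZMod 3),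
    u + c • (v - u) = u ∨ u + c • (v - u) = v ∨ u + c • (v - u) = -u - v := by
  decide

set_option synthInstance.maxSize 1000 in
set_option synthInstance.maxHeartbeats 400000 in
set_option maxRecDepth 100000 in
theorem ag_fact3 : ∀ (u v : V3), u + (0 : ZMod 3) • (v - u) = u ∧ u + (1 : ZMod 3) • (v - u) = v ∧
    u + (2 : ZMod 3) • (v - u) = -u - v := by
  decide

theorem ag_T_iff (u v w : V3) : T affinePlaneThree u v w ↔ R₃ u v w := by
  constructor
  · rintro ⟨h1, h2, h3, v₀, w₀, hw₀, hl⟩
    refine ⟨h1, h2, h3, ?_⟩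
    have hu : u ∈ ({u, v, w} : Set V3) := by simp
    have hv : v ∈ ({u, v, w} : Set V3) := by simp
    have hw : w ∈ ({u, v, w} : Set V3) := by simp
    rw [hl] at hu hv hw
    obtain ⟨c₁, rfl⟩ := hu
    obtain ⟨c₂, rfl⟩ := hv
    obtain ⟨c₃, rfl⟩ := hw
    exact ag_fact1 v₀ w₀ c₁ c₂ c₃ h1 h2 h3
  · rintro ⟨h1, h2, h3, hs⟩
    have hw : w = -u - v := by
      have : w = (u + v + w) - u - v := by abel
      rw [this, hs]; abel
    refine ⟨h1, h2, h3, u, v - u, sub_ne_zero.mpr h3.symm, ?_⟩
    ext x
    simp only [Set.mem_insert_iff, Set.mem_singleton_iff, Set.mem_ofPred_eq]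
    constructor
    · rintro (rfl | rfl | rfl)
      · exact ⟨0, (ag_fact3 x v).1.symm⟩
      · exact ⟨1, (ag_fact3 u x).2.1.symm⟩
      · exact ⟨2, by rw [hw]; exact (ag_fact3 u v).2.2.symm⟩
    · rintro ⟨c, rfl⟩
      rw [hw]
      exact ag_fact2 u v c

/-- decidable form of `Img` -/
def I₃ (x b b' : V3) : Prop := R₃ x b b' ∨ (b' = b ∧ ¬ ∃ w, R₃ x b w)

instance (x b b' : V3) : Decidable (I₃ x b b') := by unfold I₃; infer_instance

theorem ag_Img_iff (x b b' : V3) : Img affinePlaneThree x b b' ↔ I₃ x b b' := by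
  unfold Img I₃
  simp only [ag_T_iff]

set_option synthInstance.maxSize 2000 in
set_option synthInstance.maxHeartbeats 800000 in
set_option maxRecDepth 1000000 in
set_option maxHeartbeats 4000000 in
theorem ag_P1 : P1 affinePlaneThree := by
  unfold P1
  simp only [ag_T_iff, ag_Img_iff]
  decide

set_option synthInstance.maxSize 2000 in
set_option synthInstance.maxHeartbeats 800000 in
set_option maxRecDepth 1000000 in
set_option maxHeartbeats 4000000 in
theorem ag_P2 : P2 affinePlaneThree := by
  unfold P2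
  simp only [ag_T_iff]
  decide

set_option synthInstance.maxSize 2000 in
set_option synthInstance.maxHeartbeats 800000 in
set_option maxRecDepth 1000000 in
set_option maxHeartbeats 4000000 in
theorem ag_P3 : P3 affinePlaneThree := by
  unfold P3
  simp only [ag_T_iff, ag_Img_iff]
  decide

set_option synthInstance.maxSize 2000 in
set_option synthInstance.maxHeartbeats 800000 in
set_option maxRecDepth 1000000 in
set_option maxHeartbeats 4000000 in
theorem ag_P4 : P4 affinePlaneThree := by
  unfold P4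
  simp only [ag_T_iff, ag_Img_iff]
  decide

end Cfsg.Agent.Lib.Helper31.Fischer
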