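import Cfsg.Agent.Lib.Helper31.Fischer3
import Cfsg.Agent.Lib.Helper31.Fischer4

/-!
# Building isomorphisms of line systems from third-point relations (helper31)
-/

set_option autoImplicit false

namespace Cfsg.Agent.Lib.Helper31.Fischer

open Cfsg Cfsg.LineSystem

variable {X : Type*} {Y : Type*}

/-- every line is a triple of the third-point relation -/
def LinesAreT (L : Set (Set X)) : Prop :=
  ∀ l ∈ L, ∃ p q r : X, l = {p, q, r} ∧ T L p q r

theorem linesAreT_of_three {L : Set (Set X)} (h3 : ∀ l ∈ L, l.ncard = 3) : LinesAreT L :=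
  fun _ hl => exists_T_of_line h3 hl

theorem iso_of_T_iff {L : Set (Set X)} {M : Set (Set Y)} (e : X ≃ Y)
    (hL : LinesAreT L) (hM : LinesAreT M)
    (h : ∀ p q r : X, T L p q r ↔ T M (e p) (e q) (e r)) : IsIso L M e := by
  intro l
  constructor
  · intro hl
    obtain ⟨p, q, r, rfl, hT⟩ := hL l hl
    have := (h p q r).mp hT
    rw [Set.image_insert_eq, Set.image_pair]
    exact this.mem
  · intro hl
    obtain ⟨p, q, r, hpqr, hT⟩ := hM _ hl
    have hT' : T L (e.symm p) (e.symm q) (e.symm r) := by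
      rw [h]
      simpa using hT
    have hl' : l = {e.symm p, e.symm q, e.symm r} := by
      have h2 : e '' l = e '' {e.symm p, e.symm q, e.symm r} := by
        rw [hpqr, Set.image_insert_eq, Set.image_pair]
        simp
      exact e.injective.image_injective h2
    rw [hl']
    exact hT'.mem

theorem exists_T_of_point {L : Set (Set X)} (h3 : ∀ l ∈ L, l.ncard = 3) {l : Set X} (hl : l ∈ L)
    {a : X} (ha : a ∈ l) : ∃ b b' : X, l = {a, b, b'} ∧ T L a b b' := by
  have h1 : 1 < l.ncard := by rw [h3 l hl]; norm_num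
  obtain ⟨b, hb, hba⟩ := Set.exists_ne_of_one_lt_ncard h1 a
  obtain ⟨r, hr, hT⟩ := exists_T_of_mem h3 hl ha hb hba.symm
  exact ⟨b, r, hr, hT⟩

theorem restrict_linesAreT {L : Set (Set X)} (h3 : ∀ l ∈ L, l.ncard = 3) {S : Set X}
    (hS : IsSubspace L S) : LinesAreT (restrict L S) := by
  rintro m ⟨l, hl, hlS, rfl⟩
  obtain ⟨p, q, r, rfl, hT⟩ := exists_T_of_line h3 hl
  have hp : p ∈ S := hlS (by simp)
  have hq : q ∈ S := hlS (by simp)
  have hr : r ∈ S := hlS (by simp)
  refine ⟨⟨p, hp⟩, ⟨q, hq⟩, ⟨r, hr⟩, ?_, ?_⟩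
  · ext x
    simp only [Set.mem_insert_iff, Set.mem_singleton_iff, Set.mem_ofPred_eq, Subtype.ext_iff]
  · rw [T_restrict_iff h3 hS]
    exact hT

/-- The assembly lemma: an injective parametrisation of a set of points by a model, compatible with
third points, closed under third points, containing the generators and generated by them, gives an
isomorphism of the generated subspace with the model. -/
theorem assemble {L : Set (Set X)} {M : Set (Set Y)}
    (h3 : ∀ l ∈ L, l.ncard = 3) (hM : LinesAreT M) (P : Y → X) (hinj : Function.Injective P)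
    (A : Set X) (h1 : A ⊆ Set.range P) (h2 : Set.range P ⊆ span L A)
    (hT : ∀ u v w : Y, T L (P u) (P v) (P w) ↔ T M u v w)
    (hcl : ∀ (u v : Y) (x : X), T L (P u) (P v) x → x ∈ Set.range P) :
    Isomorphic (restrict L (span L A)) M := by
  have hsub : IsSubspace L (Set.range P) := by
    rintro l hl x ⟨u, rfl⟩ y ⟨v, rfl⟩ hxy hxl hyl p hp
    obtain ⟨r, hr, hTr⟩ := exists_T_of_mem h3 hl hxl hyl hxy
    rw [hr] at hp
    simp only [Set.mem_insert_iff, Set.mem_singleton_iff] at hp
    rcases hp with rfl | rfl | rfl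
    · exact ⟨u, rfl⟩
    · exact ⟨v, rfl⟩
    · exact hcl u v _ hTr
  have hspan : span L A = Set.range P := by
    apply Set.Subset.antisymm
    · apply Set.sInter_subset_of_mem
      exact ⟨h1, hsub⟩
    · exact h2
  have hS : IsSubspace L (span L A) := isSubspace_span A
  let f : Y → ↥(span L A) := fun u => ⟨P u, h2 ⟨u, rfl⟩⟩
  have hf : Function.Bijective f := by
    constructor
    · intro u v huv
      apply hinj
      exact congrArg Subtype.val huv
    · rintro ⟨x, hx⟩
      have : x ∈ Set.range P := by rw [← hspan]; exact hx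
      obtain ⟨u, rfl⟩ := this
      exact ⟨u, rfl⟩
  let e : ↥(span L A) ≃ Y := (Equiv.ofBijective f hf).symm
  have hfe : ∀ p : ↥(span L A), (p : X) = P (e p) := by
    intro p
    have : f (e p) = p := (Equiv.ofBijective f hf).apply_symm_apply p
    exact (congrArg Subtype.val this).symm
  refine ⟨e, iso_of_T_iff e (restrict_linesAreT h3 hS) hM ?_⟩
  intro p q r
  rw [T_restrict_iff h3 hS, hfe p, hfe q, hfe r, hT]

/-! ### the lines of the two models -/

set_option synthInstance.maxSize 1000 in
set_option synthInstance.maxHeartbeats 400000 in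
set_option maxRecDepth 100000 in
theorem dual_line_fact : ∀ i : Fin 4, ∃ u v w : DualAffinePoint,
    (w ≠ u ∧ w ≠ v ∧ u ≠ v) ∧ i ∉ u.val ∧ i ∉ v.val ∧ i ∉ w.val := by
  decide

theorem dual_linesAreT : LinesAreT dualAffinePlaneTwo := by
  rintro l ⟨i, rfl⟩
  obtain ⟨u, v, w, ⟨h1, h2, h3⟩, hu, hv, hw⟩ := dual_line_fact i
  refine ⟨u, v, w, ?_, ?_⟩
  · ext s
    simp only [Set.mem_insert_iff, Set.mem_singleton_iff, Set.mem_ofPred_eq]
    constructor
    · intro hs
      exact dual_fin_fact i u v w s h1 h2 h3 hu hv hw hs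
    · rintro (rfl | rfl | rfl) <;> assumption
  · rw [dual_T_iff]
    exact ⟨h1, h2, h3, i, hu, hv, hw⟩

set_option synthInstance.maxSize 1000 in
set_option synthInstance.maxHeartbeats 400000 in
set_option maxRecDepth 100000 in
theorem ag_line_fact1 : ∀ v w : V3, w ≠ 0 → R₃ v (v + w) (v + w + w) := by
  decide

set_option synthInstance.maxSize 1000 in
set_option synthInstance.maxHeartbeats 400000 in
set_option maxRecDepth 100000 in
theorem ag_line_fact2 : ∀ (v w : V3) (c : ZMod 3),
    v + c • w = v ∨ v + c • w = v + w ∨ v + c • w = v + w + w := by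
  decide

set_option synthInstance.maxSize 1000 in
set_option synthInstance.maxHeartbeats 400000 in
set_option maxRecDepth 100000 in
theorem ag_line_fact3 : ∀ (v w : V3),
    v = v + (0 : ZMod 3) • w ∧ v + w = v + (1 : ZMod 3) • w ∧ v + w + w = v + (2 : ZMod 3) • w := by
  decide

theorem ag_linesAreT : LinesAreT affinePlaneThree := by
  rintro l ⟨v, w, hw, rfl⟩
  refine ⟨v, v + w, v + w + w, ?_, ?_⟩
  · ext x
    simp only [Set.mem_insert_iff, Set.mem_singleton_iff, Set.mem_ofPred_eq]
    constructor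
    · rintro ⟨c, rfl⟩
      exact ag_line_fact2 v w c
    · rintro (rfl | rfl | rfl)
      · exact ⟨0, (ag_line_fact3 _ w).1⟩
      · exact ⟨1, (ag_line_fact3 v w).2.1⟩
      · exact ⟨2, (ag_line_fact3 v w).2.2⟩
  · rw [ag_T_iff]
    exact ag_line_fact1 v w hw

end Cfsg.Agent.Lib.Helper31.Fischer
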