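import Cfsg.Agent.Lib.Helper31.Fischer5
import Cfsg.Agent.S5355

/-!
# The line system of a class of 3-transpositions: basic facts (helper31)
-/

set_option autoImplicit false

namespace Cfsg.Agent.Lib.Helper31.Fischer

open Cfsg Cfsg.LineSystem Cfsg.Agent.S5355

variable {G : Type*} [Group G]

/-- conjugation -/
def cj (g d : G) : G := g * d * g⁻¹

theorem cj_mul (g h d : G) : cj (g * h) d = cj g (cj h d) := by unfold cj; group

theorem cj_cj (g u v : G) : cj (cj g u) (cj g v) = cj g (cj u v) := by unfold cj; group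

theorem cj_self (u : G) : cj u u = u := by unfold cj; group

theorem cj_invol {u : G} (hu : u * u = 1) (v : G) : cj u (cj u v) = v := by
  unfold cj
  have h : u⁻¹ = u := inv_of_sq hu
  rw [h]
  calc u * (u * v * u) * u = (u * u) * v * (u * u) := by group
    _ = v := by rw [hu, one_mul, mul_one]

theorem commute_cj_iff (g u v : G) : Commute (cj g u) (cj g v) ↔ Commute u v :=
  Commute.conj_iff g

theorem cj_injective (g : G) : Function.Injective (cj g) := by
  intro u v h
  unfold cj at h
  exact mul_left_cancel (mul_right_cancel h)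

section D

variable {D : Set G} (hset : IsThreeTranspositionSet D)
  (hconj : ∀ g : G, ∀ d ∈ D, g * d * g⁻¹ ∈ D)

include hset in
theorem sq_of_mem {d : G} (hd : d ∈ D) : d * d = 1 := sq_of_order_two (hset.1 d hd)

include hconj in
theorem cj_mem (g : G) {d : G} (hd : d ∈ D) : cj g d ∈ D := hconj g d hd

include hset in
theorem braid {u v : G} (hu : u ∈ D) (hv : v ∈ D) (h : ¬ Commute u v) : cj u v = cj v u := by
  have huu := sq_of_mem hset hu
  have hvv := sq_of_mem hset hv
  have h3 := cube_of_not_commute hset hu hv h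
  have hb := braid3 u v huu hvv h3
  unfold cj
  rw [inv_of_sq huu, inv_of_sq hvv, mul_assoc, mul_assoc, hb]

/-- the group-level third-point relation -/
def TG (D : Set G) (x y z : G) : Prop := x ∈ D ∧ y ∈ D ∧ ¬ Commute x y ∧ z = cj y x

include hconj in
theorem TG.mem3 {x y z : G} (h : TG D x y z) : z ∈ D := by
  rw [h.2.2.2]
  exact cj_mem hconj y h.1

include hset in
theorem TG.symm12 {x y z : G} (h : TG D x y z) : TG D y x z := by
  obtain ⟨hx, hy, hnc, hz⟩ := h
  refine ⟨hy, hx, fun h' => hnc h'.symm, ?_⟩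
  rw [hz]
  exact (braid hset hx hy hnc).symm

include hset hconj in
theorem TG.symm23 {x y z : G} (h : TG D x y z) : TG D x z y := by
  have hz' := h.mem3 hconj
  obtain ⟨hx, hy, hnc, hz⟩ := h
  have hz2 : z = cj x y := by rw [hz]; exact (braid hset hx hy hnc).symm
  refine ⟨hx, hz', ?_, ?_⟩
  · rw [hz2]
    intro hc
    apply hnc
    have : Commute (cj x x) (cj x y) := by rw [cj_self]; exact hc
    exact (commute_cj_iff x x y).mp this
  · have e1 : cj z x = cj (cj x y) (cj x x) := by rw [cj_self, hz2]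
    rw [e1, cj_cj, ← braid hset hx hy hnc, cj_invol (sq_of_mem hset hx)]

include hconj in
theorem TG.conj {x y z : G} (h : TG D x y z) (g : G) : TG D (cj g x) (cj g y) (cj g z) := by
  obtain ⟨hx, hy, hnc, hz⟩ := h
  refine ⟨cj_mem hconj g hx, cj_mem hconj g hy, ?_, ?_⟩
  · rw [commute_cj_iff]; exact hnc
  · rw [hz, cj_cj]

theorem TG.ne12 {x y z : G} (h : TG D x y z) : x ≠ y := by
  rintro rfl
  exact h.2.2.1 (Commute.refl x)

/-- the line system -/
abbrev TL (D : Set G) : Set (Set D) := threeTranspositionLines D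

theorem T_of_TG {x y z : D} (h : TG D (x : G) (y : G) (z : G)) : T (TL D) x y z := by
  obtain ⟨hx, hy, hnc, hz⟩ := h
  refine ⟨?_, ?_, ?_, x, y, hnc, ?_⟩
  · intro e
    apply hnc
    have e' : (x : G) = cj (y : G) (x : G) := by rw [← hz, e]
    unfold cj at e'
    have : (x : G) * y = y * x := by
      calc (x : G) * y = (y * x * (y : G)⁻¹) * y := by rw [← e']
        _ = y * x := by group
    exact this
  · intro e
    have e' : (y : G) = cj (y : G) (x : G) := by rw [← hz, e]
    unfold cj at e'
    have : (x : G) = y := by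
      have h1 : (y : G) * y = y * x := by
        calc (y : G) * y = (y * x * (y : G)⁻¹) * y := by rw [← e']
          _ = y * x := by group
      exact (mul_left_cancel h1).symm
    apply hnc
    rw [this]
  · intro e
    apply hnc
    rw [e]
  · ext w
    simp only [Set.mem_insert_iff, Set.mem_singleton_iff, Set.mem_ofPred_eq, Subtype.ext_iff, hz, cj]

include hset hconj in
theorem TG_of_T {x y z : D} (h : T (TL D) x y z) : TG D (x : G) (y : G) (z : G) := by
  obtain ⟨h1, h2, h3, x', y', hnc, heq⟩ := h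
  have t1 : TG D (x' : G) (y' : G) (cj (y' : G) (x' : G)) := ⟨x'.2, y'.2, hnc, rfl⟩
  obtain ⟨z', hz'⟩ : ∃ z' : D, (z' : G) = cj (y' : G) (x' : G) :=
    ⟨⟨_, cj_mem hconj _ x'.2⟩, rfl⟩
  rw [← hz'] at t1
  have heq' : ∀ w : D, w ∈ ({x, y, z} : Set D) ↔ (w = x' ∨ w = y' ∨ w = z') := by
    intro w
    rw [heq]
    simp only [Set.mem_ofPred_eq, Subtype.ext_iff, hz', cj]
  have hx := (heq' x).mp (by simp)
  have hy := (heq' y).mp (by simp)
  have hz := (heq' z).mp (by simp)
  have t2 := t1.symm12 hset
  have t3 := t1.symm23 hset hconj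
  have t4 := t3.symm12 hset
  have t5 := t2.symm23 hset hconj
  have t6 := t5.symm12 hset
  rcases hx with rfl | rfl | rfl <;> rcases hy with rfl | rfl | rfl <;>
    rcases hz with rfl | rfl | rfl <;>
    first
      | exact absurd rfl h1
      | exact absurd rfl h2
      | exact absurd rfl h3
      | exact t1
      | exact t2
      | exact t3
      | exact t4
      | exact t5
      | exact t6

include hset hconj in
theorem T_iff_TG (x y z : D) : T (TL D) x y z ↔ TG D (x : G) (y : G) (z : G) :=
  ⟨TG_of_T hset hconj, T_of_TG⟩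

include hconj in
theorem TL_three : ∀ l ∈ TL D, l.ncard = 3 := by
  rintro l ⟨x, y, hnc, rfl⟩
  have hT : T (TL D) x y ⟨cj (y : G) (x : G), cj_mem hconj _ x.2⟩ :=
    T_of_TG ⟨x.2, y.2, hnc, rfl⟩
  rw [Set.ncard_eq_three]
  refine ⟨x, y, ⟨cj (y : G) (x : G), cj_mem hconj _ x.2⟩, hT.2.2.1, hT.1.symm, hT.2.1.symm, ?_⟩
  ext w
  simp only [Set.mem_insert_iff, Set.mem_singleton_iff, Set.mem_ofPred_eq, Subtype.ext_iff, cj]

include hset hconj in
theorem TL_partialLinear : IsPartialLinear (TL D) := by
  intro l hl m hm x y hxy hxl hyl hxm hym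
  obtain ⟨r, hr, hT⟩ := exists_T_of_mem (TL_three hconj) hl hxl hyl hxy
  obtain ⟨r', hr', hT'⟩ := exists_T_of_mem (TL_three hconj) hm hxm hym hxy
  have e1 := (TG_of_T hset hconj hT).2.2.2
  have e2 := (TG_of_T hset hconj hT').2.2.2
  have : r = r' := Subtype.ext (by rw [e1, e2])
  rw [hr, hr', this]

end D

end Cfsg.Agent.Lib.Helper31.Fischer
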