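import Cfsg.Agent.Lib.Helper31.Fischer6

/-!
# The line system of a class of 3-transpositions: the symmetric group case (helper31)
-/

set_option autoImplicit false

namespace Cfsg.Agent.Lib.Helper31.Fischer

open Cfsg Cfsg.LineSystem Cfsg.Agent.S5355 Equiv

/-- the smaller member of a pair -/
def lo (s : Finset (Fin 4)) : Fin 4 :=
  if 0 ∈ s then 0 else if 1 ∈ s then 1 else if 2 ∈ s then 2 else 3

/-- the larger member of a pair -/
def hi (s : Finset (Fin 4)) : Fin 4 :=
  if 3 ∈ s then 3 else if 2 ∈ s then 2 else if 1 ∈ s then 1 else 0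

/-- the transposition of a pair -/
def sw (s : DualAffinePoint) : Perm (Fin 4) := swap (lo s.val) (hi s.val)

def p01 : DualAffinePoint := ⟨{0, 1}, by decide⟩
def p02 : DualAffinePoint := ⟨{0, 2}, by decide⟩
def p03 : DualAffinePoint := ⟨{0, 3}, by decide⟩
def p12 : DualAffinePoint := ⟨{1, 2}, by decide⟩
def p13 : DualAffinePoint := ⟨{1, 3}, by decide⟩
def p23 : DualAffinePoint := ⟨{2, 3}, by decide⟩

set_option synthInstance.maxSize 2000 in
set_option synthInstance.maxHeartbeats 800000 in
set_option maxRecDepth 1000000 in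
set_option maxHeartbeats 4000000 in
theorem sw_fact1 : ∀ s : DualAffinePoint, ∃ g : Perm (Fin 4), sw s = g * swap 0 1 * g⁻¹ := by
  decide

set_option synthInstance.maxSize 2000 in
set_option synthInstance.maxHeartbeats 800000 in
set_option maxRecDepth 1000000 in
set_option maxHeartbeats 4000000 in
theorem sw_fact2 : ∀ u v w : DualAffinePoint,
    (sw u * sw v ≠ sw v * sw u ∧ sw w = sw v * sw u * (sw v)⁻¹) ↔ R₂ u v w := by
  decide

set_option synthInstance.maxSize 2000 in
set_option synthInstance.maxHeartbeats 800000 in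
set_option maxRecDepth 1000000 in
set_option maxHeartbeats 4000000 in
theorem sw_fact3 : ∀ u v : DualAffinePoint, ∃ w, sw v * sw u * (sw v)⁻¹ = sw w := by
  decide

set_option synthInstance.maxSize 2000 in
set_option synthInstance.maxHeartbeats 800000 in
set_option maxRecDepth 1000000 in
set_option maxHeartbeats 4000000 in
theorem sw_fact4 : ∀ u v : DualAffinePoint, sw u = sw v → u = v := by
  decide

set_option maxRecDepth 100000 in
theorem sw_fact5 : sw p01 = swap 0 1 ∧ sw p12 = swap 1 2 ∧ sw p23 = swap 2 3 ∧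
    sw p02 = swap 0 1 * swap 1 2 * (swap 0 1)⁻¹ ∧ sw p13 = swap 2 3 * swap 1 2 * (swap 2 3)⁻¹ := by
  decide

set_option synthInstance.maxSize 2000 in
set_option synthInstance.maxHeartbeats 800000 in
set_option maxRecDepth 1000000 in
theorem sw_fact6 : ∀ s : DualAffinePoint,
    s = p01 ∨ s = p12 ∨ s = p02 ∨ s = p23 ∨ s = p13 ∨ s = p03 := by
  decide

set_option maxRecDepth 100000 in
theorem sw_fact7 : R₂ p01 p13 p03 := by
  decide


variable {G : Type*} [Group G] {D : Set G}

theorem s4_case (hset : IsThreeTranspositionSet D) (hconj : ∀ g : G, ∀ d ∈ D, g * d * g⁻¹ ∈ D)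
    {a b c b' c' : D} (hTb : T (TL D) a b b') (hTc : T (TL D) a c c')
    (hcomm : Commute (b : G) (c : G)) (hbc : b ≠ c) :
    Isomorphic (restrict (TL D) (span (TL D) ({a, b, b'} ∪ {a, c, c'}))) dualAffinePlaneTwo := by
  have gb := TG_of_T hset hconj hTb
  have gc := TG_of_T hset hconj hTc
  have aa := sq_of_mem hset a.2
  have bb := sq_of_mem hset b.2
  have cc := sq_of_mem hset c.2
  have hba : ¬ Commute (b : G) (a : G) := fun h => gb.2.2.1 h.symm
  have c1 := cube_of_not_commute hset b.2 a.2 hba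
  have c2 := cube_of_not_commute hset a.2 c.2 gc.2.2.1
  obtain ⟨φ, hφ⟩ : ∃ φ : Perm (Fin 4) →* G, φ = lift3 (b : G) a c bb aa cc hcomm c1 c2 := ⟨_, rfl⟩
  have h01 : φ (swap 0 1) = b := by rw [hφ]; exact lift3_01 _ _ _ _ _ _ _ _ _
  have h12 : φ (swap 1 2) = a := by rw [hφ]; exact lift3_12 _ _ _ _ _ _ _ _ _
  have h23 : φ (swap 2 3) = c := by rw [hφ]; exact lift3_23 _ _ _ _ _ _ _ _ _
  have hinj : Function.Injective φ := by
    rw [hφ]
    apply lift3_injective
    · exact ne_one_of_order_two (hset.1 _ b.2)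
    · intro e; exact hbc (Subtype.ext e.symm)
    · intro e; exact gb.2.2.1 (by rw [e])
  have hmem : ∀ s : DualAffinePoint, φ (sw s) ∈ D := by
    intro s
    obtain ⟨g, hg⟩ := sw_fact1 s
    rw [hg, map_mul, map_mul, map_inv, h01]
    exact hconj _ _ b.2
  obtain ⟨P, hP⟩ : ∃ P : DualAffinePoint → D, ∀ s, (P s : G) = φ (sw s) :=
    ⟨fun s => ⟨φ (sw s), hmem s⟩, fun s => rfl⟩
  have hPinj : Function.Injective P := by
    intro u v huv
    apply sw_fact4
    apply hinj
    rw [← hP, ← hP, huv]
  have hT : ∀ u v w : DualAffinePoint, T (TL D) (P u) (P v) (P w) ↔ T dualAffinePlaneTwo u v w := by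
    intro u v w
    rw [T_iff_TG hset hconj, dual_T_iff, ← sw_fact2]
    unfold TG
    rw [hP, hP, hP]
    constructor
    · rintro ⟨_, _, hnc, hw⟩
      constructor
      · intro e
        apply hnc
        show φ (sw u) * φ (sw v) = φ (sw v) * φ (sw u)
        rw [← map_mul, ← map_mul, e]
      · apply hinj
        rw [hw, cj, map_mul, map_mul, map_inv]
    · rintro ⟨hnc, hw⟩
      refine ⟨hmem u, hmem v, ?_, ?_⟩
      · intro e
        apply hnc
        apply hinj
        rw [map_mul, map_mul]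
        exact e
      · rw [hw, cj, map_mul, map_mul, map_inv]
  have hcl : ∀ (u v : DualAffinePoint) (x : D), T (TL D) (P u) (P v) x → x ∈ Set.range P := by
    intro u v x hx
    have := (TG_of_T hset hconj hx).2.2.2
    obtain ⟨w, hw⟩ := sw_fact3 u v
    refine ⟨w, Subtype.ext ?_⟩
    rw [this, hP, hP, hP, ← hw, cj, map_mul, map_mul, map_inv]
  obtain ⟨f1, f2, f3, f4, f5⟩ := sw_fact5
  have e01 : P p01 = b := Subtype.ext (by rw [hP, f1, h01])
  have e12 : P p12 = a := Subtype.ext (by rw [hP, f2, h12])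
  have e23 : P p23 = c := Subtype.ext (by rw [hP, f3, h23])
  have e02 : P p02 = b' := Subtype.ext (by
    rw [hP, f4, map_mul, map_mul, map_inv, h01, h12, gb.2.2.2, cj])
  have e13 : P p13 = c' := Subtype.ext (by
    rw [hP, f5, map_mul, map_mul, map_inv, h23, h12, gc.2.2.2, cj])
  have h1 : ({a, b, b'} ∪ {a, c, c'} : Set D) ⊆ Set.range P := by
    rintro x (hx | hx) <;> simp only [Set.mem_insert_iff, Set.mem_singleton_iff] at hx
    · rcases hx with rfl | rfl | rfl
      · exact ⟨p12, e12⟩
      · exact ⟨p01, e01⟩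
      · exact ⟨p02, e02⟩
    · rcases hx with rfl | rfl | rfl
      · exact ⟨p12, e12⟩
      · exact ⟨p23, e23⟩
      · exact ⟨p13, e13⟩
  have h2 : Set.range P ⊆ span (TL D) ({a, b, b'} ∪ {a, c, c'}) := by
    have hb : P p01 ∈ span (TL D) ({a, b, b'} ∪ {a, c, c'}) := by
      rw [e01]; exact subset_span _ (by simp)
    have hc' : P p13 ∈ span (TL D) ({a, b, b'} ∪ {a, c, c'}) := by
      rw [e13]; exact subset_span _ (by simp)
    rintro _ ⟨s, rfl⟩
    rcases sw_fact6 s with rfl | rfl | rfl | rfl | rfl | rfl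
    · exact hb
    · rw [e12]; exact subset_span _ (by simp)
    · rw [e02]; exact subset_span _ (by simp)
    · rw [e23]; exact subset_span _ (by simp)
    · exact hc'
    · have hT3 : T (TL D) (P p01) (P p13) (P p03) := by
        rw [hT, dual_T_iff]; exact sw_fact7
      exact mem_of_T (isSubspace_span _) hb hc' hT3
  exact assemble (TL_three hconj) dual_linesAreT P hPinj _ h1 h2 hT hcl

end Cfsg.Agent.Lib.Helper31.Fischer
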