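import Cfsg.Agent.Lib.Helper31.Fischer6

/-!
# The line system of a class of 3-transpositions: the affine plane case (helper31)
-/

set_option autoImplicit false

namespace Cfsg.Agent.Lib.Helper31.Fischer

open Cfsg Cfsg.LineSystem Cfsg.Agent.S5355

/-- twelve oriented lines of the affine plane of order three -/
def lines12 : List (V3 × V3 × V3) :=
  [(![1, 0], ![0, 0], ![2, 0]), (![0, 1], ![0, 0], ![0, 2]), (![1, 0], ![0, 1], ![2, 2]),
   (![2, 2], ![0, 0], ![1, 1]), (![2, 0], ![0, 1], ![1, 2]), (![0, 2], ![1, 0], ![2, 1]),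
   (![2, 0], ![0, 2], ![1, 1]), (![1, 2], ![0, 0], ![2, 1]), (![1, 1], ![1, 0], ![1, 2]),
   (![2, 2], ![2, 0], ![2, 1]), (![1, 1], ![0, 1], ![2, 1]), (![2, 2], ![0, 2], ![1, 2])]

set_option synthInstance.maxSize 2000 in
set_option synthInstance.maxHeartbeats 800000 in
set_option maxRecDepth 1000000 in
set_option maxHeartbeats 4000000 in
theorem lines12_fact : ∀ u v : V3, u ≠ v → ∃ t ∈ lines12,
    (u = t.1 ∧ v = t.2.1 ∧ -u - v = t.2.2) ∨ (u = t.2.1 ∧ v = t.1 ∧ -u - v = t.2.2) ∨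
    (u = t.1 ∧ v = t.2.2 ∧ -u - v = t.2.1) ∨ (u = t.2.2 ∧ v = t.1 ∧ -u - v = t.2.1) ∨
    (u = t.2.1 ∧ v = t.2.2 ∧ -u - v = t.1) ∨ (u = t.2.2 ∧ v = t.2.1 ∧ -u - v = t.1) := by
  decide

set_option synthInstance.maxSize 2000 in
set_option synthInstance.maxHeartbeats 800000 in
set_option maxRecDepth 1000000 in
theorem ag_fact_ne : ∀ u v : V3, u ≠ v → R₃ u v (-u - v) := by
  decide

theorem ag_fact_third (u v w : V3) (h : R₃ u v w) : w = -u - v := by
  have hs := h.2.2.2
  have : w = (u + v + w) - u - v := by abel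
  rw [this, hs]; abel

set_option synthInstance.maxSize 2000 in
set_option synthInstance.maxHeartbeats 800000 in
set_option maxRecDepth 1000000 in
theorem v3_cases : ∀ u : V3, u = ![0, 0] ∨ u = ![1, 0] ∨ u = ![2, 0] ∨ u = ![0, 1] ∨ u = ![0, 2] ∨
    u = ![2, 2] ∨ u = ![1, 1] ∨ u = ![1, 2] ∨ u = ![2, 1] := by
  decide

set_option maxRecDepth 100000 in
theorem v3_ne : ∀ u : V3, u ≠ u + ![1, 0] := by
  decide

variable {G : Type*} [Group G] {D : Set G}

/-- the nine points -/
def pt (a b c : G) (i j : ZMod 3) : G :=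
  ![![a, c, cj a c], ![b, cj a (cj c b), cj c (cj a b)], ![cj a b, cj b (cj a c), cj c b]] i j

/-- the nine points, indexed by vectors -/
def ptv (a b c : G) (u : V3) : G := pt a b c (u 0) (u 1)

theorem ag_lines (hset : IsThreeTranspositionSet D) (hconj : ∀ g : G, ∀ d ∈ D, g * d * g⁻¹ ∈ D)
    {a b c : G} (ha : a ∈ D) (hb : b ∈ D) (hc : c ∈ D) (hab : ¬ Commute a b) (hac : ¬ Commute a c)
    (hbc : ¬ Commute b c) (h1 : ¬ Commute b (cj a c)) (h2 : ¬ Commute (cj a b) c) :
    ∀ t ∈ lines12, TG D (ptv a b c t.1) (ptv a b c t.2.1) (ptv a b c t.2.2) := by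
  have aa := sq_of_mem hset ha
  have bb := sq_of_mem hset hb
  have cc := sq_of_mem hset hc
  have bab : cj a b = cj b a := braid hset ha hb hab
  have cac : cj a c = cj c a := braid hset ha hc hac
  have bcb : cj b c = cj c b := braid hset hb hc hbc
  obtain ⟨p20, e20⟩ : ∃ x, x = cj a b := ⟨_, rfl⟩
  obtain ⟨p02, e02⟩ : ∃ x, x = cj a c := ⟨_, rfl⟩
  obtain ⟨p22, e22⟩ : ∃ x, x = cj c b := ⟨_, rfl⟩
  obtain ⟨p11, e11⟩ : ∃ x, x = cj a p22 := ⟨_, rfl⟩
  obtain ⟨p12, e12⟩ : ∃ x, x = cj c p20 := ⟨_, rfl⟩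
  obtain ⟨p21, e21⟩ : ∃ x, x = cj b p02 := ⟨_, rfl⟩
  have m20 : p20 ∈ D := by rw [e20]; exact cj_mem hconj _ hb
  have m02 : p02 ∈ D := by rw [e02]; exact cj_mem hconj _ hc
  have m22 : p22 ∈ D := by rw [e22]; exact cj_mem hconj _ hb
  have L1 : TG D b a p20 := ⟨hb, ha, fun h => hab h.symm, e20⟩
  have L2 : TG D c a p02 := ⟨hc, ha, fun h => hac h.symm, e02⟩
  have L3 : TG D b c p22 := ⟨hb, hc, hbc, e22⟩
  have L4 : TG D p22 a p11 := by
    refine ⟨m22, ha, ?_, e11⟩
    intro h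
    apply h1
    have h' : Commute (cj c b) (cj c (cj c a)) := by
      rw [cj_invol cc, ← e22]; exact h
    rw [commute_cj_iff] at h'
    rw [cac]; exact h'
  have L5 : TG D p20 c p12 := ⟨m20, hc, by rw [e20]; exact h2, e12⟩
  have hnc6 : ¬ Commute p02 b := by rw [e02]; exact fun h => h1 h.symm
  have L6 : TG D p02 b p21 := ⟨m02, hb, hnc6, e21⟩
  have L7 : TG D p20 p02 p11 := by
    refine ⟨m20, m02, ?_, ?_⟩
    · rw [e20, e02, commute_cj_iff]; exact hbc
    · rw [e11, e22, e02, e20, cj_cj]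
  have m12 : p12 ∈ D := by rw [e12]; exact cj_mem hconj _ m20
  have L8 : TG D p12 a p21 := by
    refine ⟨m12, ha, ?_, ?_⟩
    · intro h
      have h' : Commute (cj c p20) (cj c p02) := by
        rw [← e12, e02, cac, cj_invol cc]; exact h
      rw [commute_cj_iff] at h'
      exact L7.2.2.1 h'
    · rw [e12, ← cj_cj, ← e02]
      have : cj a p20 = b := by rw [e20, cj_invol aa]
      rw [this, braid hset m02 hb hnc6, e21]
  have L9 : TG D p11 b p12 := by
    have m11 : p11 ∈ D := by rw [e11]; exact cj_mem hconj _ m22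
    refine ⟨m11, hb, ?_, ?_⟩
    · intro h
      have eb : cj (a * b) a = b := by rw [cj_mul, ← bab, cj_invol aa]
      have ep : cj (a * b) c = p11 := by rw [cj_mul, bcb, ← e22, ← e11]
      have h' : Commute (cj (a * b) c) (cj (a * b) a) := by rw [eb, ep]; exact h
      rw [commute_cj_iff] at h'
      exact hac h'.symm
    · have e11' : p11 = cj p02 p20 := L7.2.2.2
      rw [e11', ← cj_cj, ← e21]
      have : cj b p20 = a := by rw [e20, bab, cj_invol bb]
      rw [this]
      exact ((L8.symm12 hset).symm23 hset hconj).2.2.2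
  have L10 : TG D p22 p20 p21 := by
    have h := L9.conj hconj a
    have x1 : cj a p11 = p22 := by rw [e11, cj_invol aa]
    have x2 : cj a p12 = p21 := L8.2.2.2.symm
    rw [x1, ← e20, x2] at h
    exact h
  have L11 : TG D p11 c p21 := by
    have m11 : p11 ∈ D := by rw [e11]; exact cj_mem hconj _ m22
    refine ⟨m11, hc, ?_, ?_⟩
    · intro h
      have ec : cj (a * c) a = c := by rw [cj_mul, ← cac, cj_invol aa]
      have ep : cj (a * c) b = p11 := by rw [cj_mul, ← e22, ← e11]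
      have h' : Commute (cj (a * c) b) (cj (a * c) a) := by rw [ec, ep]; exact h
      rw [commute_cj_iff] at h'
      exact hab h'.symm
    · have e11' : p11 = cj p20 p02 := (L7.symm12 hset).2.2.2
      rw [e11', ← cj_cj, ← e12]
      have : cj c p02 = a := by rw [e02, cac, cj_invol cc]
      rw [this]
      exact (L8.symm12 hset).2.2.2
  have L12 : TG D p22 p02 p12 := by
    have h := L11.conj hconj a
    have x1 : cj a p11 = p22 := by rw [e11, cj_invol aa]
    have x2 : cj a p21 = p12 := by rw [L8.2.2.2, cj_invol aa]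
    rw [x1, ← e02, x2] at h
    exact h
  subst e11 e12 e21
  subst e20 e02 e22
  intro t ht
  simp only [lines12, List.mem_cons, List.not_mem_nil, or_false] at ht
  rcases ht with rfl | rfl | rfl | rfl | rfl | rfl | rfl | rfl | rfl | rfl | rfl | rfl
  · exact L1
  · exact L2
  · exact L3
  · exact L4
  · exact L5
  · exact L6
  · exact L7
  · exact L8
  · exact L9
  · exact L10
  · exact L11
  · exact L12


theorem ag_key (hset : IsThreeTranspositionSet D) (hconj : ∀ g : G, ∀ d ∈ D, g * d * g⁻¹ ∈ D)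
    {a b c : G} (ha : a ∈ D) (hb : b ∈ D) (hc : c ∈ D) (hab : ¬ Commute a b) (hac : ¬ Commute a c)
    (hbc : ¬ Commute b c) (h1 : ¬ Commute b (cj a c)) (h2 : ¬ Commute (cj a b) c) :
    ∀ u v : V3, u ≠ v → TG D (ptv a b c u) (ptv a b c v) (ptv a b c (-u - v)) := by
  intro u v huv
  obtain ⟨t, ht, hcase⟩ := lines12_fact u v huv
  have q1 := ag_lines hset hconj ha hb hc hab hac hbc h1 h2 t ht
  have q2 := q1.symm12 hset
  have q3 := q1.symm23 hset hconj
  have q4 := q3.symm12 hset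
  have q5 := q2.symm23 hset hconj
  have q6 := q5.symm12 hset
  rcases hcase with ⟨rfl, rfl, h⟩ | ⟨rfl, rfl, h⟩ | ⟨rfl, rfl, h⟩ | ⟨rfl, rfl, h⟩ | ⟨rfl, rfl, h⟩ |
    ⟨rfl, rfl, h⟩ <;> rw [h]
  · exact q1
  · exact q2
  · exact q3
  · exact q4
  · exact q5
  · exact q6

theorem ag_case (hset : IsThreeTranspositionSet D) (hconj : ∀ g : G, ∀ d ∈ D, g * d * g⁻¹ ∈ D)
    {a b c b' c' : D} (hTb : T (TL D) a b b') (hTc : T (TL D) a c c')
    (h1 : ¬ Commute (b : G) (c : G)) (h2 : ¬ Commute (b : G) (c' : G))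
    (h3 : ¬ Commute (b' : G) (c : G)) :
    Isomorphic (restrict (TL D) (span (TL D) ({a, b, b'} ∪ {a, c, c'}))) affinePlaneThree := by
  have gb := TG_of_T hset hconj hTb
  have gc := TG_of_T hset hconj hTc
  have eb' : (b' : G) = cj (a : G) (b : G) := by
    rw [gb.2.2.2]; exact (braid hset a.2 b.2 gb.2.2.1).symm
  have ec' : (c' : G) = cj (a : G) (c : G) := by
    rw [gc.2.2.2]; exact (braid hset a.2 c.2 gc.2.2.1).symm
  rw [ec'] at h2
  rw [eb'] at h3
  have K := ag_key hset hconj a.2 b.2 c.2 gb.2.2.1 gc.2.2.1 h1 h2 h3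
  have hmem : ∀ u : V3, ptv (a : G) b c u ∈ D := fun u => (K u _ (v3_ne u)).1
  obtain ⟨P, hP⟩ : ∃ P : V3 → D, ∀ u, (P u : G) = ptv (a : G) b c u :=
    ⟨fun u => ⟨_, hmem u⟩, fun u => rfl⟩
  have hPinj : Function.Injective P := by
    intro u v huv
    by_contra hne
    have := (K u v hne).2.2.1
    apply this
    rw [← hP, ← hP, huv]
  have hT : ∀ u v w : V3, T (TL D) (P u) (P v) (P w) ↔ T affinePlaneThree u v w := by
    intro u v w
    rw [T_iff_TG hset hconj, ag_T_iff, hP, hP, hP]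
    constructor
    · rintro ⟨_, _, hnc, hw⟩
      have huv : u ≠ v := by
        rintro rfl
        exact hnc (Commute.refl _)
      have hw' : w = -u - v := by
        apply hPinj
        apply Subtype.ext
        rw [hP, hP, hw]
        exact (K u v huv).2.2.2.symm
      rw [hw']
      exact ag_fact_ne u v huv
    · intro hR
      have hw' := ag_fact_third u v w hR
      rw [hw']
      exact K u v hR.2.2.1
  have hcl : ∀ (u v : V3) (x : D), T (TL D) (P u) (P v) x → x ∈ Set.range P := by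
    intro u v x hx
    have hg := TG_of_T hset hconj hx
    rw [hP, hP] at hg
    have huv : u ≠ v := by
      rintro rfl
      exact hg.2.2.1 (Commute.refl _)
    refine ⟨-u - v, Subtype.ext ?_⟩
    rw [hP, hg.2.2.2]
    exact (K u v huv).2.2.2
  have e00 : P ![0, 0] = a := Subtype.ext (by rw [hP]; rfl)
  have e10 : P ![1, 0] = b := Subtype.ext (by rw [hP]; rfl)
  have e01 : P ![0, 1] = c := Subtype.ext (by rw [hP]; rfl)
  have e20 : P ![2, 0] = b' := Subtype.ext (by rw [hP, eb']; rfl)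
  have e02 : P ![0, 2] = c' := Subtype.ext (by rw [hP, ec']; rfl)
  have h1' : ({a, b, b'} ∪ {a, c, c'} : Set D) ⊆ Set.range P := by
    rintro x (hx | hx) <;> simp only [Set.mem_insert_iff, Set.mem_singleton_iff] at hx
    · rcases hx with rfl | rfl | rfl
      · exact ⟨_, e00⟩
      · exact ⟨_, e10⟩
      · exact ⟨_, e20⟩
    · rcases hx with rfl | rfl | rfl
      · exact ⟨_, e00⟩
      · exact ⟨_, e01⟩
      · exact ⟨_, e02⟩
  have h2' : Set.range P ⊆ span (TL D) ({a, b, b'} ∪ {a, c, c'}) := by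
    have hstep : ∀ u v w : V3, P u ∈ span (TL D) ({a, b, b'} ∪ {a, c, c'}) →
        P v ∈ span (TL D) ({a, b, b'} ∪ {a, c, c'}) → R₃ u v w →
        P w ∈ span (TL D) ({a, b, b'} ∪ {a, c, c'}) := by
      intro u v w hu hv hR
      have hT3 : T (TL D) (P u) (P v) (P w) := by rw [hT, ag_T_iff]; exact hR
      exact mem_of_T (isSubspace_span _) hu hv hT3
    have s00 : P ![0, 0] ∈ span (TL D) ({a, b, b'} ∪ {a, c, c'}) := by
      rw [e00]; exact subset_span _ (by simp)
    have s10 : P ![1, 0] ∈ span (TL D) ({a, b, b'} ∪ {a, c, c'}) := by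
      rw [e10]; exact subset_span _ (by simp)
    have s20 : P ![2, 0] ∈ span (TL D) ({a, b, b'} ∪ {a, c, c'}) := by
      rw [e20]; exact subset_span _ (by simp)
    have s01 : P ![0, 1] ∈ span (TL D) ({a, b, b'} ∪ {a, c, c'}) := by
      rw [e01]; exact subset_span _ (by simp)
    have s02 : P ![0, 2] ∈ span (TL D) ({a, b, b'} ∪ {a, c, c'}) := by
      rw [e02]; exact subset_span _ (by simp)
    rintro _ ⟨u, rfl⟩
    rcases v3_cases u with rfl | rfl | rfl | rfl | rfl | rfl | rfl | rfl | rfl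
    · exact s00
    · exact s10
    · exact s20
    · exact s01
    · exact s02
    · exact hstep ![1, 0] ![0, 1] _ s10 s01 (by decide)
    · exact hstep ![2, 0] ![0, 2] _ s20 s02 (by decide)
    · exact hstep ![2, 0] ![0, 1] _ s20 s01 (by decide)
    · exact hstep ![1, 0] ![0, 2] _ s10 s02 (by decide)
  exact assemble (TL_three hconj) ag_linesAreT P hPinj _ h1' h2' hT hcl

end Cfsg.Agent.Lib.Helper31.Fischer
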