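import Mathlib

set_option autoImplicit false

namespace Cfsg.Agent.Lib.Helper31.GM

/-- Additive independence lemma: three "twisted fixed point" subgroups are independent. -/
theorem indep_add {A : Type*} [AddCommGroup A] (γ Y : A →+ A) (hcomm : ∀ u, γ (Y u) = Y (γ u))
    (h1 : ∀ u, Y u = u → u = 0) (h2 : ∀ u, Y (Y u) = u → u = 0)
    {u0 u1 u2 : A} (e0 : γ u0 = u0) (e1 : γ (Y u1) = u1) (e2 : γ (Y (Y u2)) = u2)
    (hsum : u0 + u1 + u2 = 0) : u0 = 0 ∧ u1 = 0 ∧ u2 = 0 := by
  have hu2 : u2 = -(u0 + u1) := by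
    have : u2 = (u0 + u1 + u2) - (u0 + u1) := by abel
    rw [this, hsum, zero_sub]
  -- (1') YY u0 + Y u1 = u0 + u1
  have E1 : Y (Y u0) + Y u1 = u0 + u1 := by
    have h := e2
    rw [hu2] at h
    simp only [map_neg, map_add, neg_inj] at h
    rw [hcomm (Y u0), hcomm u0, e0, hcomm (Y u1), e1] at h
    exact h
  have ht : Y (Y u0 + u0 + u1) = Y u0 + u0 + u1 := by
    calc Y (Y u0 + u0 + u1) = (Y (Y u0) + Y u1) + Y u0 := by simp only [map_add]; abel
      _ = (u0 + u1) + Y u0 := by rw [E1]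
      _ = Y u0 + u0 + u1 := by abel
  have E2 : Y u0 + u0 + u1 = 0 := h1 _ ht
  have E3 : Y (Y u0) + Y u0 + u1 = 0 := by
    have h := congrArg (fun w => γ (Y w)) E2
    simp only [map_add, map_zero] at h
    rw [hcomm (Y u0), hcomm u0, e0, e1] at h
    exact h
  have E4 : Y (Y u0) = u0 := by
    have : Y (Y u0) - u0 = (Y (Y u0) + Y u0 + u1) - (Y u0 + u0 + u1) := by abel
    rw [E3, E2, sub_zero] at this
    exact sub_eq_zero.mp this
  have hu0 : u0 = 0 := h2 _ E4
  have hu1 : u1 = 0 := by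
    rw [hu0] at E2
    simpa using E2
  refine ⟨hu0, hu1, ?_⟩
  rw [hu2, hu0, hu1]; simp

/-- Multiplicative version in a commutative group. -/
theorem indep_comm {M : Type*} [CommGroup M] (γ Y : M →* M) (hcomm : ∀ u, γ (Y u) = Y (γ u))
    (h1 : ∀ u, Y u = u → u = 1) (h2 : ∀ u, Y (Y u) = u → u = 1)
    {u0 u1 u2 : M} (e0 : γ u0 = u0) (e1 : γ (Y u1) = u1) (e2 : γ (Y (Y u2)) = u2)
    (hprod : u0 * u1 * u2 = 1) : u0 = 1 ∧ u1 = 1 ∧ u2 = 1 := by
  have h := indep_add (A := Additive M) (MonoidHom.toAdditive γ) (MonoidHom.toAdditive Y)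
    (fun u => congrArg Additive.ofMul (hcomm (Additive.toMul u)))
    (fun u hu => congrArg Additive.ofMul (h1 (Additive.toMul u) (congrArg Additive.toMul hu)))
    (fun u hu => congrArg Additive.ofMul (h2 (Additive.toMul u) (congrArg Additive.toMul hu)))
    (u0 := Additive.ofMul u0) (u1 := Additive.ofMul u1) (u2 := Additive.ofMul u2)
    (congrArg Additive.ofMul e0) (congrArg Additive.ofMul e1) (congrArg Additive.ofMul e2)
    (congrArg Additive.ofMul hprod)
  exact ⟨congrArg Additive.toMul h.1, congrArg Additive.toMul h.2.1, congrArg Additive.toMul h.2.2⟩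

/-- three independent subgroups of a finite commutative group -/
theorem card_prod_le {M : Type*} [CommGroup M] [Finite M] (U0 U1 U2 : Subgroup M)
    (hind : ∀ u0 ∈ U0, ∀ u1 ∈ U1, ∀ u2 ∈ U2, u0 * u1 * u2 = 1 → u0 = 1 ∧ u1 = 1 ∧ u2 = 1) :
    Nat.card U0 * Nat.card U1 * Nat.card U2 ≤ Nat.card M := by
  have hinj : Function.Injective (fun t : (U0 × U1) × U2 => ((t.1.1 : M) * (t.1.2 : M) * (t.2 : M))) := by
    rintro ⟨⟨u0, u1⟩, u2⟩ ⟨⟨v0, v1⟩, v2⟩ h
    simp only at h
    have h1 : ((u0 : M) / v0) * ((u1 : M) / v1) * ((u2 : M) / v2) = 1 := by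
      rw [div_mul_div_comm, div_mul_div_comm, h, div_self']
    obtain ⟨a0, a1, a2⟩ := hind _ (U0.div_mem u0.2 v0.2) _ (U1.div_mem u1.2 v1.2) _
      (U2.div_mem u2.2 v2.2) h1
    have b0 : u0 = v0 := Subtype.ext (div_eq_one.mp a0)
    have b1 : u1 = v1 := Subtype.ext (div_eq_one.mp a1)
    have b2 : u2 = v2 := Subtype.ext (div_eq_one.mp a2)
    rw [b0, b1, b2]
  have := Nat.card_le_card_of_injective _ hinj
  rwa [Nat.card_prod, Nat.card_prod] at this

section grp
variable {G : Type*} [Group G]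

/-- group-level independence of `C_N(c)`, `C_N(cy)`, `C_N(cy²)` for abelian normal `N`. -/
theorem indep_mul (N : Subgroup G) [hNn : N.Normal] (hNab : ∀ u ∈ N, ∀ v ∈ N, u * v = v * u)
    (c y : G) (hcy : c * y = y * c)
    (hy1 : ∀ u ∈ N, y * u = u * y → u = 1) (hy2 : ∀ u ∈ N, (y * y) * u = u * (y * y) → u = 1)
    {u0 u1 u2 : G} (h0 : u0 ∈ N) (h1 : u1 ∈ N) (h2 : u2 ∈ N)
    (e0 : c * u0 = u0 * c) (e1 : (c * y) * u1 = u1 * (c * y))
    (e2 : (c * y * y) * u2 = u2 * (c * y * y))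
    (hprod : u0 * u1 * u2 = 1) : u0 = 1 ∧ u1 = 1 ∧ u2 = 1 := by
  let instC : CommGroup ↥N :=
    { (inferInstance : Group ↥N) with mul_comm := fun a b => Subtype.ext (hNab a a.2 b b.2) }
  let conj : G → (↥N →* ↥N) := fun g =>
    MonoidHom.mk' (fun u => ⟨g * u * g⁻¹, hNn.conj_mem u u.2 g⟩) (by
      intro a b
      apply Subtype.ext
      show g * ((a : G) * (b : G)) * g⁻¹ = (g * a * g⁻¹) * (g * b * g⁻¹)
      group)
  have hconj : ∀ g (u : ↥N), ((conj g u : ↥N) : G) = g * u * g⁻¹ := fun g u => rfl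
  have key := indep_comm (M := ↥N) (conj c) (conj y)
    (by
      intro u
      apply Subtype.ext
      rw [hconj, hconj, hconj, hconj]
      have : c * (y * (u : G) * y⁻¹) * c⁻¹ = (c * y) * u * (c * y)⁻¹ := by group
      rw [this, hcy]; group)
    (by
      intro u hu
      have h := congrArg Subtype.val hu
      rw [hconj] at h
      have h' : y * (u : G) = u * y := by
        calc y * (u : G) = (y * u * y⁻¹) * y := by group
          _ = u * y := by rw [h]
      exact Subtype.ext (hy1 u u.2 h'))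
    (by
      intro u hu
      have h := congrArg Subtype.val hu
      rw [hconj, hconj] at h
      have h' : (y * y) * (u : G) = u * (y * y) := by
        have : y * (y * (u : G) * y⁻¹) * y⁻¹ = (y * y) * u * (y * y)⁻¹ := by group
        rw [this] at h
        calc (y * y) * (u : G) = ((y * y) * u * (y * y)⁻¹) * (y * y) := by group
          _ = u * (y * y) := by rw [h]
      exact Subtype.ext (hy2 u u.2 h'))
    (u0 := ⟨u0, h0⟩) (u1 := ⟨u1, h1⟩) (u2 := ⟨u2, h2⟩)
    (by
      apply Subtype.ext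
      rw [hconj]
      show c * u0 * c⁻¹ = u0
      rw [e0]; group)
    (by
      apply Subtype.ext
      rw [hconj, hconj]
      show c * (y * u1 * y⁻¹) * c⁻¹ = u1
      have : c * (y * u1 * y⁻¹) * c⁻¹ = ((c * y) * u1) * (c * y)⁻¹ := by group
      rw [this, e1]; group)
    (by
      apply Subtype.ext
      rw [hconj, hconj, hconj]
      show c * (y * (y * u2 * y⁻¹) * y⁻¹) * c⁻¹ = u2
      have : c * (y * (y * u2 * y⁻¹) * y⁻¹) * c⁻¹ = ((c * y * y) * u2) * (c * y * y)⁻¹ := by group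
      rw [this, e2]; group)
    (by
      apply Subtype.ext
      show u0 * u1 * u2 = 1
      exact hprod)
  exact ⟨congrArg Subtype.val key.1, congrArg Subtype.val key.2.1, congrArg Subtype.val key.2.2⟩

/-- The counting consequence: `|C_N(c)|^3 ≤ |N|`. -/
theorem card_cube_le [Finite G] (N : Subgroup G) [hNn : N.Normal]
    (hNab : ∀ u ∈ N, ∀ v ∈ N, u * v = v * u)
    (a c y : G) (hac : a * c * a⁻¹ = c * y) (hay : a * y = y * a) (hcy : c * y = y * c)
    (hy1 : ∀ u ∈ N, y * u = u * y → u = 1) (hy2 : ∀ u ∈ N, (y * y) * u = u * (y * y) → u = 1) :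
    Nat.card ↥(N ⊓ Subgroup.centralizer {c}) ^ 3 ≤ Nat.card N := by
  let instC : CommGroup ↥N :=
    { (inferInstance : Group ↥N) with mul_comm := fun a b => Subtype.ext (hNab a a.2 b b.2) }
  let U : G → Subgroup ↥N := fun g => (Subgroup.centralizer {g}).subgroupOf N
  have hmemU : ∀ g (u : ↥N), u ∈ U g ↔ g * (u : G) = u * g := by
    intro g u
    show u ∈ (Subgroup.centralizer {g}).subgroupOf N ↔ _
    rw [Subgroup.mem_subgroupOf, Subgroup.mem_centralizer_iff]
    simp
  have hcard0 : Nat.card ↥(N ⊓ Subgroup.centralizer {c}) = Nat.card (U c) := by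
    have e := Subgroup.subgroupOfEquivOfLe (inf_le_left : N ⊓ Subgroup.centralizer {c} ≤ N)
    rw [← Nat.card_congr e.toEquiv, Subgroup.inf_subgroupOf_left]
  have hconj1 : ∀ u : G, c * u = u * c → (c * y) * (a * u * a⁻¹) = (a * u * a⁻¹) * (c * y) := by
    intro u hu
    rw [← hac]
    calc a * c * a⁻¹ * (a * u * a⁻¹) = a * (c * u) * a⁻¹ := by group
      _ = a * (u * c) * a⁻¹ := by rw [hu]
      _ = a * u * a⁻¹ * (a * c * a⁻¹) := by group
  have haa : (a * a) * c * (a * a)⁻¹ = c * y * y := by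
    calc (a * a) * c * (a * a)⁻¹ = a * (a * c * a⁻¹) * a⁻¹ := by group
      _ = a * (c * y) * a⁻¹ := by rw [hac]
      _ = (a * c * a⁻¹) * (a * y) * a⁻¹ := by group
      _ = (c * y) * (y * a) * a⁻¹ := by rw [hac, hay]
      _ = c * y * y := by group
  have hconj2 : ∀ u : G, c * u = u * c →
      (c * y * y) * ((a * a) * u * (a * a)⁻¹) = ((a * a) * u * (a * a)⁻¹) * (c * y * y) := by
    intro u hu
    rw [← haa]
    calc (a * a) * c * (a * a)⁻¹ * ((a * a) * u * (a * a)⁻¹) = (a * a) * (c * u) * (a * a)⁻¹ := by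
          group
      _ = (a * a) * (u * c) * (a * a)⁻¹ := by rw [hu]
      _ = (a * a) * u * (a * a)⁻¹ * ((a * a) * c * (a * a)⁻¹) := by group
  have hle1 : Nat.card (U c) ≤ Nat.card (U (c * y)) := by
    refine Nat.card_le_card_of_injective
      (fun u : U c => (⟨⟨a * (u : ↥N) * a⁻¹, hNn.conj_mem _ (u : ↥N).2 a⟩, ?_⟩ : U (c * y))) ?_
    · rw [hmemU]
      exact hconj1 _ ((hmemU c u).mp u.2)
    · intro u v h
      have h1 := congrArg (fun w : U (c * y) => ((w : ↥N) : G)) h
      simp only at h1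
      apply Subtype.ext; apply Subtype.ext
      exact mul_left_cancel (mul_right_cancel h1)
  have hle2 : Nat.card (U c) ≤ Nat.card (U (c * y * y)) := by
    refine Nat.card_le_card_of_injective
      (fun u : U c => (⟨⟨(a * a) * (u : ↥N) * (a * a)⁻¹, hNn.conj_mem _ (u : ↥N).2 (a * a)⟩, ?_⟩ :
        U (c * y * y))) ?_
    · rw [hmemU]
      exact hconj2 _ ((hmemU c u).mp u.2)
    · intro u v h
      have h1 := congrArg (fun w : U (c * y * y) => ((w : ↥N) : G)) h
      simp only at h1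
      apply Subtype.ext; apply Subtype.ext
      exact mul_left_cancel (mul_right_cancel h1)
  have hprod := card_prod_le (M := ↥N) (U c) (U (c * y)) (U (c * y * y)) (by
    intro u0 hu0 u1 hu1 u2 hu2 h
    have key := indep_mul N hNab c y hcy hy1 hy2 u0.2 u1.2 u2.2
      ((hmemU c u0).mp hu0) ((hmemU _ u1).mp hu1) ((hmemU _ u2).mp hu2)
      (congrArg Subtype.val h)
    exact ⟨Subtype.ext key.1, Subtype.ext key.2.1, Subtype.ext key.2.2⟩)
  rw [hcard0]
  calc Nat.card (U c) ^ 3 = Nat.card (U c) * Nat.card (U c) * Nat.card (U c) := by ring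
    _ ≤ Nat.card (U c) * Nat.card (U (c * y)) * Nat.card (U (c * y * y)) := by
        apply Nat.mul_le_mul (Nat.mul_le_mul le_rfl hle1) hle2
    _ ≤ Nat.card ↥N := hprod

theorem mem_cent_singleton' {z g : G} : g ∈ Subgroup.centralizer ({z} : Set G) ↔ z * g = g * z := by
  rw [Subgroup.mem_centralizer_iff]
  constructor
  · intro h; exact h z rfl
  · intro h y hy
    rw [Set.mem_singleton_iff] at hy
    subst hy
    exact h

theorem comm_of_conj_mem (N P : Subgroup G) [hNn : N.Normal] (hdisj : N ⊓ P = ⊥) {m t : G}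
    (hm : m ∈ N) (ht : t ∈ P) (h : m * t * m⁻¹ ∈ P) : m * t = t * m := by
  have h1 : m * t * m⁻¹ * t⁻¹ ∈ N ⊓ P := by
    refine ⟨?_, P.mul_mem h (P.inv_mem ht)⟩
    have : m * t * m⁻¹ * t⁻¹ = m * (t * m⁻¹ * t⁻¹) := by group
    rw [this]
    exact N.mul_mem hm (hNn.conj_mem _ (N.inv_mem hm) t)
  rw [hdisj, Subgroup.mem_bot] at h1
  calc m * t = (m * t * m⁻¹ * t⁻¹) * (t * m) := by group
    _ = t * m := by rw [h1, one_mul]

theorem exists_factor [Finite G] {p : ℕ} [Fact p.Prime] (P : Sylow p G) (N : Subgroup G)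
    [hNn : N.Normal] (hN : (Nat.card N).Coprime p) (hNP : N ⊔ (P : Subgroup G) = ⊤) {c d x : G}
    (hc : c ∈ (P : Subgroup G)) (hd : d ∈ (P : Subgroup G)) (hx : x ∈ N)
    (h : IsPGroup p ↥(Subgroup.closure ({x * c * x⁻¹, d} : Set G))) :
    ∃ v ∈ N, ∃ u ∈ N, v * d = d * v ∧ u * c = c * u ∧ x = v * u := by
  have hdisj : N ⊓ (P : Subgroup G) = ⊥ := by
    apply (Subgroup.disjoint_of_coprime_natCard _).eq_bot
    obtain ⟨k, hk⟩ := IsPGroup.iff_card.mp P.isPGroup'
    rw [hk]
    exact Nat.Coprime.pow_right k hN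
  obtain ⟨S, hS⟩ := h.exists_le_sylow
  obtain ⟨g, hg⟩ := MulAction.exists_smul_eq G P S
  have hgtop : g ∈ N ⊔ (P : Subgroup G) := by rw [hNP]; trivial
  obtain ⟨n, hn, t, ht, rfl⟩ : ∃ n ∈ N, ∃ t ∈ (P : Subgroup G), n * t = g := by
    have h1 : g ∈ ((N ⊔ (P : Subgroup G) : Subgroup G) : Set G) := hgtop
    rw [Subgroup.normal_mul] at h1
    exact Set.mem_mul.mp h1
  have hmem : ∀ s ∈ (S : Subgroup G), n⁻¹ * s * n ∈ (P : Subgroup G) := by
    intro s hs
    rw [← hg, Sylow.coe_subgroup_smul, Subgroup.mem_pointwise_smul_iff_inv_smul_mem] at hs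
    have h2 : (MulAut.conj (n * t))⁻¹ • s = (n * t)⁻¹ * s * (n * t) := by
      rw [← map_inv, MulAut.smul_def, MulAut.conj_apply, inv_inv]
    rw [h2] at hs
    have h3 : n⁻¹ * s * n = t * ((n * t)⁻¹ * s * (n * t)) * t⁻¹ := by group
    rw [h3]
    exact (P : Subgroup G).mul_mem ((P : Subgroup G).mul_mem ht hs) ((P : Subgroup G).inv_mem ht)
  have hxc : x * c * x⁻¹ ∈ (S : Subgroup G) := hS (Subgroup.subset_closure (by simp))
  have hdS : d ∈ (S : Subgroup G) := hS (Subgroup.subset_closure (by simp))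
  have h1 := hmem _ hxc
  have h2 := hmem _ hdS
  have hnx : n⁻¹ * x ∈ N := N.mul_mem (N.inv_mem hn) hx
  have e1 : (n⁻¹ * x) * c = c * (n⁻¹ * x) := by
    apply comm_of_conj_mem N (P : Subgroup G) hdisj hnx hc
    have : n⁻¹ * x * c * (n⁻¹ * x)⁻¹ = n⁻¹ * (x * c * x⁻¹) * n := by group
    rw [this]; exact h1
  have e2 : n⁻¹ * d = d * n⁻¹ := by
    apply comm_of_conj_mem N (P : Subgroup G) hdisj (N.inv_mem hn) hd
    rw [inv_inv]; exact h2
  refine ⟨n, hn, n⁻¹ * x, hnx, ?_, e1, by group⟩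
  calc n * d = n * (d * n⁻¹) * n := by group
    _ = n * (n⁻¹ * d) * n := by rw [e2]
    _ = d * n := by group

theorem card_le_mul [Finite G] (N : Subgroup G) (c d : G)
    (hH : ∀ x ∈ N, ∃ v ∈ N, ∃ u ∈ N, v * d = d * v ∧ u * c = c * u ∧ x = v * u) :
    Nat.card N ≤ Nat.card ↥(N ⊓ Subgroup.centralizer {d}) * Nat.card ↥(N ⊓ Subgroup.centralizer {c}) := by
  rw [← Nat.card_prod]
  apply Nat.card_le_card_of_surjective
    (fun t : ↥(N ⊓ Subgroup.centralizer {d}) × ↥(N ⊓ Subgroup.centralizer {c}) =>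
      (⟨(t.1 : G) * (t.2 : G), N.mul_mem t.1.2.1 t.2.2.1⟩ : ↥N))
  rintro ⟨x, hx⟩
  obtain ⟨v, hv, u, hu, e1, e2, rfl⟩ := hH x hx
  refine ⟨(⟨v, hv, mem_cent_singleton'.mpr e1.symm⟩, ⟨u, hu, mem_cent_singleton'.mpr e2.symm⟩), rfl⟩

theorem exists_second_center {Q : Type*} [Group Q] [Finite Q] {p : ℕ} [Fact p.Prime]
    (hQ : IsPGroup p Q) (hna : ∃ s t : Q, s * t ≠ t * s) :
    ∃ a : Q, a ∉ Subgroup.center Q ∧ ∀ g : Q, a * g * a⁻¹ * g⁻¹ ∈ Subgroup.center Q := by
  obtain ⟨s, t, hst⟩ := hna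
  have hs : s ∉ Subgroup.center Q := by
    intro h
    exact hst ((Subgroup.mem_center_iff.mp h t).symm)
  have hnt : Nontrivial (Q ⧸ Subgroup.center Q) := by
    refine ⟨⟨(s : Q ⧸ Subgroup.center Q), 1, ?_⟩⟩
    intro h
    exact hs ((QuotientGroup.eq_one_iff s).mp h)
  have hQ' : IsPGroup p (Q ⧸ Subgroup.center Q) := hQ.to_quotient _
  have hc := hQ'.center_nontrivial
  obtain ⟨⟨abar, habar⟩, hne⟩ := exists_ne (1 : Subgroup.center (Q ⧸ Subgroup.center Q))
  obtain ⟨a, rfl⟩ := QuotientGroup.mk_surjective abar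
  refine ⟨a, ?_, ?_⟩
  · intro h
    apply hne
    apply Subtype.ext
    exact (QuotientGroup.eq_one_iff a).mpr h
  · intro g
    rw [← QuotientGroup.eq_one_iff]
    have h1 := Subgroup.mem_center_iff.mp habar (g : Q ⧸ Subgroup.center Q)
    simp only [QuotientGroup.mk_mul, QuotientGroup.mk_inv]
    rw [← h1]
    group

/-- a subgroup invariant under `N` and `P` with `N ⊔ P = ⊤` is normal (finite case) -/
theorem normal_of_invariant [Finite G] (N P K : Subgroup G) (hNP : N ⊔ P = ⊤)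
    (hN : ∀ n ∈ N, ∀ k ∈ K, n * k * n⁻¹ ∈ K) (hP : ∀ t ∈ P, ∀ k ∈ K, t * k * t⁻¹ ∈ K) :
    K.Normal := by
  have hmem : ∀ g : G, (∀ k ∈ K, g * k * g⁻¹ ∈ K) → g ∈ Subgroup.normalizer (K : Set G) := by
    intro g hg
    rw [Subgroup.mem_normalizer_iff]
    intro h
    constructor
    · exact hg h
    · intro hh
      have hinj : Function.Injective (fun k : K => (⟨g * k * g⁻¹, hg k k.2⟩ : K)) := by
        intro k1 k2 h12
        have := congrArg Subtype.val h12
        simp only at this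
        exact Subtype.ext (mul_left_cancel (mul_right_cancel this))
      obtain ⟨k, hk⟩ := Finite.surjective_of_injective hinj ⟨g * h * g⁻¹, hh⟩
      have := congrArg Subtype.val hk
      simp only at this
      have e : (k : G) = h := mul_left_cancel (mul_right_cancel this)
      rw [← e]; exact k.2
  rw [← Subgroup.normalizer_eq_top_iff, eq_top_iff, ← hNP]
  exact sup_le (fun n hn => hmem n (hN n hn)) (fun t ht => hmem t (hP t ht))

/-- The terminal configuration: `N` abelian minimal normal, `P` faithful. -/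
theorem terminal [Finite G] {p : ℕ} [Fact p.Prime] (hp3 : 3 ≤ p) (P : Sylow p G) (N : Subgroup G)
    [hNn : N.Normal] (hN : (Nat.card N).Coprime p) (hNP : N ⊔ (P : Subgroup G) = ⊤)
    (C D : Set G) (hC : Subgroup.closure C = (P : Subgroup G))
    (hD : Subgroup.closure D = (P : Subgroup G))
    (h : ∀ x ∈ N, ∀ c ∈ C, ∀ d ∈ D, IsPGroup p ↥(Subgroup.closure ({x * c * x⁻¹, d} : Set G)))
    (hNab : ∀ u ∈ N, ∀ v ∈ N, u * v = v * u)
    (hmin : ∀ M : Subgroup G, M.Normal → M ≤ N → M = ⊥ ∨ M = N)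
    (hfaith : ∀ g ∈ (P : Subgroup G), (∀ n ∈ N, g * n = n * g) → g = 1) :
    ∀ g ∈ (P : Subgroup G), ∀ n ∈ N, g * n = n * g := by
  have hCP : C ⊆ (P : Subgroup G) := by rw [← hC]; exact Subgroup.subset_closure
  have hDP : D ⊆ (P : Subgroup G) := by rw [← hD]; exact Subgroup.subset_closure
  have hcent : ∀ y ∈ (P : Subgroup G), (∀ t ∈ (P : Subgroup G), t * y = y * t) → y ≠ 1 →
      ∀ u ∈ N, y * u = u * y → u = 1 := by
    intro y hyP hyc hy1 u hu huy
    have hKn : (N ⊓ Subgroup.centralizer {y}).Normal := by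
      apply normal_of_invariant N (P : Subgroup G) _ hNP
      · intro n hn k hk
        have : n * k * n⁻¹ = k := by rw [hNab n hn k hk.1]; group
        rw [this]; exact hk
      · intro t ht k hk
        refine Subgroup.mem_inf.mpr ⟨hNn.conj_mem k hk.1 t, ?_⟩
        rw [mem_cent_singleton']
        have hk2 := mem_cent_singleton'.mp (Subgroup.mem_inf.mp hk).2
        have hty := hyc t ht
        calc y * (t * k * t⁻¹) = (y * t) * k * t⁻¹ := by group
          _ = (t * y) * k * t⁻¹ := by rw [hty]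
          _ = t * (y * k) * t⁻¹ := by group
          _ = t * (k * y) * t⁻¹ := by rw [hk2]
          _ = t * k * (y * t⁻¹) := by group
          _ = t * k * (t⁻¹ * y) := by
              have : y * t⁻¹ = t⁻¹ * y := by
                calc y * t⁻¹ = t⁻¹ * (t * y) * t⁻¹ := by group
                  _ = t⁻¹ * (y * t) * t⁻¹ := by rw [hty]
                  _ = t⁻¹ * y := by group
              rw [this]
          _ = t * k * t⁻¹ * y := by group
    rcases hmin _ hKn inf_le_left with hK | hK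
    · have : u ∈ N ⊓ Subgroup.centralizer {y} := ⟨hu, mem_cent_singleton'.mpr huy⟩
      rw [hK, Subgroup.mem_bot] at this
      exact this
    · exfalso
      apply hy1
      apply hfaith y hyP
      intro n hn
      have : n ∈ N ⊓ Subgroup.centralizer {y} := by rw [hK]; exact hn
      exact mem_cent_singleton'.mp this.2
  have hfac : ∀ c ∈ C, ∀ d ∈ D, ∀ x ∈ N, ∃ v ∈ N, ∃ u ∈ N, v * d = d * v ∧ u * c = c * u ∧ x = v * u :=
    fun c hc d hd x hx => exists_factor P N hN hNP (hCP hc) (hDP hd) hx (h x hx c hc d hd)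
  have hbot_of : N = ⊥ → ∀ g ∈ (P : Subgroup G), ∀ n ∈ N, g * n = n * g := by
    intro hb g _ n hn
    rw [hb, Subgroup.mem_bot] at hn
    subst hn; simp
  have hPbot_of : ∀ E : Set G, Subgroup.closure E = (P : Subgroup G) → (∀ e ∈ E, e = 1) →
      ∀ g ∈ (P : Subgroup G), ∀ n ∈ N, g * n = n * g := by
    intro E hE hE1 g hg n _
    have : (P : Subgroup G) = ⊥ := by
      rw [← hE, Subgroup.closure_eq_bot_iff]
      intro e he
      exact hE1 e he
    rw [this, Subgroup.mem_bot] at hg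
    subst hg; simp
  by_cases hab : ∀ s ∈ (P : Subgroup G), ∀ t ∈ (P : Subgroup G), s * t = t * s
  · by_cases hC1 : ∀ c ∈ C, c = 1
    · exact hPbot_of C hC hC1
    by_cases hD1 : ∀ d ∈ D, d = 1
    · exact hPbot_of D hD hD1
    push Not at hC1 hD1
    obtain ⟨c, hcC, hc1⟩ := hC1
    obtain ⟨d, hdD, hd1⟩ := hD1
    apply hbot_of
    rw [Subgroup.eq_bot_iff_forall]
    intro x hx
    obtain ⟨v, hv, u, hu, e1, e2, rfl⟩ := hfac c hcC d hdD x hx
    have hv1 : v = 1 := hcent d (hDP hdD) (fun t ht => hab t ht d (hDP hdD)) hd1 v hv e1.symm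
    have hu1 : u = 1 := hcent c (hCP hcC) (fun t ht => hab t ht c (hCP hcC)) hc1 u hu e2.symm
    rw [hv1, hu1, one_mul]
  · push Not at hab
    obtain ⟨s, hs, t, ht, hst⟩ := hab
    obtain ⟨a, ha1, ha2⟩ := exists_second_center (Q := ↥(P : Subgroup G)) P.isPGroup'
      ⟨⟨s, hs⟩, ⟨t, ht⟩, fun h => hst (congrArg Subtype.val h)⟩
    have hgen : ∀ E : Set G, Subgroup.closure E = (P : Subgroup G) →
        ∃ e ∈ E, (a : G) * e * (a : G)⁻¹ * e⁻¹ ≠ 1 := by
      intro E hE
      by_contra hcon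
      push Not at hcon
      apply ha1
      rw [Subgroup.mem_center_iff]
      intro g
      have hle : ∀ g' ∈ (P : Subgroup G), g' ∈ Subgroup.centralizer {(a : G)} := by
        intro g' hg'
        have hg'' : g' ∈ Subgroup.closure E := by rw [hE]; exact hg'
        refine (Subgroup.closure_le _).mpr ?_ hg''
        intro e he
        rw [SetLike.mem_coe, mem_cent_singleton']
        have h1 := hcon e he
        calc (a : G) * e = ((a : G) * e * (a : G)⁻¹ * e⁻¹) * (e * a) := by group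
          _ = e * a := by rw [h1, one_mul]
      have h2 := mem_cent_singleton'.mp (hle g g.2)
      exact Subtype.ext h2.symm
    have hbound : ∀ e ∈ (P : Subgroup G), (a : G) * e * (a : G)⁻¹ * e⁻¹ ≠ 1 →
        Nat.card ↥(N ⊓ Subgroup.centralizer {e}) ^ 3 ≤ Nat.card N := by
      intro e he hne
      have hyc0 := ha2 ⟨e, he⟩
      have hyP : (a : G) * e * (a : G)⁻¹ * e⁻¹ ∈ (P : Subgroup G) :=
        (P : Subgroup G).mul_mem ((P : Subgroup G).mul_mem ((P : Subgroup G).mul_mem a.2 he)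
          ((P : Subgroup G).inv_mem a.2)) ((P : Subgroup G).inv_mem he)
      have hyc : ∀ t ∈ (P : Subgroup G), t * ((a : G) * e * (a : G)⁻¹ * e⁻¹) =
          ((a : G) * e * (a : G)⁻¹ * e⁻¹) * t := by
        intro t ht
        have := Subgroup.mem_center_iff.mp hyc0 ⟨t, ht⟩
        exact congrArg Subtype.val this
      generalize hy : (a : G) * e * (a : G)⁻¹ * e⁻¹ = y at hne hyP hyc
      have hyy1 : y * y ≠ 1 := by
        intro h2
        obtain ⟨k, hk⟩ := P.isPGroup' ⟨y, hyP⟩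
        have hk' : y ^ (p ^ k) = 1 := by simpa using congrArg Subtype.val hk
        have h22 : y ^ 2 = 1 := by rw [pow_two]; exact h2
        have h3 := pow_gcd_eq_one.mpr ⟨h22, hk'⟩
        have hg : Nat.gcd 2 (p ^ k) = 1 := by
          apply Nat.Coprime.pow_right
          exact (Nat.coprime_primes Nat.prime_two Fact.out).mpr (by omega)
        rw [hg, pow_one] at h3
        exact hne h3
      have hey : e * y = y * e := hyc e he
      apply card_cube_le N hNab (a : G) e y
      · calc (a : G) * e * (a : G)⁻¹ = ((a : G) * e * (a : G)⁻¹ * e⁻¹) * e := by group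
          _ = y * e := by rw [hy]
          _ = e * y := hey.symm
      · exact hyc a a.2
      · exact hey
      · exact hcent y hyP hyc hne
      · apply hcent (y * y) ((P : Subgroup G).mul_mem hyP hyP) _ hyy1
        intro t ht
        have h1 := hyc t ht
        calc t * (y * y) = (t * y) * y := by group
          _ = (y * t) * y := by rw [h1]
          _ = y * (t * y) := by group
          _ = y * (y * t) := by rw [h1]
          _ = y * y * t := by group
    obtain ⟨c, hcC, hc⟩ := hgen C hC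
    obtain ⟨d, hdD, hd⟩ := hgen D hD
    have b1 := hbound c (hCP hcC) hc
    have b2 := hbound d (hDP hdD) hd
    have b3 := card_le_mul N c d (hfac c hcC d hdD)
    apply hbot_of
    rw [← Subgroup.card_eq_one]
    have hpos : 0 < Nat.card N := Nat.card_pos
    generalize Nat.card ↥N = n at *
    generalize Nat.card ↥(N ⊓ Subgroup.centralizer {d}) = A at *
    generalize Nat.card ↥(N ⊓ Subgroup.centralizer {c}) = B at *
    have h3 : n ^ 3 ≤ n ^ 2 := by
      calc n ^ 3 ≤ (A * B) ^ 3 := Nat.pow_le_pow_left b3 3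
        _ = A ^ 3 * B ^ 3 := by ring
        _ ≤ n * n := Nat.mul_le_mul b2 b1
        _ = n ^ 2 := by ring
    by_contra hne1
    have h2 : 2 ≤ n := by omega
    have h4 : 2 * n ^ 2 ≤ n ^ 3 := by
      calc 2 * n ^ 2 ≤ n * n ^ 2 := Nat.mul_le_mul_right _ h2
        _ = n ^ 3 := by ring
    have h5 : 0 < n ^ 2 := by positivity
    omega

end grp

end Cfsg.Agent.Lib.Helper31.GM
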