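import Mathlib
import Cfsg.Agent.Lib.Helper31.GM
import Cfsg.Agent.S0023
import Cfsg.Agent.S0027
import Cfsg.Agent.Lib.Helper62.Subnormal

set_option autoImplicit false

namespace Cfsg.Agent.Lib.Helper31.GM

universe u

/-- the hypothesis package of the Guralnick–Malle lemma -/
def Hyp (p : ℕ) {G : Type*} [Group G] (P : Sylow p G) (N : Subgroup G) (C D : Set G) : Prop :=
  N.Normal ∧ (Nat.card N).Coprime p ∧ N ⊔ (P : Subgroup G) = ⊤ ∧
  Subgroup.closure C = (P : Subgroup G) ∧ Subgroup.closure D = (P : Subgroup G) ∧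
  ∀ x ∈ N, ∀ c ∈ C, ∀ d ∈ D, IsPGroup p ↥(Subgroup.closure ({x * c * x⁻¹, d} : Set G))

theorem hyp_map {G G' : Type*} [Group G] [Group G'] [Finite G] {p : ℕ} [Fact p.Prime]
    (f : G →* G') (hf : Function.Surjective f) {P : Sylow p G} {N : Subgroup G} {C D : Set G}
    (H : Hyp p P N C D) : Hyp p (P.mapSurjective hf) (N.map f) (f '' C) (f '' D) := by
  obtain ⟨hNn, hcop, hNP, hC, hD, h⟩ := H
  refine ⟨hNn.map f hf, ?_, ?_, ?_, ?_, ?_⟩
  · exact Nat.Coprime.coprime_dvd_left (Subgroup.card_map_dvd N f) hcop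
  · rw [Sylow.coe_mapSurjective, ← Subgroup.map_sup, hNP, Subgroup.map_top_of_surjective f hf]
  · rw [Sylow.coe_mapSurjective, ← hC, MonoidHom.map_closure]
  · rw [Sylow.coe_mapSurjective, ← hD, MonoidHom.map_closure]
  · rintro _ ⟨x, hx, rfl⟩ _ ⟨c, hc, rfl⟩ _ ⟨d, hd, rfl⟩
    have h1 := (h x hx c hc d hd).map f
    rw [MonoidHom.map_closure, Set.image_pair, map_mul, map_mul, map_inv] at h1
    exact h1

theorem card_map_lt {G G' : Type*} [Group G] [Group G'] [Finite G] (f : G →* G') (H : Subgroup G)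
    (h : ∃ m ∈ H, m ≠ 1 ∧ f m = 1) : Nat.card (H.map f) < Nat.card H := by
  obtain ⟨m, hm, hm1, hfm⟩ := h
  have hsurj : Function.Surjective (f.subgroupMap H) := f.subgroupMap_surjective H
  have hle : Nat.card (H.map f) ≤ Nat.card H := Nat.card_le_card_of_surjective _ hsurj
  rcases lt_or_eq_of_le hle with hlt | heq
  · exact hlt
  · exfalso
    have hbij := (Nat.bijective_iff_surjective_and_card (f.subgroupMap H)).mpr ⟨hsurj, heq.symm⟩
    have h1 : f.subgroupMap H ⟨m, hm⟩ = f.subgroupMap H 1 := by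
      apply Subtype.ext
      simp [hfm]
    have := hbij.1 h1
    exact hm1 (congrArg Subtype.val this)

theorem card_map_le {G G' : Type*} [Group G] [Group G'] [Finite G] (f : G →* G') (H : Subgroup G) :
    Nat.card (H.map f) ≤ Nat.card H :=
  Nat.card_le_card_of_surjective _ (f.subgroupMap_surjective H)

theorem closure_preimage_subtype {G : Type*} [Group G] (L : Subgroup G) (C : Set G)
    (hCL : C ⊆ (L : Set G)) :
    Subgroup.closure (L.subtype ⁻¹' C) = (Subgroup.closure C).subgroupOf L := by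
  apply Subgroup.map_injective L.subtype_injective
  rw [MonoidHom.map_closure, Set.image_preimage_eq_inter_range, Subgroup.subgroupOf_map_subtype]
  have h1 : C ∩ Set.range L.subtype = C := by
    rw [Subgroup.coe_subtype, Subtype.range_coe]
    exact Set.inter_eq_left.mpr hCL
  rw [h1]
  exact (inf_of_le_left ((Subgroup.closure_le L).mpr hCL)).symm

theorem hyp_sub {G : Type*} [Group G] [Finite G] {p : ℕ} [Fact p.Prime] {P : Sylow p G}
    {N : Subgroup G} {C D : Set G} (H : Hyp p P N C D) (R : Subgroup G) (hRN : R ≤ N)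
    (hPR : (P : Subgroup G) ≤ Subgroup.normalizer (R : Set G)) :
    Hyp p (P.subtype (le_sup_right : (P : Subgroup G) ≤ R ⊔ (P : Subgroup G)))
      (R.subgroupOf (R ⊔ (P : Subgroup G)))
      ((R ⊔ (P : Subgroup G)).subtype ⁻¹' C) ((R ⊔ (P : Subgroup G)).subtype ⁻¹' D) := by
  obtain ⟨hNn, hcop, hNP, hC, hD, h⟩ := H
  have hCL : C ⊆ ((R ⊔ (P : Subgroup G) : Subgroup G) : Set G) := by
    intro c hc
    have : c ∈ (P : Subgroup G) := by rw [← hC]; exact Subgroup.subset_closure hc
    exact (le_sup_right : (P : Subgroup G) ≤ R ⊔ (P : Subgroup G)) this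
  have hDL : D ⊆ ((R ⊔ (P : Subgroup G) : Subgroup G) : Set G) := by
    intro c hc
    have : c ∈ (P : Subgroup G) := by rw [← hD]; exact Subgroup.subset_closure hc
    exact (le_sup_right : (P : Subgroup G) ≤ R ⊔ (P : Subgroup G)) this
  refine ⟨?_, ?_, ?_, ?_, ?_, ?_⟩
  · exact (Subgroup.normal_subgroupOf_iff_le_normalizer le_sup_left).mpr
      (sup_le Subgroup.le_normalizer hPR)
  · have e := Subgroup.subgroupOfEquivOfLe (le_sup_left : R ≤ R ⊔ (P : Subgroup G))
    rw [Nat.card_congr e.toEquiv]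
    exact Nat.Coprime.coprime_dvd_left (Subgroup.card_dvd_of_le hRN) hcop
  · rw [Sylow.coe_subtype, ← Subgroup.subgroupOf_sup le_sup_left le_sup_right,
      Subgroup.subgroupOf_self]
  · rw [Sylow.coe_subtype, closure_preimage_subtype _ _ hCL, hC]
  · rw [Sylow.coe_subtype, closure_preimage_subtype _ _ hDL, hD]
  · intro x hx c hc d hd
    have h0 := h (x : G) (hRN (Subgroup.mem_subgroupOf.mp hx)) (c : G) hc (d : G) hd
    have e : (Subgroup.closure ({x * c * x⁻¹, d} : Set ↥(R ⊔ (P : Subgroup G)))).map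
        (R ⊔ (P : Subgroup G)).subtype =
        Subgroup.closure ({(x : G) * (c : G) * (x : G)⁻¹, (d : G)} : Set G) := by
      rw [MonoidHom.map_closure, Set.image_pair]
      simp
    rw [← e] at h0
    exact h0.of_equiv (Subgroup.equivMapOfInjective _ _ (Subgroup.subtype_injective _)).symm

theorem card_lt_of_lt' {G : Type*} [Group G] [Finite G] {R N : Subgroup G} (hRN : R ≤ N) (hne : R ≠ N) :
    Nat.card R < Nat.card N := by
  rcases lt_or_eq_of_le (Subgroup.card_le_of_le hRN) with h | h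
  · exact h
  · exact absurd (Subgroup.eq_of_le_of_card_ge hRN h.ge) hne

open scoped commutatorElement in
theorem main_aux (p : ℕ) [Fact p.Prime] (hp3 : 3 ≤ p) : ∀ (k : ℕ) (G : Type u) [Group G] [Finite G]
    (P : Sylow p G) (N : Subgroup G) (C D : Set G),
    Nat.card N + Nat.card (P : Subgroup G) = k →
    Hyp p P N C D → ∀ g ∈ (P : Subgroup G), ∀ n ∈ N, g * n = n * g := by
  intro k
  induction k using Nat.strong_induction_on with
  | _ k ih =>
  intro G _ _ P N C D hk H
  obtain ⟨hNn, hcop, hNP, hC, hD, h⟩ := id H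
  -- quotient step
  have hQ : ∀ M : Subgroup G, M.Normal →
      (∃ m ∈ M, m ≠ 1 ∧ (m ∈ N ∨ m ∈ (P : Subgroup G))) →
      ∀ g ∈ (P : Subgroup G), ∀ n ∈ N, g * n * g⁻¹ * n⁻¹ ∈ M := by
    intro M hMn hm g hg n hn
    obtain ⟨m, hmM, hm1, hm⟩ := hm
    have hf := QuotientGroup.mk'_surjective M
    have H' := hyp_map (QuotientGroup.mk' M) hf H
    have hlt : Nat.card (N.map (QuotientGroup.mk' M)) +
        Nat.card ((P.mapSurjective hf : Sylow p (G ⧸ M)) : Subgroup (G ⧸ M)) < k := by
      rw [← hk, Sylow.coe_mapSurjective]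
      have hfm : QuotientGroup.mk' M m = 1 := (QuotientGroup.eq_one_iff m).mpr hmM
      rcases hm with hmN | hmP
      · exact add_lt_add_of_lt_of_le (card_map_lt _ N ⟨m, hmN, hm1, hfm⟩) (card_map_le _ _)
      · exact add_lt_add_of_le_of_lt (card_map_le _ _) (card_map_lt _ _ ⟨m, hmP, hm1, hfm⟩)
    have hc := ih _ hlt (G ⧸ M) (P.mapSurjective hf) (N.map (QuotientGroup.mk' M)) _ _ rfl H'
      (QuotientGroup.mk' M g)
      (by rw [Sylow.coe_mapSurjective]; exact Subgroup.mem_map_of_mem _ hg)
      (QuotientGroup.mk' M n) (Subgroup.mem_map_of_mem _ hn)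
    rw [← QuotientGroup.eq_one_iff]
    have e : ((g * n * g⁻¹ * n⁻¹ : G) : G ⧸ M) =
        QuotientGroup.mk' M g * QuotientGroup.mk' M n * (QuotientGroup.mk' M g)⁻¹ *
          (QuotientGroup.mk' M n)⁻¹ := by
      simp
    rw [e, hc]
    group
  -- subgroup step
  have hS : ∀ R : Subgroup G, R ≤ N → (P : Subgroup G) ≤ Subgroup.normalizer (R : Set G) → R ≠ N →
      ∀ g ∈ (P : Subgroup G), ∀ r ∈ R, g * r = r * g := by
    intro R hRN hPR hne g hg r hr
    have H' := hyp_sub H R hRN hPR
    have hlt : Nat.card (R.subgroupOf (R ⊔ (P : Subgroup G))) +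
        Nat.card ((P.subtype (le_sup_right : (P : Subgroup G) ≤ R ⊔ (P : Subgroup G)) :
          Sylow p ↥(R ⊔ (P : Subgroup G))) : Subgroup ↥(R ⊔ (P : Subgroup G))) < k := by
      rw [← hk, Sylow.coe_subtype]
      have e1 := Subgroup.subgroupOfEquivOfLe (le_sup_left : R ≤ R ⊔ (P : Subgroup G))
      have e2 := Subgroup.subgroupOfEquivOfLe (le_sup_right : (P : Subgroup G) ≤ R ⊔ (P : Subgroup G))
      rw [Nat.card_congr e1.toEquiv, Nat.card_congr e2.toEquiv]
      exact Nat.add_lt_add_right (card_lt_of_lt' hRN hne) _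
    have hc := ih _ hlt ↥(R ⊔ (P : Subgroup G)) (P.subtype le_sup_right)
      (R.subgroupOf (R ⊔ (P : Subgroup G))) _ _ rfl H'
      ⟨g, (le_sup_right : (P : Subgroup G) ≤ R ⊔ (P : Subgroup G)) hg⟩
      (by rw [Sylow.coe_subtype, Subgroup.mem_subgroupOf]; exact hg)
      ⟨r, (le_sup_left : R ≤ R ⊔ (P : Subgroup G)) hr⟩
      (by rw [Subgroup.mem_subgroupOf]; exact hr)
    exact congrArg Subtype.val hc
  by_contra hnot
  have hdisj : N ⊓ (P : Subgroup G) = ⊥ := by
    apply (Subgroup.disjoint_of_coprime_natCard _).eq_bot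
    obtain ⟨j, hj⟩ := IsPGroup.iff_card.mp P.isPGroup'
    rw [hj]
    exact Nat.Coprime.pow_right j hcop
  have hconcl_of_comm : ⁅N, (P : Subgroup G)⁆ = ⊥ →
      ∀ g ∈ (P : Subgroup G), ∀ n ∈ N, g * n = n * g := by
    intro hb g hg n hn
    have h1 := Subgroup.commutator_eq_bot_iff_le_centralizer.mp hb hn
    rw [Subgroup.mem_centralizer_iff] at h1
    exact h1 g hg
  have hPsolv : Group.IsSolvable (P : Subgroup G) := by
    have : Group.IsNilpotent (P : Subgroup G) := P.isPGroup'.isNilpotent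
    infer_instance
  have hcopPN : (Nat.card (P : Subgroup G)).Coprime (Nat.card N) := by
    obtain ⟨j, hj⟩ := IsPGroup.iff_card.mp P.isPGroup'
    rw [hj]
    exact (Nat.Coprime.pow_right j hcop).symm
  have hPnormN : (P : Subgroup G) ≤ Subgroup.normalizer (N : Set G) := by
    rw [Subgroup.normalizer_eq_top]; exact le_top
  have h27 := Cfsg.Agent.S0027.result (P : Subgroup G) N hPnormN hcopPN (Or.inl hPsolv)
  -- minimality
  have hmin : ∀ M : Subgroup G, M.Normal → M ≤ N → M = ⊥ ∨ M = N := by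
    intro M hMn hMN
    by_contra hcon
    push Not at hcon
    obtain ⟨hMb, hMN'⟩ := hcon
    apply hnot
    apply hconcl_of_comm
    obtain ⟨m, hm1⟩ := (Subgroup.ne_bot_iff_exists_ne_one).mp hMb
    have hq := hQ M hMn ⟨(m : G), m.2, fun h => hm1 (Subtype.ext h), Or.inl (hMN m.2)⟩
    have hPM : (P : Subgroup G) ≤ Subgroup.normalizer (M : Set G) := by
      rw [Subgroup.normalizer_eq_top]; exact le_top
    have hs := hS M hMN hPM hMN'
    have h1 : ⁅N, (P : Subgroup G)⁆ ≤ M := by
      rw [Subgroup.commutator_le]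
      intro n hn g hg
      have h2 := hq g hg n hn
      have e : ⁅n, g⁆ = (g * n * g⁻¹ * n⁻¹)⁻¹ := by rw [commutatorElement_def]; group
      rw [e]
      exact M.inv_mem h2
    have h2 : ⁅M, (P : Subgroup G)⁆ = ⊥ := by
      rw [Subgroup.commutator_eq_bot_iff_le_centralizer]
      intro m' hm'
      rw [Subgroup.mem_centralizer_iff]
      intro g hg
      exact hs g hg m' hm'
    rw [← h27]
    have h3 := Subgroup.commutator_mono h1 (le_refl (P : Subgroup G))
    rw [h2] at h3
    exact le_bot_iff.mp h3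
  -- N is an r-group, hence abelian by minimality
  have hNab : ∀ u ∈ N, ∀ v ∈ N, u * v = v * u := by
    have hex : ∃ r : ℕ, r.Prime ∧ IsPGroup r N := by
      by_contra hno
      apply hnot
      have hT : ((Subgroup.centralizer ((P : Subgroup G) : Set G)).subgroupOf N) = ⊤ := by
        apply Cfsg.Agent.Lib.Helper62.eq_top_of_forall_sylow_le
        intro r hr
        obtain ⟨Rr, hRr⟩ := Cfsg.Agent.S0023.result (P : Subgroup G) N hPnormN hcopPN
          (Or.inl hPsolv) r
        refine ⟨Rr, ?_⟩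
        have hne : (Rr : Subgroup N).map N.subtype ≠ N := by
          intro heq
          apply hno
          refine ⟨r, hr.out, ?_⟩
          have htop : (Rr : Subgroup N) = ⊤ := by
            apply Subgroup.map_injective N.subtype_injective
            rw [heq, ← MonoidHom.range_eq_map, Subgroup.range_subtype]
          have h1 := Rr.isPGroup'
          rw [htop] at h1
          exact h1.of_equiv Subgroup.topEquiv
        have hs := hS _ (Subgroup.map_subtype_le _) hRr hne
        intro x hx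
        rw [Subgroup.mem_subgroupOf, Subgroup.mem_centralizer_iff]
        intro g hg
        exact hs g hg x (Subgroup.mem_map_of_mem _ hx)
      intro g hg n hn
      have h1 : (⟨n, hn⟩ : N) ∈ (Subgroup.centralizer ((P : Subgroup G) : Set G)).subgroupOf N := by
        rw [hT]; trivial
      rw [Subgroup.mem_subgroupOf, Subgroup.mem_centralizer_iff] at h1
      exact h1 g hg
    obtain ⟨r, hr, hNr⟩ := hex
    have : Fact r.Prime := ⟨hr⟩
    have hNnt : Nontrivial N := by
      by_contra hnn
      rw [not_nontrivial_iff_subsingleton] at hnn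
      apply hnot
      intro g _ n hn
      have : (⟨n, hn⟩ : N) = 1 := Subsingleton.elim _ _
      have hn1 : n = 1 := congrArg Subtype.val this
      rw [hn1]; simp
    have hcen := hNr.center_nontrivial
    obtain ⟨⟨z, hz⟩, hz1⟩ := exists_ne (1 : Subgroup.center N)
    have hZn : (N ⊓ Subgroup.centralizer (N : Set G)).Normal := inferInstance
    rcases hmin _ hZn inf_le_left with hb | ht
    · exfalso
      apply hz1
      have h1 : (z : G) ∈ N ⊓ Subgroup.centralizer (N : Set G) := by
        refine Subgroup.mem_inf.mpr ⟨z.2, ?_⟩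
        rw [Subgroup.mem_centralizer_iff]
        intro v hv
        have := Subgroup.mem_center_iff.mp hz ⟨v, hv⟩
        exact congrArg Subtype.val this
      rw [hb, Subgroup.mem_bot] at h1
      apply Subtype.ext; apply Subtype.ext
      exact h1
    · intro u hu v hv
      have h1 : u ∈ N ⊓ Subgroup.centralizer (N : Set G) := by rw [ht]; exact hu
      exact ((Subgroup.mem_centralizer_iff.mp h1.2) v hv).symm
  -- faithfulness
  have hfaith : ∀ g ∈ (P : Subgroup G), (∀ n ∈ N, g * n = n * g) → g = 1 := by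
    intro g hg hgc
    by_contra hg1
    apply hnot
    have hKn : ((P : Subgroup G) ⊓ Subgroup.centralizer (N : Set G)).Normal := by
      apply normal_of_invariant N (P : Subgroup G) _ hNP
      · intro n hn k hk
        have h1 := Subgroup.mem_centralizer_iff.mp hk.2 n hn
        have : n * k * n⁻¹ = k := by rw [h1]; group
        rw [this]; exact hk
      · intro t ht k hk
        refine Subgroup.mem_inf.mpr ⟨(P : Subgroup G).mul_mem ((P : Subgroup G).mul_mem ht hk.1)
          ((P : Subgroup G).inv_mem ht), ?_⟩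
        exact (inferInstance : (Subgroup.centralizer (N : Set G)).Normal).conj_mem k hk.2 t
    have hq := hQ _ hKn ⟨g, ⟨hg, Subgroup.mem_centralizer_iff.mpr (fun n hn => (hgc n hn).symm)⟩,
      hg1, Or.inr hg⟩
    intro g' hg' n hn
    have h1 := hq g' hg' n hn
    have h2 : g' * n * g'⁻¹ * n⁻¹ ∈ N := N.mul_mem (hNn.conj_mem n hn g') (N.inv_mem hn)
    have h3 : g' * n * g'⁻¹ * n⁻¹ ∈ N ⊓ (P : Subgroup G) := ⟨h2, h1.1⟩
    rw [hdisj, Subgroup.mem_bot] at h3
    calc g' * n = (g' * n * g'⁻¹ * n⁻¹) * (n * g') := by group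
      _ = n * g' := by rw [h3, one_mul]
  exact hnot (terminal hp3 P N hcop hNP C D hC hD h hNab hmin hfaith)

end Cfsg.Agent.Lib.Helper31.GM
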