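import Cfsg.Agent.Lib.Helper31.O8ModData
import Cfsg.Agent.Lib.Helper30.O8.L5Data

/-! # S2098, part (M): the conjugation relators `L5.srels4` hold in the permutation model (helper31) -/

set_option autoImplicit false
set_option maxRecDepth 1000000
set_option maxHeartbeats 0
set_option Elab.async false

namespace Cfsg.Agent.Lib.Helper30.O8.Mod

open Cfsg.Agent.Lib.Helper93.BigPerm Cfsg.Agent.Lib.Helper89.TableChain2
open Cfsg.Agent.Lib.Helper89.CosetCert Cfsg.Agent.Lib.Helper89.SafePres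

theorem o8mod_c5_4_0 : chkR Md (Cfsg.Agent.Lib.Helper30.O8.L5.srels4.map SRel.word) 0 10 = true := by decide +kernel

theorem o8mod_c5_4_1 : chkR Md (Cfsg.Agent.Lib.Helper30.O8.L5.srels4.map SRel.word) 10 10 = true := by decide +kernel

theorem o8mod_c5_4_2 : chkR Md (Cfsg.Agent.Lib.Helper30.O8.L5.srels4.map SRel.word) 20 10 = true := by decide +kernel

theorem o8mod_c5_4_3 : chkR Md (Cfsg.Agent.Lib.Helper30.O8.L5.srels4.map SRel.word) 30 10 = true := by decide +kernel

theorem o8mod_c5_4_4 : chkR Md (Cfsg.Agent.Lib.Helper30.O8.L5.srels4.map SRel.word) 40 10 = true := by decide +kernel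

theorem o8mod_c5_4_5 : chkR Md (Cfsg.Agent.Lib.Helper30.O8.L5.srels4.map SRel.word) 50 10 = true := by decide +kernel

theorem o8mod_c5_4_6 : chkR Md (Cfsg.Agent.Lib.Helper30.O8.L5.srels4.map SRel.word) 60 10 = true := by decide +kernel

theorem o8mod_c5_4_7 : chkR Md (Cfsg.Agent.Lib.Helper30.O8.L5.srels4.map SRel.word) 70 10 = true := by decide +kernel

theorem o8mod_c5_4_8 : chkR Md (Cfsg.Agent.Lib.Helper30.O8.L5.srels4.map SRel.word) 80 10 = true := by decide +kernel

theorem o8mod_c5_4_9 : chkR Md (Cfsg.Agent.Lib.Helper30.O8.L5.srels4.map SRel.word) 90 10 = true := by decide +kernel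

theorem validL5_4 : ∀ r ∈ (Cfsg.Agent.Lib.Helper30.O8.L5.srels4.map SRel.word), ev (Model.gm Md_ok) r = 1 := by
  refine Model.forall_mem_of_getD (Cfsg.Agent.Lib.Helper30.O8.L5.srels4.map SRel.word) [] (fun r => ev (Model.gm Md_ok) r = 1) 100 (by rfl) ?_
  intro j hj
  apply Model.ev_one_of_chk1 Md_ok
  refine o8mod_of_chunks Md (Cfsg.Agent.Lib.Helper30.O8.L5.srels4.map SRel.word) 10 10 (by norm_num) ?_ j (by omega)
  intro q hq
  interval_cases q
  · exact o8mod_c5_4_0
  · exact o8mod_c5_4_1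
  · exact o8mod_c5_4_2
  · exact o8mod_c5_4_3
  · exact o8mod_c5_4_4
  · exact o8mod_c5_4_5
  · exact o8mod_c5_4_6
  · exact o8mod_c5_4_7
  · exact o8mod_c5_4_8
  · exact o8mod_c5_4_9

end Cfsg.Agent.Lib.Helper30.O8.Mod
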