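import Cfsg.Agent.Lib.Helper31.O8ModV2_0
import Cfsg.Agent.Lib.Helper31.O8ModV3_0
import Cfsg.Agent.Lib.Helper31.O8ModV3_1
import Cfsg.Agent.Lib.Helper31.O8ModV4_0
import Cfsg.Agent.Lib.Helper31.O8ModV4_1
import Cfsg.Agent.Lib.Helper31.O8ModV4_2
import Cfsg.Agent.Lib.Helper31.O8ModV4_3
import Cfsg.Agent.Lib.Helper31.O8ModV4_4
import Cfsg.Agent.Lib.Helper31.O8ModV5_0
import Cfsg.Agent.Lib.Helper31.O8ModV5_1
import Cfsg.Agent.Lib.Helper31.O8ModV5_2
import Cfsg.Agent.Lib.Helper31.O8ModV5_3
import Cfsg.Agent.Lib.Helper31.O8ModV5_4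
import Cfsg.Agent.Lib.Helper31.O8ModV5_5
import Cfsg.Agent.Lib.Helper31.O8ModV5_6
import Cfsg.Agent.Lib.Helper31.O8ModV5_7
import Cfsg.Agent.Lib.Helper31.O8ModV5_8
import Cfsg.Agent.Lib.Helper31.O8ModV5_9
import Cfsg.Agent.Lib.Helper30.O8.Rels
import Cfsg.Agent.Lib.Helper30.O8.L2Rels
import Cfsg.Agent.Lib.Helper30.O8.L3Rels
import Cfsg.Agent.Lib.Helper30.O8.L4Rels
import Cfsg.Agent.Lib.Helper30.O8.L5Rels

/-!
# S2098, part (M): a permutation model of the covering group `2^2.O8+(2)` (helper31 for helper30)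

`gm i` (`i < 7`) are permutations of `Fin 480` of order dividing `7` satisfying all the safe relators `srelsAll`;
the words `wza`, `wzb` evaluate to central involutions generating a four-group
(`wza` moves the point `240` and fixes `0..239`, `wzb` moves `0` and fixes `240..479`).
-/

set_option autoImplicit false
set_option maxRecDepth 1000000
set_option maxHeartbeats 0
set_option Elab.async false

namespace Cfsg.Agent.Lib.Helper30.O8.Mod

open Cfsg.Agent.Lib.Helper93.BigPerm Cfsg.Agent.Lib.Helper89.TableChain2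
open Cfsg.Agent.Lib.Helper89.CosetCert Cfsg.Agent.Lib.Helper89.SafePres
open Cfsg.Agent.Lib.Helper30.O8

/-- the generators of the model -/
noncomputable def gm (i : ℕ) : Equiv.Perm (Fin 480) := Model.gm Md_ok i

theorem gm_eq_one (i : ℕ) (h : 7 ≤ i) : gm i = 1 := by
  unfold gm Model.gm Model.perm
  rw [dif_neg (by show ¬ 2 * i < 2 * 7; omega)]
  rfl

theorem o8mod_pow0 : Md.chk (powWord 7 0) 0 480 = true := by decide +kernel

theorem o8mod_pow1 : Md.chk (powWord 7 1) 0 480 = true := by decide +kernel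

theorem o8mod_pow2 : Md.chk (powWord 7 2) 0 480 = true := by decide +kernel

theorem o8mod_pow3 : Md.chk (powWord 7 3) 0 480 = true := by decide +kernel

theorem o8mod_pow4 : Md.chk (powWord 7 4) 0 480 = true := by decide +kernel

theorem o8mod_pow5 : Md.chk (powWord 7 5) 0 480 = true := by decide +kernel

theorem o8mod_pow6 : Md.chk (powWord 7 6) 0 480 = true := by decide +kernel

theorem gm_pow (i : ℕ) : gm i ^ 7 = 1 := by
  by_cases h : i < 7
  · interval_cases i
    · exact Model.gm_pow' Md_ok 0 7 o8mod_pow0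
    · exact Model.gm_pow' Md_ok 1 7 o8mod_pow1
    · exact Model.gm_pow' Md_ok 2 7 o8mod_pow2
    · exact Model.gm_pow' Md_ok 3 7 o8mod_pow3
    · exact Model.gm_pow' Md_ok 4 7 o8mod_pow4
    · exact Model.gm_pow' Md_ok 5 7 o8mod_pow5
    · exact Model.gm_pow' Md_ok 6 7 o8mod_pow6
  · rw [gm_eq_one i (by omega), one_pow]

theorem hvalidM : ∀ r ∈ srelsAll, ev gm r.word = 1 := by
  intro r hr
  unfold srelsAll at hr
  rw [List.mem_append, List.mem_append, List.mem_append] at hr
  rcases hr with ((h | h) | h) | h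
  · exact validL2_0 _ (List.mem_map_of_mem (L2.mem_srels h))
  · rcases L3.mem_srels h with h | h
    · exact validL3_0 _ (List.mem_map_of_mem h)
    · exact validL3_1 _ (List.mem_map_of_mem h)
  · rcases L4.mem_srels h with h | h | h | h | h
    · exact validL4_0 _ (List.mem_map_of_mem h)
    · exact validL4_1 _ (List.mem_map_of_mem h)
    · exact validL4_2 _ (List.mem_map_of_mem h)
    · exact validL4_3 _ (List.mem_map_of_mem h)
    · exact validL4_4 _ (List.mem_map_of_mem h)
  · rcases L5.mem_srels h with h | h | h | h | h | h | h | h | h | h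
    · exact validL5_0 _ (List.mem_map_of_mem h)
    · exact validL5_1 _ (List.mem_map_of_mem h)
    · exact validL5_2 _ (List.mem_map_of_mem h)
    · exact validL5_3 _ (List.mem_map_of_mem h)
    · exact validL5_4 _ (List.mem_map_of_mem h)
    · exact validL5_5 _ (List.mem_map_of_mem h)
    · exact validL5_6 _ (List.mem_map_of_mem h)
    · exact validL5_7 _ (List.mem_map_of_mem h)
    · exact validL5_8 _ (List.mem_map_of_mem h)
    · exact validL5_9 _ (List.mem_map_of_mem h)

/-- `n` copies of a word -/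
def o8mod_wrep (n : ℕ) (w : Word) : Word := (List.replicate n w).flatten

theorem o8mod_ev_wrep {L : Type*} [Group L] (t : ℕ → L) (n : ℕ) (w : Word) :
    ev t (o8mod_wrep n w) = ev t w ^ n := by
  unfold o8mod_wrep
  induction n with
  | zero => simp
  | succ n ih => rw [List.replicate_succ, List.flatten_cons, ev_append, ih, pow_succ']

/-- the relator expressing that the word `w` commutes with the generator `i` -/
def o8mod_centRelW (w : Word) (i : ℕ) : Word := 2 * i :: (w ++ (2 * i + 1) :: winv w)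

theorem o8mod_comm_of_relW {L : Type*} [Group L] (t : ℕ → L) (w : Word) (i : ℕ)
    (hv : ev t (o8mod_centRelW w i) = 1) : t i * ev t w = ev t w * t i := by
  unfold o8mod_centRelW at hv
  rw [ev_cons, ev_append, ev_cons, ev_winv, lv_two_mul, lv_two_mul_add_one] at hv
  have h2 : t i * ev t w = (t i * (ev t w * ((t i)⁻¹ * (ev t w)⁻¹))) * (ev t w * t i) := by
    group
  rw [h2, hv, one_mul]

theorem o8mod_cent_wza_0 : Md.chk (o8mod_centRelW wza 0) 0 480 = true := by decide +kernel

theorem o8mod_cent_wza_1 : Md.chk (o8mod_centRelW wza 1) 0 480 = true := by decide +kernel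

theorem o8mod_cent_wza_2 : Md.chk (o8mod_centRelW wza 2) 0 480 = true := by decide +kernel

theorem o8mod_cent_wza_3 : Md.chk (o8mod_centRelW wza 3) 0 480 = true := by decide +kernel

theorem o8mod_cent_wza_4 : Md.chk (o8mod_centRelW wza 4) 0 480 = true := by decide +kernel

theorem o8mod_cent_wza_5 : Md.chk (o8mod_centRelW wza 5) 0 480 = true := by decide +kernel

theorem o8mod_cent_wza_6 : Md.chk (o8mod_centRelW wza 6) 0 480 = true := by decide +kernel

theorem za_comm (i : ℕ) (h : i < 7) : gm i * ev gm wza = ev gm wza * gm i := by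
  apply o8mod_comm_of_relW
  interval_cases i
  · exact Model.ev_one_of_chk1 Md_ok _ o8mod_cent_wza_0
  · exact Model.ev_one_of_chk1 Md_ok _ o8mod_cent_wza_1
  · exact Model.ev_one_of_chk1 Md_ok _ o8mod_cent_wza_2
  · exact Model.ev_one_of_chk1 Md_ok _ o8mod_cent_wza_3
  · exact Model.ev_one_of_chk1 Md_ok _ o8mod_cent_wza_4
  · exact Model.ev_one_of_chk1 Md_ok _ o8mod_cent_wza_5
  · exact Model.ev_one_of_chk1 Md_ok _ o8mod_cent_wza_6

theorem o8mod_sq_wza : Md.chk (o8mod_wrep 2 wza) 0 480 = true := by decide +kernel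

theorem za_sq : ev gm wza ^ 2 = 1 := by
  have := Model.ev_one_of_chk1 Md_ok (o8mod_wrep 2 wza) o8mod_sq_wza
  rwa [o8mod_ev_wrep] at this

theorem o8mod_cent_wzb_0 : Md.chk (o8mod_centRelW wzb 0) 0 480 = true := by decide +kernel

theorem o8mod_cent_wzb_1 : Md.chk (o8mod_centRelW wzb 1) 0 480 = true := by decide +kernel

theorem o8mod_cent_wzb_2 : Md.chk (o8mod_centRelW wzb 2) 0 480 = true := by decide +kernel

theorem o8mod_cent_wzb_3 : Md.chk (o8mod_centRelW wzb 3) 0 480 = true := by decide +kernel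

theorem o8mod_cent_wzb_4 : Md.chk (o8mod_centRelW wzb 4) 0 480 = true := by decide +kernel

theorem o8mod_cent_wzb_5 : Md.chk (o8mod_centRelW wzb 5) 0 480 = true := by decide +kernel

theorem o8mod_cent_wzb_6 : Md.chk (o8mod_centRelW wzb 6) 0 480 = true := by decide +kernel

theorem zb_comm (i : ℕ) (h : i < 7) : gm i * ev gm wzb = ev gm wzb * gm i := by
  apply o8mod_comm_of_relW
  interval_cases i
  · exact Model.ev_one_of_chk1 Md_ok _ o8mod_cent_wzb_0
  · exact Model.ev_one_of_chk1 Md_ok _ o8mod_cent_wzb_1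
  · exact Model.ev_one_of_chk1 Md_ok _ o8mod_cent_wzb_2
  · exact Model.ev_one_of_chk1 Md_ok _ o8mod_cent_wzb_3
  · exact Model.ev_one_of_chk1 Md_ok _ o8mod_cent_wzb_4
  · exact Model.ev_one_of_chk1 Md_ok _ o8mod_cent_wzb_5
  · exact Model.ev_one_of_chk1 Md_ok _ o8mod_cent_wzb_6

theorem o8mod_sq_wzb : Md.chk (o8mod_wrep 2 wzb) 0 480 = true := by decide +kernel

theorem zb_sq : ev gm wzb ^ 2 = 1 := by
  have := Model.ev_one_of_chk1 Md_ok (o8mod_wrep 2 wzb) o8mod_sq_wzb
  rwa [o8mod_ev_wrep] at this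

theorem za_ne : ev gm wza ≠ 1 :=
  Model.ev_ne_one Md_ok wza (by decide) 240 (by decide) (by decide +kernel)

theorem zb_ne : ev gm wzb ≠ 1 :=
  Model.ev_ne_one Md_ok wzb (by decide) 0 (by decide) (by decide +kernel)

theorem zab_ne : ev gm wza * ev gm wzb ≠ 1 := by
  rw [← ev_append]
  exact Model.ev_ne_one Md_ok (wza ++ wzb) (by decide) 0 (by decide) (by decide +kernel)

end Cfsg.Agent.Lib.Helper30.O8.Mod
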