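import Mathlib
import Cfsg.Prelude.Def_LieExceptional

/-! # S2549 hive (helper41), leaf OmBN-PPOW (helper31): `|B : B ∩ N|` is a power of `p` -/

set_option autoImplicit false

namespace Cfsg.Agent.Lib.Helper41.OmBN

open scoped Pointwise

/-- generic version: if `B = U T` with `U` a `p`-group normalised by `B`, then `|B : T|` is a power of `p` -/
theorem ppow_core {G : Type*} [Group G] [Finite G] (B T : Subgroup G) (p : ℕ) [Fact p.Prime]
    (U : Subgroup G) (hUB : U ≤ B) (hUp : IsPGroup p U)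
    (hUn : B ≤ Subgroup.normalizer (U : Set G)) (hUH : U ⊔ T = B) :
    ∃ e : ℕ, (T.subgroupOf B).index = p ^ e := by
  have hTB : T ≤ B := hUH ▸ le_sup_right
  have hnorm : (U.subgroupOf B).Normal :=
    (Subgroup.normal_subgroupOf_iff_le_normalizer hUB).2 hUn
  have hp' : IsPGroup p (U.subgroupOf B) := hUp.comap_subtype
  have htop : U.subgroupOf B ⊔ T.subgroupOf B = ⊤ := by
    rw [← Subgroup.subgroupOf_sup hUB hTB, hUH, Subgroup.subgroupOf_self]
  obtain ⟨e, he⟩ := hp'.card_orbit (QuotientGroup.mk (1 : B) : B ⧸ T.subgroupOf B)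
  refine ⟨e, ?_⟩
  rw [← he, Subgroup.index]
  have huniv : MulAction.orbit (U.subgroupOf B) (QuotientGroup.mk (1 : B) : B ⧸ T.subgroupOf B) =
      Set.univ := by
    rw [Set.eq_univ_iff_forall]
    intro x
    induction x using QuotientGroup.induction_on with
    | H b =>
      have hb : b ∈ U.subgroupOf B ⊔ T.subgroupOf B := by rw [htop]; exact Subgroup.mem_top b
      have hset : ((U.subgroupOf B ⊔ T.subgroupOf B : Subgroup B) : Set B) =
          (U.subgroupOf B : Set B) * (T.subgroupOf B : Set B) := Subgroup.normal_mul _ _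
      have hb' : b ∈ ((U.subgroupOf B ⊔ T.subgroupOf B : Subgroup B) : Set B) := hb
      rw [hset] at hb'
      obtain ⟨u, hu, t, ht, rfl⟩ := hb'
      refine ⟨⟨u, hu⟩, ?_⟩
      show (QuotientGroup.mk (u * 1) : B ⧸ T.subgroupOf B) = QuotientGroup.mk (u * t)
      rw [QuotientGroup.eq]
      simpa using ht
  rw [huniv]
  exact (Nat.card_congr (Equiv.Set.univ _)).symm

/-- LEAF PPOW (generic, easy): `|B : B ∩ N| = |U : U ∩ N|` divides `|U|`. -/
theorem index_T_ppow {G : Type*} [Group G] [Finite G] (P : Cfsg.BNPair G) (p : ℕ) [Fact p.Prime]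
    (U : Subgroup G) (hUB : U ≤ P.B) (hUp : IsPGroup p U)
    (hUn : P.B ≤ Subgroup.normalizer (U : Set G)) (hUH : U ⊔ (P.B ⊓ P.N) = P.B) :
    ∃ e : ℕ, ((P.B ⊓ P.N).subgroupOf P.B).index = p ^ e :=
  ppow_core P.B (P.B ⊓ P.N) p U hUB hUp hUn hUH

end Cfsg.Agent.Lib.Helper41.OmBN
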