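import Mathlib
import Cfsg.Agent.Lib.Helper41.OmBNDefs

/-! # S2549 hive (helper41), leaf OmBN-UNIP (helper31): the unipotent radical of the Borel subgroup of
`O^-_{2m+2}(F)`

`U = {g ∈ B | the diagonal blocks of g are identities}`; it is a `p`-subgroup normalised by `B`, and
`B = U (B ∩ N)`: the block diagonal part of an element of `B` is again an isometry. -/

set_option autoImplicit false

namespace Cfsg.Agent.Lib.Helper41.OmBN

open Matrix Cfsg Cfsg.Agent.Lib.Helper13 Cfsg.Agent.Lib.Helper8 Cfsg.Agent.Lib.Helper43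
  Cfsg.Agent.Lib.Helper41.SpBN

variable {F : Type*} [Field F] {m : ℕ} {a b : F}

/-- the block diagonal part of a matrix -/
def unip_bd (M : Matrix (MIdx m) (MIdx m) F) : Matrix (MIdx m) (MIdx m) F :=
  Matrix.of fun i j => if oord m i = oord m j then M i j else 0

theorem unip_bd_apply (M : Matrix (MIdx m) (MIdx m) F) (i j : MIdx m) :
    unip_bd M i j = if oord m i = oord m j then M i j else 0 := rfl

theorem unip_bd_one : unip_bd (1 : Matrix (MIdx m) (MIdx m) F) = 1 := by
  ext i j
  rw [unip_bd_apply]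
  by_cases h : i = j
  · subst h
    simp
  · rw [Matrix.one_apply_ne h]
    simp

theorem unip_bd_mul {M M' : Matrix (MIdx m) (MIdx m) F} (h : M.BlockTriangular (oord m))
    (h' : M'.BlockTriangular (oord m)) : unip_bd (M * M') = unip_bd M * unip_bd M' := by
  ext i j
  rw [unip_bd_apply, Matrix.mul_apply, Matrix.mul_apply]
  by_cases hij : oord m i = oord m j
  · rw [if_pos hij]
    apply Finset.sum_congr rfl
    intro k _
    rw [unip_bd_apply, unip_bd_apply]
    by_cases hk : oord m i = oord m k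
    · rw [if_pos hk, if_pos (hk.symm.trans hij)]
    · rw [if_neg hk, zero_mul]
      rcases lt_or_gt_of_ne hk with hlt | hgt
      · rw [h' (by omega : oord m j < oord m k), mul_zero]
      · rw [h hgt, zero_mul]
  · rw [if_neg hij]
    symm
    apply Finset.sum_eq_zero
    intro k _
    rw [unip_bd_apply, unip_bd_apply]
    by_cases hk : oord m i = oord m k
    · rw [if_neg (fun h2 => hij (hk.trans h2)), mul_zero]
    · rw [if_neg hk, zero_mul]

theorem unip_bd_blockTriangular (M : Matrix (MIdx m) (MIdx m) F) :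
    (unip_bd M).BlockTriangular (oord m) := by
  intro i j hij
  rw [unip_bd_apply, if_neg (by omega)]

theorem unip_bd_bd (M : Matrix (MIdx m) (MIdx m) F) : unip_bd (unip_bd M) = unip_bd M := by
  ext i j
  rw [unip_bd_apply, unip_bd_apply]
  split_ifs <;> rfl

theorem unip_bt {g : OG F m a b} (hg : g ∈ Bo F m a b) : (mat g).BlockTriangular (oord m) := hg

variable (F m a b)

/-- the unipotent radical of `B` -/
def unip_U : Subgroup (OG F m a b) where
  carrier := {g | g ∈ Bo F m a b ∧ unip_bd (mat g) = 1}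
  one_mem' := ⟨one_mem _, by rw [mat_one, unip_bd_one]⟩
  mul_mem' := fun {g h} hg hh => ⟨mul_mem hg.1 hh.1, by
    rw [mat_mul, unip_bd_mul (unip_bt hg.1) (unip_bt hh.1), hg.2, hh.2, one_mul]⟩
  inv_mem' := fun {g} hg => ⟨inv_mem hg.1, by
    have h1 : unip_bd (mat g * mat g⁻¹) = 1 := by rw [mat_mul_inv, unip_bd_one]
    rw [unip_bd_mul (unip_bt hg.1) (unip_bt (inv_mem hg.1)), hg.2, one_mul] at h1
    exact h1⟩

variable {F m a b}

theorem unip_mem_U (g : OG F m a b) :
    g ∈ unip_U F m a b ↔ g ∈ Bo F m a b ∧ unip_bd (mat g) = 1 := Iff.rfl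

theorem unip_conj_mem {g u : OG F m a b} (hg : g ∈ Bo F m a b) (hu : u ∈ unip_U F m a b) :
    g * u * g⁻¹ ∈ unip_U F m a b := by
  refine ⟨mul_mem (mul_mem hg hu.1) (inv_mem hg), ?_⟩
  have h1 : unip_bd (mat (g * u) * mat g⁻¹) = unip_bd (mat (g * u)) * unip_bd (mat g⁻¹) :=
    unip_bd_mul (unip_bt (mul_mem hg hu.1)) (unip_bt (inv_mem hg))
  have h2 : unip_bd (mat g * mat u) = unip_bd (mat g) * unip_bd (mat u) :=
    unip_bd_mul (unip_bt hg) (unip_bt hu.1)
  rw [mat_mul, h1, mat_mul, h2, hu.2, mul_one,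
    ← unip_bd_mul (unip_bt hg) (unip_bt (inv_mem hg)), mat_mul_inv, unip_bd_one]

theorem unip_le_normalizer :
    Bo F m a b ≤ Subgroup.normalizer (unip_U F m a b : Set (OG F m a b)) := by
  intro g hg
  rw [Subgroup.mem_normalizer_iff]
  intro u
  constructor
  · exact fun hu => unip_conj_mem hg hu
  · intro hu
    have := unip_conj_mem (inv_mem hg) hu
    have e : g⁻¹ * (g * u * g⁻¹) * g⁻¹⁻¹ = u := by group
    rw [e] at this
    exact this

/-! ### `U` is a `p`-group -/

/-- `M i j = 0` unless `oord i + k ≤ oord j` -/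
def unip_lvl (k : ℕ) (M : Matrix (MIdx m) (MIdx m) F) : Prop :=
  ∀ i j, oord m j < oord m i + k → M i j = 0

theorem unip_lvl_mul {k : ℕ} {A N : Matrix (MIdx m) (MIdx m) F} (hA : unip_lvl k A)
    (hN : unip_lvl 1 N) : unip_lvl (k + 1) (A * N) := by
  intro i j hij
  rw [Matrix.mul_apply]
  apply Finset.sum_eq_zero
  intro l _
  by_cases hl : oord m l < oord m i + k
  · rw [hA i l hl, zero_mul]
  · rw [hN l j (by omega), mul_zero]

theorem unip_lvl_pow {N : Matrix (MIdx m) (MIdx m) F} (hN : unip_lvl 1 N) (k : ℕ) :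
    unip_lvl k (N ^ k) := by
  induction k with
  | zero =>
    intro i j hij
    rw [pow_zero, Matrix.one_apply_ne]
    rintro rfl
    omega
  | succ k ih =>
    rw [pow_succ]
    exact unip_lvl_mul ih hN

theorem unip_oord_le (i : MIdx m) : oord m i ≤ 2 * m := by
  rcases i with (i | i) | i
  · have := i.2
    simp only [oord_e]
    omega
  · simp only [oord_f]
    omega
  · simp only [oord_w]
    omega

theorem unip_pow_eq_zero {N : Matrix (MIdx m) (MIdx m) F} (hN : unip_lvl 1 N) :
    N ^ (2 * m + 1) = 0 := by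
  ext i j
  rw [unip_lvl_pow hN (2 * m + 1) i j (by have := unip_oord_le j; omega), Matrix.zero_apply]

theorem unip_mat_pow (g : OG F m a b) (k : ℕ) : mat (g ^ k) = mat g ^ k := by
  induction k with
  | zero => rw [pow_zero, pow_zero, mat_one]
  | succ k ih => rw [pow_succ, pow_succ, mat_mul, ih]

theorem unip_isPGroup (p : ℕ) [Fact p.Prime] [CharP F p] : IsPGroup p (unip_U F m a b) := by
  rintro ⟨u, hu⟩
  refine ⟨2 * m + 1, ?_⟩
  apply Subtype.ext
  apply mat_injective
  rw [Subgroup.coe_pow, Subgroup.coe_one, unip_mat_pow, mat_one]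
  have hN : unip_lvl 1 (mat u - 1) := by
    intro i j hij
    rw [Matrix.sub_apply]
    by_cases h : oord m i = oord m j
    · have h1 := congrFun (congrFun hu.2 i) j
      rw [unip_bd_apply, if_pos h] at h1
      rw [h1, sub_self]
    · have hlt : oord m j < oord m i := by omega
      rw [unip_bt hu.1 hlt, Matrix.one_apply_ne, sub_self]
      rintro rfl
      exact h rfl
  have h0 : (mat u - 1) ^ (p ^ (2 * m + 1)) = 0 := by
    have hle : 2 * m + 1 ≤ p ^ (2 * m + 1) :=
      (Nat.lt_pow_self (Fact.out : p.Prime).one_lt).le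
    obtain ⟨c, hc⟩ := Nat.exists_eq_add_of_le hle
    rw [hc, pow_add, unip_pow_eq_zero hN, zero_mul]
  have h1 : mat u = (mat u - 1) + 1 := by abel
  rw [h1, add_pow_char_pow_of_commute p _ (Commute.one_right _), h0, one_pow, zero_add]

/-! ### the block diagonal part of an element of `B` is an isometry -/

theorem unip_oord_eq_e {i : Fin m} {j : MIdx m}
    (h : oord m (Sum.inl (Sum.inl i)) = oord m j) : j = Sum.inl (Sum.inl i) := by
  rcases j with (j | j) | j
  · simp only [oord_e] at h
    rw [Fin.ext h]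
  · have := i.2
    have := j.2
    simp only [oord_e, oord_f] at h
    omega
  · have := i.2
    simp only [oord_e, oord_w] at h
    omega

theorem unip_oord_eq_f {i : Fin m} {j : MIdx m}
    (h : oord m (Sum.inl (Sum.inr i)) = oord m j) : j = Sum.inl (Sum.inr i) := by
  rcases j with (j | j) | j
  · have := i.2
    have := j.2
    simp only [oord_e, oord_f] at h
    omega
  · have := i.2
    have := j.2
    simp only [oord_f] at h
    have : (i : ℕ) = j := by omega
    rw [Fin.ext this]
  · have := i.2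
    simp only [oord_f, oord_w] at h
    omega

theorem unip_oord_w_ne (s : Fin 2) (t : Idx m) :
    oord m (Sum.inr s : MIdx m) ≠ oord m (Sum.inl t) := by
  rcases t with t | t
  · have := t.2
    simp only [oord_e, oord_w]
    omega
  · have := t.2
    simp only [oord_f, oord_w]
    omega

theorem unip_bd_mulVec_e (M : Matrix (MIdx m) (MIdx m) F) (x : MIdx m → F) (i : Fin m) :
    (unip_bd M *ᵥ x) (Sum.inl (Sum.inl i)) =
      M (Sum.inl (Sum.inl i)) (Sum.inl (Sum.inl i)) * x (Sum.inl (Sum.inl i)) := by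
  rw [Matrix.mulVec, dotProduct, Finset.sum_eq_single (Sum.inl (Sum.inl i))]
  · rw [unip_bd_apply, if_pos rfl]
  · intro j _ hj
    rw [unip_bd_apply, if_neg (fun h => hj (unip_oord_eq_e h)), zero_mul]
  · intro h
    exact absurd (Finset.mem_univ _) h

theorem unip_bd_mulVec_f (M : Matrix (MIdx m) (MIdx m) F) (x : MIdx m → F) (i : Fin m) :
    (unip_bd M *ᵥ x) (Sum.inl (Sum.inr i)) =
      M (Sum.inl (Sum.inr i)) (Sum.inl (Sum.inr i)) * x (Sum.inl (Sum.inr i)) := by
  rw [Matrix.mulVec, dotProduct, Finset.sum_eq_single (Sum.inl (Sum.inr i))]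
  · rw [unip_bd_apply, if_pos rfl]
  · intro j _ hj
    rw [unip_bd_apply, if_neg (fun h => hj (unip_oord_eq_f h)), zero_mul]
  · intro h
    exact absurd (Finset.mem_univ _) h

/-- the action of the `W`-block -/
def unip_Aw (M : Matrix (MIdx m) (MIdx m) F) (c : Fin 2 → F) (s : Fin 2) : F :=
  ∑ s' : Fin 2, M (Sum.inr s) (Sum.inr s') * c s'

theorem unip_bd_mulVec_w (M : Matrix (MIdx m) (MIdx m) F) (x : MIdx m → F) (s : Fin 2) :
    (unip_bd M *ᵥ x) (Sum.inr s) = unip_Aw M (fun s' => x (Sum.inr s')) s := by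
  rw [Matrix.mulVec, dotProduct, Fintype.sum_sum_type, unip_Aw]
  have h0 : ∑ t : Idx m, unip_bd M (Sum.inr s) (Sum.inl t) * x (Sum.inl t) = 0 := by
    apply Finset.sum_eq_zero
    intro t _
    rw [unip_bd_apply, if_neg (unip_oord_w_ne s t), zero_mul]
  rw [h0, zero_add]
  apply Finset.sum_congr rfl
  intro s' _
  rw [unip_bd_apply,
    if_pos (show oord m (Sum.inr s : MIdx m) = oord m (Sum.inr s' : MIdx m) from rfl)]

/-- the anisotropic binary form -/
def unip_qW (a b : F) (z₀ z₁ : F) : F := z₀ ^ 2 + a * z₀ * z₁ + b * z₁ ^ 2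

theorem unip_Q_eq (x : MIdx m → F) :
    minusForm m F a b x = (∑ i : Fin m, x (Sum.inl (Sum.inl i)) * x (Sum.inl (Sum.inr i))) +
      unip_qW a b (x (Sum.inr 0)) (x (Sum.inr 1)) := by
  rw [← minusForm_coe]
  rfl

/-- the diagonal entries at `e_i` and `f_i` are inverse to each other -/
theorem unip_diag_mul {g : OG F m a b} (hg : g ∈ Bo F m a b) (i : Fin m) :
    mat g (Sum.inl (Sum.inl i)) (Sum.inl (Sum.inl i)) *
      mat g (Sum.inl (Sum.inr i)) (Sum.inl (Sum.inr i)) = 1 := by
  have hbt := unip_bt hg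
  have h1 : QuadraticMap.polar (⇑(minusForm m F a b))
      (mat g *ᵥ Pi.single (Sum.inl (Sum.inl i)) 1) (mat g *ᵥ Pi.single (Sum.inl (Sum.inr i)) 1) =
      QuadraticMap.polar (⇑(minusForm m F a b)) (Pi.single (Sum.inl (Sum.inl i)) 1)
        (Pi.single (Sum.inl (Sum.inr i)) 1) :=
    iso_polar (minusForm m F a b) g (Pi.single (Sum.inl (Sum.inl i)) 1)
      (Pi.single (Sum.inl (Sum.inr i)) 1)
  rw [polar_minusForm_inl, Pi.single_eq_same, polar_minusForm] at h1
  simp only [Matrix.mulVec_single_one, Matrix.col_apply] at h1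
  have hi := i.2
  have hw : ∀ s : Fin 2, mat g (Sum.inr s) (Sum.inl (Sum.inl i)) = 0 := by
    intro s
    apply hbt
    simp only [oord_e, oord_w]
    omega
  have hf : ∀ j : Fin m, mat g (Sum.inl (Sum.inr j)) (Sum.inl (Sum.inl i)) = 0 := by
    intro j
    have := j.2
    apply hbt
    simp only [oord_e, oord_f]
    omega
  simp only [hw, hf, mul_zero, add_zero, zero_mul] at h1
  rw [Finset.sum_eq_single i] at h1
  · exact h1
  · intro j _ hj
    have := j.2
    rcases lt_or_gt_of_ne (fun h => hj (Fin.ext h) : (j : ℕ) ≠ i) with hlt | hgt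
    · have : mat g (Sum.inl (Sum.inr j)) (Sum.inl (Sum.inr i)) = 0 := by
        apply hbt
        simp only [oord_f]
        omega
      rw [this, mul_zero]
    · have : mat g (Sum.inl (Sum.inl j)) (Sum.inl (Sum.inl i)) = 0 := by
        apply hbt
        simp only [oord_e]
        omega
      rw [this, zero_mul]
  · intro h
    exact absurd (Finset.mem_univ _) h

/-- the `W`-block preserves the binary form -/
theorem unip_qW_Aw {g : OG F m a b} (hg : g ∈ Bo F m a b) (c : Fin 2 → F) :
    unip_qW a b (unip_Aw (mat g) c 0) (unip_Aw (mat g) c 1) = unip_qW a b (c 0) (c 1) := by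
  have hbt := unip_bt hg
  have h1 := mat_preserves g (vw F m c)
  rw [unip_Q_eq, unip_Q_eq] at h1
  have hf : ∀ i : Fin m, (mat g *ᵥ vw F m c) (Sum.inl (Sum.inr i)) = 0 := by
    intro i
    have := i.2
    rw [Matrix.mulVec, dotProduct, Fintype.sum_sum_type]
    simp only [vw, Sum.elim_inl, Sum.elim_inr, Pi.zero_apply, mul_zero, Finset.sum_const_zero,
      zero_add]
    apply Finset.sum_eq_zero
    intro s _
    have : mat g (Sum.inl (Sum.inr i)) (Sum.inr s) = 0 := by
      apply hbt
      simp only [oord_f, oord_w]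
      omega
    rw [this, zero_mul]
  have hw : ∀ s : Fin 2, (mat g *ᵥ vw F m c) (Sum.inr s) = unip_Aw (mat g) c s := by
    intro s
    rw [Matrix.mulVec, dotProduct, Fintype.sum_sum_type, unip_Aw]
    simp only [vw, Sum.elim_inl, Sum.elim_inr, Pi.zero_apply, mul_zero, Finset.sum_const_zero,
      zero_add]
  simp only [hf, hw, mul_zero, Finset.sum_const_zero, zero_add] at h1
  simp only [vw, Sum.elim_inl, Sum.elim_inr, Pi.zero_apply, mul_zero, Finset.sum_const_zero,
    zero_add] at h1
  exact h1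

/-- the block diagonal part preserves the form -/
theorem unip_bd_preserves {g : OG F m a b} (hg : g ∈ Bo F m a b) (x : MIdx m → F) :
    minusForm m F a b (unip_bd (mat g) *ᵥ x) = minusForm m F a b x := by
  rw [unip_Q_eq, unip_Q_eq]
  simp only [unip_bd_mulVec_e, unip_bd_mulVec_f, unip_bd_mulVec_w]
  rw [unip_qW_Aw hg]
  congr 1
  apply Finset.sum_congr rfl
  intro i _
  have := unip_diag_mul hg i
  linear_combination (x (Sum.inl (Sum.inl i)) * x (Sum.inl (Sum.inr i))) * this

/-- the block diagonal part of an element of `B` as an element of the group -/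
theorem unip_exists_t {g : OG F m a b} (hg : g ∈ Bo F m a b) :
    ∃ t : OG F m a b, mat t = unip_bd (mat g) := by
  have h1 : unip_bd (mat g) * unip_bd (mat g⁻¹) = 1 := by
    rw [← unip_bd_mul (unip_bt hg) (unip_bt (inv_mem hg)), mat_mul_inv, unip_bd_one]
  have h2 : unip_bd (mat g⁻¹) * unip_bd (mat g) = 1 := by
    rw [← unip_bd_mul (unip_bt (inv_mem hg)) (unip_bt hg), mat_inv_mul, unip_bd_one]
  refine ⟨⟨⟨unip_bd (mat g), unip_bd (mat g⁻¹), h1, h2⟩, ?_⟩, rfl⟩
  intro u v
  exact unip_bd_preserves hg u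

theorem unip_t_mem_No {g t : OG F m a b} (ht : mat t = unip_bd (mat g)) : t ∈ No F m a b := by
  refine ⟨1, fun s => mat g (Sum.inl s) (Sum.inl s), ?_, ?_, ?_⟩
  · intro s s'
    rw [Matrix.toBlocks₁₁, Matrix.of_apply, ht, unip_bd_apply, Equiv.Perm.one_apply]
    by_cases h : s = s'
    · subst h
      rw [if_pos rfl, if_pos rfl]
    · rw [if_neg h, if_neg]
      intro h2
      apply h
      rcases s with i | i
      · exact (Sum.inl_injective (unip_oord_eq_e h2)).symm
      · exact (Sum.inl_injective (unip_oord_eq_f h2)).symm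
  · ext s j
    rw [Matrix.toBlocks₁₂, Matrix.of_apply, ht, unip_bd_apply,
      if_neg (fun h => unip_oord_w_ne j s h.symm), Matrix.zero_apply]
  · ext j s
    rw [Matrix.toBlocks₂₁, Matrix.of_apply, ht, unip_bd_apply, if_neg (unip_oord_w_ne j s),
      Matrix.zero_apply]

set_option linter.unusedVariables false in
/-- LEAF UNIP: the unipotent radical `U` of `B`: a normal `p`-subgroup of `B` with `B = U T`. -/
theorem exists_U [Fintype F] (hab : Aniso a b) (p : ℕ) [Fact p.Prime] [CharP F p] :
    ∃ U : Subgroup (OG F m a b), U ≤ Bo F m a b ∧ IsPGroup p U ∧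
      Bo F m a b ≤ Subgroup.normalizer (U : Set (OG F m a b)) ∧
      U ⊔ (Bo F m a b ⊓ No F m a b) = Bo F m a b := by
  refine ⟨unip_U F m a b, fun g hg => hg.1, unip_isPGroup p, unip_le_normalizer, ?_⟩
  apply le_antisymm
  · exact sup_le (fun g hg => hg.1) inf_le_left
  · intro g hg
    obtain ⟨t, ht⟩ := unip_exists_t hg
    have htB : t ∈ Bo F m a b := by
      show (mat t).BlockTriangular (oord m)
      rw [ht]
      exact unip_bd_blockTriangular _
    have htN : t ∈ No F m a b := unip_t_mem_No ht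
    have hu : g * t⁻¹ ∈ unip_U F m a b := by
      refine ⟨mul_mem hg (inv_mem htB), ?_⟩
      rw [mat_mul, unip_bd_mul (unip_bt hg) (unip_bt (inv_mem htB))]
      have h1 : unip_bd (mat t) * unip_bd (mat t⁻¹) = 1 := by
        rw [← unip_bd_mul (unip_bt htB) (unip_bt (inv_mem htB)), mat_mul_inv, unip_bd_one]
      rw [ht, unip_bd_bd] at h1
      exact h1
    have e : g = (g * t⁻¹) * t := by group
    rw [e]
    exact Subgroup.mul_mem_sup hu ⟨htB, htN⟩

end Cfsg.Agent.Lib.Helper41.OmBN
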