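import Mathlib
import Cfsg.Prelude.Def_ClassicalGeometry
import Cfsg.Prelude.Def_GeometricClasses
import Cfsg.Agent.Lib.Helper81.OnDefs
import Cfsg.Agent.Lib.Helper76.OnBASIC
import Cfsg.Agent.S0756

/-! # ON-UNIV `exists_self_eq` and ON-COPY `exists_copy` (helper81's S5989 hive "On")

Self-contained: the orthogonal complement of an anisotropic vector (`univ_nd_perp`, dimension
bounds `univ_finrank_perp_lt`, `univ_finrank_le_perp`), existence of anisotropic vectors
(`univ_exists_aniso`), universality in dimension at least two (`exists_self_eq`), and the copy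
lemma, proved through isometric linear maps `φ : V →ₗ V` defined on all of `V`
(`copy_exists_map`), which avoids gluing isometries of subspaces. -/

set_option autoImplicit false
set_option linter.unusedSectionVars false

namespace Cfsg.Agent.Lib.Helper81.On

open Module
open Cfsg.Agent.Lib.Helper2.BG Cfsg.Agent.Lib.Helper99 Cfsg.Agent.Lib.Helper48.Ti

section abstract

variable {F V : Type*} [Field F] [AddCommGroup V] [Module F V] [FiniteDimensional F V]
variable {B : V →ₗ[F] V →ₗ[F] F}

/-- a nonzero nondegenerate symmetric space in characteristic `≠ 2` has an anisotropic vector -/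
theorem univ_exists_aniso (h2 : (2 : F) ≠ 0) (hB : ∀ u v, B u v = B v u) {T : Submodule F V}
    (hT : Nd B T) (hne : T ≠ ⊥) : ∃ t ∈ T, B t t ≠ 0 := by
  by_contra hcon
  push Not at hcon
  obtain ⟨x, hx, hx0⟩ := Submodule.exists_mem_ne_zero_of_ne_bot hne
  apply hx0
  apply hT x hx
  intro y hy
  have h1 := hcon (x + y) (T.add_mem hx hy)
  have h2' := hcon x hx
  have h3 := hcon y hy
  simp only [map_add, LinearMap.add_apply] at h1
  rw [h2', h3, hB y x] at h1
  have : (2 : F) * B x y = 0 := by linear_combination h1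
  exact (mul_eq_zero.1 this).resolve_left h2

theorem univ_sub_mem {T : Submodule F V} {t : V} (ht : t ∈ T) (htt : B t t ≠ 0) {z : V}
    (hz : z ∈ T) : z - (B t z / B t t) • t ∈ T ⊓ LinearMap.ker (B t) := by
  refine Submodule.mem_inf.2 ⟨T.sub_mem hz (T.smul_mem _ ht), ?_⟩
  rw [LinearMap.mem_ker, map_sub, map_smul, smul_eq_mul, div_mul_cancel₀ _ htt, sub_self]

/-- the orthogonal complement of an anisotropic vector inside a nondegenerate subspace -/
theorem univ_nd_perp (hB : ∀ u v, B u v = B v u) {T : Submodule F V} (hT : Nd B T) {t : V}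
    (ht : t ∈ T) (htt : B t t ≠ 0) : Nd B (T ⊓ LinearMap.ker (B t)) := by
  intro w hw hw0
  obtain ⟨hwT, hwk⟩ := Submodule.mem_inf.1 hw
  rw [LinearMap.mem_ker] at hwk
  apply hT w hwT
  intro z hz
  have h1 := hw0 _ (univ_sub_mem ht htt hz)
  rw [map_sub, map_smul, smul_eq_mul, hB w t, hwk, mul_zero, sub_zero] at h1
  exact h1

theorem univ_finrank_perp_lt {T : Submodule F V} {t : V} (ht : t ∈ T) (htt : B t t ≠ 0) :
    finrank F ↥(T ⊓ LinearMap.ker (B t)) < finrank F T := by
  apply Submodule.finrank_lt_finrank_of_lt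
  refine lt_of_le_of_ne inf_le_left ?_
  intro h
  have : t ∈ T ⊓ LinearMap.ker (B t) := by rw [h]; exact ht
  exact htt (LinearMap.mem_ker.1 (Submodule.mem_inf.1 this).2)

theorem univ_finrank_le_perp {T : Submodule F V} {t : V} (ht : t ∈ T) (htt : B t t ≠ 0) :
    finrank F T ≤ finrank F ↥(T ⊓ LinearMap.ker (B t)) + 1 := by
  have ht0 : t ≠ 0 := by
    rintro rfl
    simp at htt
  have hle : T ≤ Submodule.span F {t} ⊔ (T ⊓ LinearMap.ker (B t)) := by
    intro z hz
    have : z = (B t z / B t t) • t + (z - (B t z / B t t) • t) := by abel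
    rw [this]
    exact Submodule.add_mem_sup (Submodule.smul_mem _ _ (Submodule.mem_span_singleton_self t))
      (univ_sub_mem ht htt hz)
  calc finrank F T ≤ finrank F ↥(Submodule.span F {t} ⊔ (T ⊓ LinearMap.ker (B t))) :=
        Submodule.finrank_mono hle
    _ ≤ finrank F ↥(Submodule.span F {t}) + finrank F ↥(T ⊓ LinearMap.ker (B t)) :=
        Submodule.finrank_add_le_finrank_add_finrank _ _
    _ = finrank F ↥(T ⊓ LinearMap.ker (B t)) + 1 := by
        rw [finrank_span_singleton ht0, add_comm]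

/-- ON-UNIV: a nondegenerate symmetric space of dimension at least two over a finite field of odd
characteristic represents every scalar -/
theorem exists_self_eq [Finite F] (h2 : (2 : F) ≠ 0) (hB : ∀ u v, B u v = B v u)
    {Z : Submodule F V} (hZ : Nd B Z) (hdim : 2 ≤ finrank F Z) (a : F) :
    ∃ v ∈ Z, B v v = a := by
  have hne : Z ≠ ⊥ := by
    rintro rfl
    simp at hdim
  obtain ⟨u₁, hu₁, hn₁⟩ := univ_exists_aniso h2 hB hZ hne
  have hZ' := univ_nd_perp hB hZ hu₁ hn₁
  have hd' := univ_finrank_le_perp hu₁ hn₁ (T := Z)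
  have hne' : Z ⊓ LinearMap.ker (B u₁) ≠ ⊥ := by
    intro h
    rw [h] at hd'
    simp at hd'
    omega
  obtain ⟨u₂, hu₂, hn₂⟩ := univ_exists_aniso h2 hB hZ' hne'
  obtain ⟨x, y, hxy⟩ := Cfsg.Agent.S0756.exists_sq_add_sq h2 (B u₁ u₁) (B u₂ u₂) a hn₁ hn₂
  refine ⟨x • u₁ + y • u₂, Z.add_mem (Z.smul_mem _ hu₁) (Z.smul_mem _ (Submodule.mem_inf.1 hu₂).1), ?_⟩
  have h12 : B u₁ u₂ = 0 := LinearMap.mem_ker.1 (Submodule.mem_inf.1 hu₂).2
  have h21 : B u₂ u₁ = 0 := by rw [hB]; exact h12
  simp only [map_add, map_smul, LinearMap.add_apply, LinearMap.smul_apply, smul_eq_mul, h12, h21]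
  linear_combination hxy

/-- the inductive core of ON-COPY: an isometric linear map `T → Z`, defined on all of `V` -/
theorem copy_exists_map [Finite F] (h2 : (2 : F) ≠ 0) (hB : ∀ u v, B u v = B v u) :
    ∀ (k : ℕ) {Z T : Submodule F V}, Nd B Z → Nd B T → finrank F T ≤ k →
      finrank F T < finrank F Z →
      ∃ φ : V →ₗ[F] V, (∀ x ∈ T, φ x ∈ Z) ∧ ∀ x ∈ T, ∀ y ∈ T, B (φ x) (φ y) = B x y := by
  intro k
  induction k with
  | zero =>
    intro Z T hZ hT hk hlt
    have hbot : T = ⊥ := Submodule.finrank_eq_zero.1 (by omega)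
    subst hbot
    refine ⟨0, fun x _ => by simp, fun x hx y hy => ?_⟩
    rw [Submodule.mem_bot] at hx
    subst hx
    simp
  | succ k ih =>
    intro Z T hZ hT hk hlt
    by_cases hne : T = ⊥
    · subst hne
      refine ⟨0, fun x _ => by simp, fun x hx y hy => ?_⟩
      rw [Submodule.mem_bot] at hx
      subst hx
      simp
    obtain ⟨t, ht, htt⟩ := univ_exists_aniso h2 hB hT hne
    have hT' := univ_nd_perp hB hT ht htt
    have hT'lt := univ_finrank_perp_lt ht htt (T := T)
    obtain ⟨u, hu, huu⟩ := exists_self_eq h2 hB hZ (by omega) (B t t)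
    have huu' : B u u ≠ 0 := by rw [huu]; exact htt
    have hZ' := univ_nd_perp hB hZ hu huu'
    have hZ'le := univ_finrank_le_perp hu huu' (T := Z)
    obtain ⟨φ', hφ'Z, hφ'B⟩ := ih hZ' hT' (by omega) (by omega)
    have hπ : ∀ x ∈ T, x - (B t x / B t t) • t ∈ T ⊓ LinearMap.ker (B t) :=
      fun x hx => univ_sub_mem ht htt hx
    refine ⟨((B t t)⁻¹ • B t).smulRight u +
      φ' ∘ₗ (LinearMap.id - ((B t t)⁻¹ • B t).smulRight t), ?_, ?_⟩
    · intro x hx
      have e1 : (LinearMap.id - ((B t t)⁻¹ • B t).smulRight t : V →ₗ[F] V) x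
          = x - (B t x / B t t) • t := by
        simp [div_eq_inv_mul]
      rw [LinearMap.add_apply, LinearMap.comp_apply, e1]
      exact Z.add_mem (Z.smul_mem _ hu) (Submodule.mem_inf.1 (hφ'Z _ (hπ x hx))).1
    · intro x hx y hy
      have e1 : ∀ z, (LinearMap.id - ((B t t)⁻¹ • B t).smulRight t : V →ₗ[F] V) z
          = z - (B t z / B t t) • t := by
        intro z
        simp [div_eq_inv_mul]
      have e2 : ∀ z, (((B t t)⁻¹ • B t).smulRight u : V →ₗ[F] V) z = (B t z / B t t) • u := by
        intro z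
        simp [div_eq_inv_mul]
      rw [LinearMap.add_apply, LinearMap.add_apply, LinearMap.comp_apply, LinearMap.comp_apply,
        e1, e1, e2, e2]
      have hp := hφ'Z _ (hπ x hx)
      have hq := hφ'Z _ (hπ y hy)
      have hup : B u (φ' (x - (B t x / B t t) • t)) = 0 :=
        LinearMap.mem_ker.1 (Submodule.mem_inf.1 hp).2
      have huq : B u (φ' (y - (B t y / B t t) • t)) = 0 :=
        LinearMap.mem_ker.1 (Submodule.mem_inf.1 hq).2
      have hpu : B (φ' (x - (B t x / B t t) • t)) u = 0 := by rw [hB]; exact hup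
      have hpq := hφ'B _ (hπ x hx) _ (hπ y hy)
      have hpq' : B (x - (B t x / B t t) • t) (y - (B t y / B t t) • t)
          = B x y - B t x * B t y / B t t := by
        simp only [map_sub, map_smul, LinearMap.sub_apply, LinearMap.smul_apply, smul_eq_mul,
          hB x t]
        field_simp
        ring
      rw [hpq'] at hpq
      generalize φ' (x - (B t x / B t t) • t) = p at *
      generalize φ' (y - (B t y / B t t) • t) = q at *
      simp only [map_add, map_smul, LinearMap.add_apply, LinearMap.smul_apply, smul_eq_mul,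
        huq, hpu, hpq, huu]
      field_simp
      ring

/-- ON-COPY: a nondegenerate space contains a copy of every nondegenerate space of SMALLER
dimension -/
theorem exists_copy [Finite F] (h2 : (2 : F) ≠ 0) (hB : ∀ u v, B u v = B v u)
    {Z T : Submodule F V} (hZ : Nd B Z) (hT : Nd B T) (hlt : finrank F T < finrank F Z) :
    ∃ U : Submodule F V, U ≤ Z ∧ Nd B U ∧ SameType B U T := by
  obtain ⟨φ, hφZ, hφB⟩ := copy_exists_map h2 hB (finrank F T) hZ hT le_rfl hlt
  have hinj : Function.Injective (φ.domRestrict T) := by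
    rw [← LinearMap.ker_eq_bot, LinearMap.ker_eq_bot']
    intro x hx
    have hx' : φ (x : V) = 0 := hx
    apply Subtype.ext
    apply hT _ x.2
    intro y hy
    rw [← hφB _ x.2 _ hy, hx', map_zero, LinearMap.zero_apply]
  have hTU : SameType B T (LinearMap.range (φ.domRestrict T)) :=
    ⟨LinearEquiv.ofInjective (φ.domRestrict T) hinj, fun a b => by
      rw [LinearEquiv.ofInjective_apply, LinearEquiv.ofInjective_apply]
      exact hφB _ a.2 _ b.2⟩
  refine ⟨LinearMap.range (φ.domRestrict T), ?_, hTU.nd hT, hTU.symm⟩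
  rintro _ ⟨x, rfl⟩
  exact hφZ _ x.2

end abstract

end Cfsg.Agent.Lib.Helper81.On
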