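import Mathlib
import Cfsg.Prelude.Def_ClassicalGeometry
import Cfsg.Prelude.Def_GeometricClasses
import Cfsg.Agent.Lib.Helper46.OmDefs
import Cfsg.Agent.Lib.Helper31.OnCOPY
import Cfsg.Agent.Lib.Helper79.TsSplit

/-! # OM-UE1 core (helper46's S5991 hive "Om"): `unip_forced_disc` with the OM-DISC facts as
hypotheses -/

set_option autoImplicit false
set_option linter.unusedSectionVars false

namespace Cfsg.Agent.Lib.Helper46.Om

open Module
open Cfsg.Agent.Lib.Helper2.BG Cfsg.Agent.Lib.Helper99 Cfsg.Agent.Lib.Helper48.Ti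
open Cfsg.Agent.Lib.Helper5.Hy (Plus Orth Fix)
open Cfsg.Agent.Lib.Helper81.On (SameType Fixes)

section abstract

variable {F V : Type*} [Field F] [AddCommGroup V] [Module F V] [FiniteDimensional F V]
variable {B : V →ₗ[F] V →ₗ[F] F}

/-- rank-nullity for the restriction of an endomorphism to a subspace -/
theorem ue1x_rank_nullity (N : Module.End F V) (Z : Submodule F V) :
    finrank F ↥(Z.map N) + finrank F ↥(Z ⊓ LinearMap.ker N) = finrank F Z := by
  have h := LinearMap.finrank_range_add_finrank_ker (N.domRestrict Z)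
  rw [LinearMap.range_domRestrict, LinearMap.ker_domRestrict] at h
  rw [← h]
  congr 1
  rw [← Submodule.finrank_map_subtype_eq Z ((LinearMap.ker N).comap Z.subtype),
    Submodule.map_comap_subtype]

/-- a subspace of a nondegenerate space of more than half the dimension contains an anisotropic
vector -/
theorem ue1x_exists_aniso (h2 : (2 : F) ≠ 0) (hs : ∀ u v, B u v = B v u) {W K : Submodule F V}
    (hW : Nd B W) (hKW : K ≤ W) (hlt : finrank F W < 2 * finrank F K) :
    ∃ w ∈ K, B w w ≠ 0 := by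
  by_contra hcon
  push Not at hcon
  have hTI : TI B K := by
    intro u hu v hv
    have h1 := hcon (u + v) (K.add_mem hu hv)
    simp only [map_add, LinearMap.add_apply] at h1
    rw [hcon u hu, hcon v hv, hs v u] at h1
    have : (2 : F) * B u v = 0 := by linear_combination h1
    exact (mul_eq_zero.1 this).resolve_left h2
  have := Cfsg.Agent.Lib.Helper79.TsSwap.ti_bound_refl
    (fun u v h => by rw [hs]; exact h) hW hKW hTI
  omega

/-- OM-UE1 with the discriminant API as hypotheses -/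
theorem ue1x_core (h2 : (2 : F) ≠ 0) (hs : ∀ u v, B u v = B v u)
    (hde : ∀ W : Submodule F V, ∃ δ, Disc B W δ)
    (hdp : ∀ {W : Submodule F V}, Nd B W → ∀ e : ℕ, finrank F W = 2 * e → ∀ {δ : F},
      Disc B W δ → (Plus B W ↔ IsSquare (δ * (-1) ^ e)))
    (hds : ∀ {W₀ W₁ : Submodule F V}, Orth B W₀ W₁ → W₀ ⊓ W₁ = ⊥ → ∀ {δ₀ δ₁ : F},
      Disc B W₀ δ₀ → Disc B W₁ δ₁ → Disc B (W₀ ⊔ W₁) (δ₀ * δ₁))
    (hdsp : ∀ {v : V}, v ≠ 0 → Disc B (Submodule.span F {v}) (B v v))
    (hdu : ∀ {W : Submodule F V} {δ δ' : F}, Disc B W δ → Disc B W δ' →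
      ∃ s : F, s ≠ 0 ∧ δ' = s ^ 2 * δ)
    {f : Module.End F V} (hf : Isom B f) {W : Submodule F V} (hWi : Inv f W) (hW : Nd B W)
    (hsq : ∀ w ∈ W, (f - 1) ((f - 1) w) = 0)
    (hker : 2 * finrank F ↥(W ⊓ Fix f) = finrank F W + 1)
    (δ : F) (hδ : ∀ w ∈ Fix f, B w w ≠ 0 → IsSquare (B w w * δ))
    {ε : F} (hε : Disc B W ε) : IsSquare (ε * δ * (-1) ^ ((finrank F W - 1) / 2)) := by
  -- Step 1: an anisotropic fixed vector in `W`
  obtain ⟨w', hw'K, hne⟩ := ue1x_exists_aniso h2 hs hW (inf_le_left : W ⊓ Fix f ≤ W) (by omega)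
  have hw'W : w' ∈ W := (Submodule.mem_inf.1 hw'K).1
  have hw'fix : f w' = w' := by
    have h := LinearMap.mem_ker.1 (Submodule.mem_inf.1 hw'K).2
    rw [LinearMap.sub_apply, Module.End.one_apply, sub_eq_zero] at h
    exact h
  have hw'0 : w' ≠ 0 := by
    rintro rfl
    simp at hne
  -- Step 2: the complement `W''` and the fixed part `K''`
  have hW''nd := Cfsg.Agent.Lib.Helper81.On.univ_nd_perp hs hW hw'W hne
  have hW''lt := Cfsg.Agent.Lib.Helper81.On.univ_finrank_perp_lt hw'W hne (T := W)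
  have hW''le := Cfsg.Agent.Lib.Helper81.On.univ_finrank_le_perp hw'W hne (T := W)
  have hK''lt := Cfsg.Agent.Lib.Helper81.On.univ_finrank_perp_lt hw'K hne (T := W ⊓ Fix f)
  have hK''le := Cfsg.Agent.Lib.Helper81.On.univ_finrank_le_perp hw'K hne (T := W ⊓ Fix f)
  have hKeq : (W ⊓ LinearMap.ker (B w')) ⊓ LinearMap.ker (f - 1)
      = (W ⊓ Fix f) ⊓ LinearMap.ker (B w') := by
    rw [inf_right_comm]
  -- Step 3: `U = N W''`
  have hinv : ∀ u ∈ W ⊓ LinearMap.ker (B w'), f u ∈ W ⊓ LinearMap.ker (B w') := by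
    intro u hu
    obtain ⟨huW, huk⟩ := Submodule.mem_inf.1 hu
    refine Submodule.mem_inf.2 ⟨hWi u huW, ?_⟩
    rw [LinearMap.mem_ker] at huk ⊢
    rw [← hf w' u, hw'fix] at huk
    exact huk
  have hUle : (W ⊓ LinearMap.ker (B w')).map (f - 1) ≤ W ⊓ LinearMap.ker (B w') := by
    rintro _ ⟨u, hu, rfl⟩
    rw [LinearMap.sub_apply, Module.End.one_apply]
    exact Submodule.sub_mem _ (hinv u hu) hu
  have hTI : TI B ((W ⊓ LinearMap.ker (B w')).map (f - 1)) := by
    rintro _ ⟨u, hu, rfl⟩ _ ⟨v, hv, rfl⟩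
    have hvW : v ∈ W := (Submodule.mem_inf.1 hv).1
    have h1 : f ((f - 1) v) = (f - 1) v := by
      have h := hsq v hvW
      rw [LinearMap.sub_apply, Module.End.one_apply, sub_eq_zero] at h
      exact h
    have h3 := hf u ((f - 1) v)
    rw [h1] at h3
    rw [LinearMap.sub_apply, Module.End.one_apply, map_sub, LinearMap.sub_apply, h3, sub_self]
  have hrn := ue1x_rank_nullity (f - 1) (W ⊓ LinearMap.ker (B w'))
  rw [hKeq] at hrn
  have hPlus : Plus B (W ⊓ LinearMap.ker (B w')) :=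
    ⟨_, hUle, hTI, by omega⟩
  -- Step 4: the discriminant of `W''`
  obtain ⟨δ'', hδ''⟩ := hde (W ⊓ LinearMap.ker (B w'))
  have hsq'' : IsSquare (δ'' * (-1) ^ (finrank F ↥((W ⊓ Fix f) ⊓ LinearMap.ker (B w')))) :=
    (hdp hW''nd _ (by omega) hδ'').1 hPlus
  -- Step 5: the discriminant of `W`
  have horth : Orth B (Submodule.span F {w'}) (W ⊓ LinearMap.ker (B w')) := by
    intro x hx y hy
    obtain ⟨c, rfl⟩ := Submodule.mem_span_singleton.1 hx
    have hy' := LinearMap.mem_ker.1 (Submodule.mem_inf.1 hy).2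
    rw [map_smul, LinearMap.smul_apply, hy', smul_zero]
  have hdisj : Submodule.span F {w'} ⊓ (W ⊓ LinearMap.ker (B w')) = ⊥ := by
    rw [Submodule.eq_bot_iff]
    intro x hx
    obtain ⟨hx1, hx2⟩ := Submodule.mem_inf.1 hx
    obtain ⟨c, rfl⟩ := Submodule.mem_span_singleton.1 hx1
    have hx3 := LinearMap.mem_ker.1 (Submodule.mem_inf.1 hx2).2
    rw [map_smul, smul_eq_mul] at hx3
    rcases mul_eq_zero.1 hx3 with h | h
    · rw [h, zero_smul]
    · exact absurd h hne
  have hsup : Submodule.span F {w'} ⊔ (W ⊓ LinearMap.ker (B w')) = W := by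
    apply le_antisymm
    · apply sup_le
      · rw [Submodule.span_le]
        intro x hx
        rw [Set.mem_singleton_iff.1 hx]
        exact hw'W
      · exact inf_le_left
    · intro z hz
      have : z = (B w' z / B w' w') • w' + (z - (B w' z / B w' w') • w') := by abel
      rw [this]
      exact Submodule.add_mem_sup (Submodule.smul_mem _ _ (Submodule.mem_span_singleton_self w'))
        (Cfsg.Agent.Lib.Helper81.On.univ_sub_mem hw'W hne hz)
  have hdW := hds horth hdisj (hdsp hw'0) hδ''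
  rw [hsup] at hdW
  obtain ⟨s, -, hs2⟩ := hdu hdW hε
  -- Step 6: conclusion
  have hexp : (finrank F W - 1) / 2 = finrank F ↥((W ⊓ Fix f) ⊓ LinearMap.ker (B w')) := by
    omega
  rw [hexp, hs2]
  have h4 : IsSquare (B w' w' * δ) := hδ w' (Submodule.mem_inf.1 hw'K).2 hne
  have h5 : IsSquare (s ^ 2) := ⟨s, sq s⟩
  have h6 := (h5.mul h4).mul hsq''
  have e : s ^ 2 * (B w' w' * δ'') * δ *
      (-1) ^ finrank F ↥((W ⊓ Fix f) ⊓ LinearMap.ker (B w'))
      = s ^ 2 * (B w' w' * δ) *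
        (δ'' * (-1) ^ finrank F ↥((W ⊓ Fix f) ⊓ LinearMap.ker (B w'))) := by ring
  rw [e]
  exact h6

end abstract

end Cfsg.Agent.Lib.Helper46.Om
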