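import Mathlib
import Cfsg.Agent.Lib.Helper81.OnDefs
import Cfsg.Agent.Lib.Helper67.TsINVOL

/-! # S5989 hive "On" (helper81), leaf ON-INV2 (helper31): core, with ON-COPY as a hypothesis -/

set_option autoImplicit false

namespace Cfsg.Agent.Lib.Helper81.On

open Polynomial Module
open Cfsg.Agent.Lib.Helper2.BG Cfsg.Agent.Lib.Helper99 Cfsg.Agent.Lib.Helper48.Ti

variable {F V : Type*} [Field F] [AddCommGroup V] [Module F V] [FiniteDimensional F V]
variable {B : V →ₗ[F] V →ₗ[F] F}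

/-- ON-INV2 (core): an involutive isometry fixes a copy of every nondegenerate `W₀` with
`2 dim W₀ < dim V`; the statement of ON-COPY is the hypothesis `hcopy`. -/
theorem inv2_core (h2 : (2 : F) ≠ 0)
    (hcopy : ∀ {Z T : Submodule F V}, Nd B Z → Nd B T → finrank F T < finrank F Z →
      ∃ U : Submodule F V, U ≤ Z ∧ Nd B U ∧ SameType B U T)
    (hV : Nd B ⊤)
    {f : Module.End F V} (hf : Isom B f) (hff : f * f = 1) {W₀ : Submodule F V} (hW₀ : Nd B W₀)
    (hm : 2 * finrank F W₀ < finrank F V) : Fixes B f W₀ := by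
  obtain ⟨hp, hn, -, hdim⟩ := Cfsg.Agent.Lib.Helper67.Ts.invol_split h2 hf hff hV
  by_cases hlt : finrank F W₀ < finrank F (LinearMap.ker (f - 1))
  · obtain ⟨U, hUZ, hU, hUT⟩ := hcopy hp hW₀ hlt
    refine ⟨U, hU, hUT, ?_⟩
    intro u hu
    have h1 := hUZ hu
    rw [LinearMap.mem_ker, LinearMap.sub_apply, Module.End.one_apply, sub_eq_zero] at h1
    rw [h1]
    exact hu
  · have hlt' : finrank F W₀ < finrank F (LinearMap.ker (f + 1)) := by omega
    obtain ⟨U, hUZ, hU, hUT⟩ := hcopy hn hW₀ hlt'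
    refine ⟨U, hU, hUT, ?_⟩
    intro u hu
    have h1 := hUZ hu
    rw [LinearMap.mem_ker, LinearMap.add_apply, Module.End.one_apply, add_eq_zero_iff_eq_neg] at h1
    rw [h1]
    exact U.neg_mem hu

end Cfsg.Agent.Lib.Helper81.On
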