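import Mathlib
import Cfsg.Prelude.Def_ClassicalGeometry
import Cfsg.Prelude.Def_GeometricClasses
import Cfsg.Agent.Lib.Helper81.OnDefs
import Cfsg.Agent.Lib.Helper31.OnINV2core
import Cfsg.Agent.Lib.Helper31.OnCOPY

/-! # ON-INV2 `invol_fix` (helper81's S5989 hive "On"): `inv2_core` fed with ON-COPY -/

set_option autoImplicit false
set_option linter.unusedSectionVars false

namespace Cfsg.Agent.Lib.Helper81.On

open Module
open Cfsg.Agent.Lib.Helper2.BG Cfsg.Agent.Lib.Helper99 Cfsg.Agent.Lib.Helper48.Ti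

section abstract

variable {F V : Type*} [Field F] [AddCommGroup V] [Module F V] [FiniteDimensional F V]
variable {B : V →ₗ[F] V →ₗ[F] F}

/-- ON-INV2: an involutive isometry fixes a copy of every nondegenerate `W₀` with
`2 dim W₀ < dim V` -/
theorem invol_fix [Finite F] (h2 : (2 : F) ≠ 0) (hB : ∀ u v, B u v = B v u) (hV : Nd B ⊤)
    {f : Module.End F V} (hf : Isom B f) (hff : f * f = 1) {W₀ : Submodule F V} (hW₀ : Nd B W₀)
    (hm : 2 * finrank F W₀ < finrank F V) : Fixes B f W₀ :=
  inv2_core h2 (fun hZ hT hlt => exists_copy h2 hB hZ hT hlt) hV hf hff hW₀ hm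

end abstract

end Cfsg.Agent.Lib.Helper81.On
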