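import Mathlib
import Cfsg.Prelude.Def_ClassicalGeometry
import Cfsg.Prelude.Def_GeometricClasses
import Cfsg.Agent.Lib.Helper81.OnDefs

/-! # ON-OSUM `nd_sup_of_orth`, `sameType_sup` and ON-PERP `nd_perp_in`
(helper81's S5989 hive "On") -/

set_option autoImplicit false
set_option linter.unusedSectionVars false

namespace Cfsg.Agent.Lib.Helper81.On

open Module
open Cfsg.Agent.Lib.Helper2.BG Cfsg.Agent.Lib.Helper99 Cfsg.Agent.Lib.Helper48.Ti

section abstract

variable {F V : Type*} [Field F] [AddCommGroup V] [Module F V] [FiniteDimensional F V]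
variable {B : V →ₗ[F] V →ₗ[F] F}

/-- ON-OSUM (1): orthogonal sum of two nondegenerate subspaces (symmetric form) -/
theorem nd_sup_of_orth (hB : ∀ u v, B u v = B v u) {U U' : Submodule F V} (hU : Nd B U)
    (hU' : Nd B U') (horth : ∀ u ∈ U, ∀ v ∈ U', B u v = 0) :
    Nd B (U ⊔ U') ∧ Disjoint U U' := by
  constructor
  · intro x hx hxy
    obtain ⟨u, hu, v, hv, rfl⟩ := Submodule.mem_sup.mp hx
    have hu0 : u = 0 := by
      apply hU u hu
      intro y hy
      have h := hxy y (Submodule.mem_sup_left hy)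
      rw [map_add, LinearMap.add_apply, hB v y, horth y hy v hv, add_zero] at h
      exact h
    have hv0 : v = 0 := by
      apply hU' v hv
      intro y hy
      have h := hxy y (Submodule.mem_sup_right hy)
      rw [map_add, LinearMap.add_apply, horth u hu y hy, zero_add] at h
      exact h
    rw [hu0, hv0, add_zero]
  · rw [Submodule.disjoint_def]
    intro x hx hx'
    exact hU' x hx' (fun y hy => horth x hx y hy)

/-- the sum map `U × U' → U ⊔ U'` as a linear equivalence, for disjoint `U`, `U'` -/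
noncomputable def osumEquiv {U U' : Submodule F V} (hd : Disjoint U U') :
    (U × U') ≃ₗ[F] ↥(U ⊔ U') :=
  LinearEquiv.ofBijective
    (LinearMap.codRestrict (U ⊔ U') (U.subtype.coprod U'.subtype)
      (fun x => by
        rw [LinearMap.coprod_apply]
        exact Submodule.add_mem_sup x.1.2 x.2.2))
    (by
      constructor
      · rw [← LinearMap.ker_eq_bot, LinearMap.ker_eq_bot']
        rintro ⟨a, b⟩ hab
        have h0 : (a : V) + (b : V) = 0 := congrArg Subtype.val hab
        have ha : (a : V) ∈ U ⊓ U' := by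
          refine Submodule.mem_inf.2 ⟨a.2, ?_⟩
          have : (a : V) = -(b : V) := eq_neg_of_add_eq_zero_left h0
          rw [this]
          exact U'.neg_mem b.2
        rw [hd.eq_bot, Submodule.mem_bot] at ha
        have hb : (b : V) = 0 := by rw [ha, zero_add] at h0; exact h0
        exact Prod.ext (Subtype.ext ha) (Subtype.ext hb)
      · rintro ⟨x, hx⟩
        obtain ⟨u, hu, v, hv, rfl⟩ := Submodule.mem_sup.mp hx
        exact ⟨(⟨u, hu⟩, ⟨v, hv⟩), Subtype.ext rfl⟩)

theorem osum_equiv_coe {U U' : Submodule F V} (hd : Disjoint U U') (x : U × U') :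
    ((osumEquiv hd x : ↥(U ⊔ U')) : V) = (x.1 : V) + (x.2 : V) := rfl

/-- ON-OSUM (2): orthogonal sums of isometric pieces are isometric -/
theorem sameType_sup (hB : ∀ u v, B u v = B v u) {U U' T T' : Submodule F V}
    (hUU' : ∀ u ∈ U, ∀ v ∈ U', B u v = 0) (hTT' : ∀ u ∈ T, ∀ v ∈ T', B u v = 0)
    (hdU : Disjoint U U') (hdT : Disjoint T T')
    (h : SameType B U T) (h' : SameType B U' T') : SameType B (U ⊔ U') (T ⊔ T') := by
  obtain ⟨e, he⟩ := h
  obtain ⟨e', he'⟩ := h'
  refine ⟨(osumEquiv hdU).symm.trans ((e.prodCongr e').trans (osumEquiv hdT)), ?_⟩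
  intro x y
  obtain ⟨⟨a, a'⟩, rfl⟩ := (osumEquiv hdU).surjective x
  obtain ⟨⟨b, b'⟩, rfl⟩ := (osumEquiv hdU).surjective y
  simp only [LinearEquiv.trans_apply, LinearEquiv.symm_apply_apply, LinearEquiv.prodCongr_apply,
    osum_equiv_coe, map_add, LinearMap.add_apply]
  rw [he, he', hTT' _ (e a).2 _ (e' b').2, hB (e' a' : V) (e b : V), hTT' _ (e b).2 _ (e' a').2,
    hUU' _ a.2 _ b'.2, hB (a' : V) (b : V), hUU' _ b.2 _ a'.2]

/-- ON-PERP: the orthogonal complement of a nondegenerate subspace inside a nondegenerate one -/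
theorem nd_perp_in (hB : ∀ u v, B u v = B v u) {W W' : Submodule F V} (hW : Nd B W)
    (hW' : Nd B W') (hle : W' ≤ W) :
    ∃ W'' : Submodule F V, W'' ≤ W ∧ Nd B W'' ∧ (∀ u ∈ W', ∀ v ∈ W'', B u v = 0) ∧
      Disjoint W' W'' ∧ W' ⊔ W'' = W := by
  have hrefl : LinearMap.BilinForm.IsRefl B := fun u v h => by rw [hB]; exact h
  have hres : (LinearMap.BilinForm.restrict B W').Nondegenerate := by
    refine ⟨?_, ?_⟩
    · intro u hu
      apply Subtype.ext
      apply hW' u u.2
      intro v hv
      exact hu ⟨v, hv⟩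
    · intro u hu
      apply Subtype.ext
      apply hW' u u.2
      intro v hv
      rw [hB]
      exact hu ⟨v, hv⟩
  have hc : IsCompl W' (LinearMap.BilinForm.orthogonal B W') :=
    LinearMap.BilinForm.isCompl_orthogonal_of_restrict_nondegenerate hrefl hres
  have hdisj : Disjoint W' (W ⊓ LinearMap.BilinForm.orthogonal B W') :=
    hc.disjoint.mono_right inf_le_right
  have hsup : W' ⊔ W ⊓ LinearMap.BilinForm.orthogonal B W' = W := by
    have h1 : (W' ⊔ LinearMap.BilinForm.orthogonal B W') ⊓ W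
        = W' ⊔ LinearMap.BilinForm.orthogonal B W' ⊓ W :=
      sup_inf_assoc_of_le (LinearMap.BilinForm.orthogonal B W') hle
    rw [hc.sup_eq_top, top_inf_eq] at h1
    rw [inf_comm W, ← h1]
  have horth : ∀ u ∈ W', ∀ v ∈ W ⊓ LinearMap.BilinForm.orthogonal B W', B u v = 0 := by
    intro u hu v hv
    exact LinearMap.BilinForm.mem_orthogonal_iff.1 (Submodule.mem_inf.1 hv).2 u hu
  refine ⟨W ⊓ LinearMap.BilinForm.orthogonal B W', inf_le_left, ?_, horth, hdisj, hsup⟩
  intro u hu hu0
  apply hW u (Submodule.mem_inf.1 hu).1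
  intro v hv
  rw [← hsup] at hv
  obtain ⟨w, hw, m, hm, rfl⟩ := Submodule.mem_sup.1 hv
  rw [map_add, hB u w, horth w hw u hu, hu0 m hm, add_zero]

end abstract

end Cfsg.Agent.Lib.Helper81.On
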