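import Mathlib

/-!
A proper characteristic "Frattini-like" subgroup of a nontrivial finite `p`-group `M ≤ R`:
the subgroup generated by the commutators and the `p`-th powers of elements of `M`.
-/

set_option autoImplicit false

namespace Cfsg.Agent.Lib.Helper31.Phi

open scoped commutatorElement

variable {R : Type*} [Group R]

/-- the subgroup generated by commutators and `p`-th powers of elements of `M`. -/
def phiOf (M : Subgroup R) (p : ℕ) : Subgroup R :=
  Subgroup.closure ({c | ∃ x ∈ M, ∃ y ∈ M, c = ⁅x, y⁆} ∪ {c | ∃ x ∈ M, c = x ^ p})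

theorem phiOf_le (M : Subgroup R) (p : ℕ) : phiOf M p ≤ M := by
  unfold phiOf
  rw [Subgroup.closure_le]
  rintro c (⟨x, hx, y, hy, rfl⟩ | ⟨x, hx, rfl⟩)
  · rw [commutatorElement_def]
    exact M.mul_mem (M.mul_mem (M.mul_mem hx hy) (M.inv_mem hx)) (M.inv_mem hy)
  · exact M.pow_mem hx p

theorem comm_mem_phiOf {M : Subgroup R} {p : ℕ} {x y : R} (hx : x ∈ M) (hy : y ∈ M) :
    ⁅x, y⁆ ∈ phiOf M p :=
  Subgroup.subset_closure (Or.inl ⟨x, hx, y, hy, rfl⟩)

theorem pow_mem_phiOf {M : Subgroup R} {p : ℕ} {x : R} (hx : x ∈ M) : x ^ p ∈ phiOf M p :=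
  Subgroup.subset_closure (Or.inr ⟨x, hx, rfl⟩)

theorem map_mem_phiOf {M : Subgroup R} {p : ℕ} (α : MulAut R) (hα : ∀ x ∈ M, α x ∈ M) :
    ∀ c ∈ phiOf M p, α c ∈ phiOf M p := by
  intro c hc
  unfold phiOf at hc
  induction hc using Subgroup.closure_induction with
  | mem c hc =>
    rcases hc with ⟨x, hx, y, hy, rfl⟩ | ⟨x, hx, rfl⟩
    · rw [map_commutatorElement]
      exact comm_mem_phiOf (hα x hx) (hα y hy)
    · rw [map_pow]
      exact pow_mem_phiOf (hα x hx)
  | one => rw [map_one]; exact one_mem _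
  | mul a b _ _ ha hb => rw [map_mul]; exact mul_mem ha hb
  | inv a _ ha => rw [map_inv]; exact inv_mem ha

theorem conj_mem_phiOf {M : Subgroup R} {p : ℕ} {x : R} (hx : x ∈ M) :
    ∀ c ∈ phiOf M p, x * c * x⁻¹ ∈ phiOf M p := by
  intro c hc
  have := map_mem_phiOf (p := p) (M := M) (MulAut.conj x)
    (fun y hy => by
      rw [MulAut.conj_apply]
      exact M.mul_mem (M.mul_mem hx hy) (M.inv_mem hx)) c hc
  rwa [MulAut.conj_apply] at this

theorem phiOf_ne [Finite R] {p : ℕ} [Fact p.Prime] (M : Subgroup R) (hM : IsPGroup p M)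
    (hne : M ≠ ⊥) : phiOf M p ≠ M := by
  have hp : p.Prime := Fact.out
  obtain ⟨n, hn⟩ := IsPGroup.iff_card.1 hM
  have hn0 : n ≠ 0 := by
    rintro rfl
    rw [pow_zero] at hn
    exact hne (Subgroup.card_eq_one.1 hn)
  have hdvd : p ^ (n - 1) ∣ Nat.card M := by
    rw [hn]; exact pow_dvd_pow p (Nat.sub_le n 1)
  obtain ⟨H, hH⟩ := Sylow.exists_subgroup_card_pow_prime p hdvd
  have hidx : H.index = p := by
    have h1 := Subgroup.card_mul_index H
    rw [hH, hn] at h1
    have h2 : p ^ n = p ^ (n - 1) * p := by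
      rw [← pow_succ, Nat.sub_add_cancel (Nat.pos_of_ne_zero hn0)]
    rw [h2] at h1
    exact Nat.eq_of_mul_eq_mul_left (pow_pos hp.pos _) h1
  have hnorm : H.Normal := by
    apply Subgroup.normal_of_index_eq_minFac_card
    rw [hidx, hn, hp.pow_minFac hn0]
  have hpow : ∀ x : M, x ^ p ∈ H := by
    intro x
    have := Subgroup.pow_index_mem H x
    rwa [hidx] at this
  have hcomm : commutator M ≤ H := by
    rw [← Subgroup.Normal.quotient_commutative_iff_commutator_le]
    have hcard : Nat.card (M ⧸ H) = p := by rw [← Subgroup.index_eq_card, hidx]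
    have hcyc : IsCyclic (M ⧸ H) := isCyclic_of_prime_card hcard
    exact IsCyclic.isMulCommutative
  have hle : phiOf M p ≤ H.map M.subtype := by
    unfold phiOf
    rw [Subgroup.closure_le]
    rintro c (⟨x, hx, y, hy, rfl⟩ | ⟨x, hx, rfl⟩)
    · refine ⟨⁅(⟨x, hx⟩ : M), ⟨y, hy⟩⁆, hcomm ?_, ?_⟩
      · rw [commutator_def]
        exact Subgroup.commutator_mem_commutator (Subgroup.mem_top _) (Subgroup.mem_top _)
      · rw [map_commutatorElement]; rfl
    · exact ⟨(⟨x, hx⟩ : M) ^ p, hpow _, by rw [map_pow]; rfl⟩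
  intro heq
  have h1 : Nat.card (H.map M.subtype) = p ^ (n - 1) := by
    rw [Subgroup.card_map_of_injective M.subtype_injective, hH]
  have h2 : Nat.card M ≤ Nat.card (H.map M.subtype) := by
    apply Subgroup.card_le_of_le
    exact heq.ge.trans hle
  rw [h1, hn] at h2
  have h3 : p ^ (n - 1) < p ^ n :=
    Nat.pow_lt_pow_right hp.one_lt (Nat.sub_lt (Nat.pos_of_ne_zero hn0) Nat.one_pos)
  omega

end Cfsg.Agent.Lib.Helper31.Phi
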