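import Mathlib

/-!
# Power graphs: number theory and cyclic subgroup facts (helper31)
-/

set_option autoImplicit false

namespace Cfsg.Agent.Lib.Helper31.PowerGraph

open Subgroup

/-! ### Divisors of a number that is not a prime power -/

/-- the proper nontrivial divisors -/
def PD (m d : ℕ) : Prop := d ∣ m ∧ d ≠ 1 ∧ d ≠ m

/-- incomparable under divisibility -/
def Inc (a b : ℕ) : Prop := ¬ a ∣ b ∧ ¬ b ∣ a

theorem Inc.symm {a b : ℕ} (h : Inc a b) : Inc b a := ⟨h.2, h.1⟩

theorem exists_other_prime {m : ℕ} (hm0 : m ≠ 0) (hm1 : m ≠ 1) (hpp : ¬ IsPrimePow m) (r : ℕ) :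
    ∃ t : ℕ, t.Prime ∧ t ∣ m ∧ t ≠ r := by
  by_contra hcon
  push Not at hcon
  -- every prime divisor equals r
  have hr : ∀ t : ℕ, t.Prime → t ∣ m → t = r := hcon
  obtain ⟨t, ht, htm⟩ := Nat.exists_prime_and_dvd hm1
  have htr := hr t ht htm
  subst htr
  have := Nat.eq_prime_pow_of_unique_prime_dvd hm0 (fun {d} hd hdm => hr d hd hdm)
  apply hpp
  rw [this]
  refine IsPrimePow.pow ht.isPrimePow ?_
  intro h0
  rw [h0, pow_zero] at this
  exact hm1 this

theorem M_pd {m t : ℕ} (hm0 : m ≠ 0) (hpp : ¬ IsPrimePow m) (ht : t.Prime) (htm : t ∣ m) :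
    PD m (m / t) := by
  refine ⟨Nat.div_dvd_of_dvd htm, ?_, ?_⟩
  · intro h
    have : m = t := by
      have := Nat.div_mul_cancel htm
      rw [h, one_mul] at this
      exact this.symm
    exact hpp (this ▸ ht.isPrimePow)
  · intro h
    have h1 := Nat.div_mul_cancel htm
    rw [h] at h1
    have : t = 1 := by
      have hm : 0 < m := Nat.pos_of_ne_zero hm0
      exact Nat.eq_of_mul_eq_mul_left hm (by rw [h1, mul_one])
    exact ht.one_lt.ne' this

theorem e_pd {m t : ℕ} (hm0 : m ≠ 0) (hpp : ¬ IsPrimePow m) (ht : t.Prime) (htm : t ∣ m) :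
    PD m (t ^ m.factorization t) := by
  have hk : 0 < m.factorization t := ht.factorization_pos_of_dvd hm0 htm
  refine ⟨Nat.ordProj_dvd m t, ?_, ?_⟩
  · intro h
    have := Nat.one_lt_pow hk.ne' ht.one_lt
    omega
  · intro h
    apply hpp
    rw [← h]
    exact IsPrimePow.pow ht.isPrimePow hk.ne'

theorem inc_M_M {m s t : ℕ} (hm0 : m ≠ 0) (hs : s.Prime) (ht : t.Prime) (hsm : s ∣ m) (htm : t ∣ m)
    (hst : s ≠ t) : Inc (m / s) (m / t) := by
  have key : ∀ s t : ℕ, s.Prime → t.Prime → s ∣ m → t ∣ m → s ≠ t → ¬ m / s ∣ m / t := by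
    intro s t hs ht hsm htm hst hdvd
    obtain ⟨k, hk⟩ := hdvd
    have h1 : m / s * s = m := Nat.div_mul_cancel hsm
    have h2 : m / t * t = m := Nat.div_mul_cancel htm
    have hpos : 0 < m / s := by
      rcases Nat.eq_zero_or_pos (m / s) with h | h
      · rw [h, zero_mul] at h1; exact absurd h1.symm hm0
      · exact h
    have h3 : m / s * (k * t) = m / s * s := by
      rw [h1, ← mul_assoc, ← hk, h2]
    have h4 : k * t = s := Nat.eq_of_mul_eq_mul_left hpos h3
    have h5 : t ∣ s := ⟨k, by rw [← h4, mul_comm]⟩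
    have := (Nat.prime_dvd_prime_iff_eq ht hs).mp h5
    exact hst this.symm
  exact ⟨key s t hs ht hsm htm hst, key t s ht hs htm hsm hst.symm⟩

theorem inc_e_M {m t : ℕ} (hm0 : m ≠ 0) (hm1 : m ≠ 1) (hpp : ¬ IsPrimePow m) (ht : t.Prime)
    (htm : t ∣ m) : Inc (t ^ m.factorization t) (m / t) := by
  constructor
  · intro h
    have h1 : t ^ m.factorization t * t ∣ m / t * t := Nat.mul_dvd_mul_right h t
    rw [Nat.div_mul_cancel htm, ← pow_succ] at h1
    exact Nat.pow_succ_factorization_not_dvd hm0 ht h1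
  · intro h
    have h1 : m / t * t ∣ t ^ m.factorization t * t := Nat.mul_dvd_mul_right h t
    rw [Nat.div_mul_cancel htm, ← pow_succ] at h1
    obtain ⟨j, -, hj⟩ := (Nat.dvd_prime_pow ht).mp h1
    apply hpp
    rw [hj]
    refine IsPrimePow.pow ht.isPrimePow ?_
    intro h0
    rw [h0, pow_zero] at hj
    exact hm1 hj

/-- every proper nontrivial divisor is incomparable with some `m / t` or some full prime part -/
theorem exists_inc {m d : ℕ} (hm0 : m ≠ 0) (hm1 : m ≠ 1) (hpp : ¬ IsPrimePow m) (hd : PD m d) :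
    ∃ t : ℕ, t.Prime ∧ t ∣ m ∧ (Inc d (m / t) ∨ Inc d (t ^ m.factorization t)) := by
  obtain ⟨hdm, hd1, hdne⟩ := hd
  obtain ⟨r, hr, hrd⟩ := Nat.exists_prime_and_dvd hd1
  obtain ⟨t, ht, htm, htr⟩ := exists_other_prime hm0 hm1 hpp r
  refine ⟨t, ht, htm, ?_⟩
  have hd0 : d ≠ 0 := fun h => by rw [h, zero_dvd_iff] at hdm; exact hm0 hdm
  have h1 : ¬ d ∣ t ^ m.factorization t := by
    intro h
    have : r ∣ t ^ m.factorization t := hrd.trans h
    have := (Nat.prime_dvd_prime_iff_eq hr ht).mp (hr.dvd_of_dvd_pow this)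
    exact htr this.symm
  by_cases h2 : t ^ m.factorization t ∣ d
  · left
    constructor
    · intro h
      have h3 : t ^ m.factorization t * t ∣ m / t * t := Nat.mul_dvd_mul_right (h2.trans h) t
      rw [Nat.div_mul_cancel htm, ← pow_succ] at h3
      exact Nat.pow_succ_factorization_not_dvd hm0 ht h3
    · intro h
      -- m / t ∣ d ∣ m, d ≠ m forces d = m / t, contradiction with the t-part
      obtain ⟨j, hj⟩ := h
      obtain ⟨i, hi⟩ := hdm
      have h4 : m / t * t = m := Nat.div_mul_cancel htm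
      have hpos : 0 < m / t := by
        rcases Nat.eq_zero_or_pos (m / t) with h | h
        · rw [h, zero_mul] at h4; exact absurd h4.symm hm0
        · exact h
      have h5 : m / t * (j * i) = m / t * t := by
        rw [h4, ← mul_assoc, ← hj, ← hi]
      have h6 : j * i = t := Nat.eq_of_mul_eq_mul_left hpos h5
      have h7 : j ∣ t := ⟨i, h6.symm⟩
      rcases (Nat.dvd_prime ht).mp h7 with hj1 | hjt
      · -- d = m / t
        rw [hj1, mul_one] at hj
        rw [hj] at h2
        have h3 : t ^ m.factorization t * t ∣ m / t * t := Nat.mul_dvd_mul_right h2 t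
        rw [Nat.div_mul_cancel htm, ← pow_succ] at h3
        exact Nat.pow_succ_factorization_not_dvd hm0 ht h3
      · -- d = m
        rw [hjt, h4] at hj
        exact hdne hj
  · right
    exact ⟨h1, h2⟩

end Cfsg.Agent.Lib.Helper31.PowerGraph
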