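import Cfsg.Agent.Lib.Helper31.PowerGraph1

/-!
# Power graphs: adjacency, dominating vertices, closed twins (helper31)
-/

set_option autoImplicit false

namespace Cfsg.Agent.Lib.Helper31.PowerGraph

open Subgroup

variable {G : Type*} [Group G]

/-- adjacency (or equality) in the power graph -/
def Adj (x y : G) : Prop := x ∈ zpowers y ∨ y ∈ zpowers x

theorem Adj.symm {x y : G} (h : Adj x y) : Adj y x := Or.symm h

theorem Adj.refl (x : G) : Adj x x := Or.inl (mem_zpowers x)

theorem adj_one (x : G) : Adj 1 x := Or.inl (one_mem _)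

theorem adj_of_mem {x y : G} (h : x ∈ zpowers y) : Adj x y := Or.inl h

theorem Adj.orderOf_dvd {x y : G} (h : Adj x y) : orderOf x ∣ orderOf y ∨ orderOf y ∣ orderOf x := by
  rcases h with h | h
  · exact Or.inl (orderOf_dvd_of_mem_zpowers h)
  · exact Or.inr (orderOf_dvd_of_mem_zpowers h)

theorem not_adj_of_inc {x y : G} (h : Inc (orderOf x) (orderOf y)) : ¬ Adj x y := by
  intro ha
  rcases ha.orderOf_dvd with h1 | h1
  · exact h.1 h1
  · exact h.2 h1

/-- dominating vertex -/
def Dom (x : G) : Prop := ∀ y, Adj x y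

/-- same closed neighbourhood -/
def Eqv (x y : G) : Prop := ∀ z, Adj x z ↔ Adj y z

theorem Eqv.symm {x y : G} (h : Eqv x y) : Eqv y x := fun z => (h z).symm

theorem Eqv.adj {x y : G} (h : Eqv x y) : Adj x y := (h y).mpr (Adj.refl y)

theorem eqv_of_zpowers_eq {x y : G} (h : zpowers x = zpowers y) : Eqv x y := by
  intro z
  unfold Adj
  rw [h, ← zpowers_le (g := x), ← zpowers_le (g := y), h]

theorem dom_one : Dom (1 : G) := adj_one

section finite

variable [Finite G]

theorem zpowers_eq_of_mem_of_orderOf_eq {x y : G} (h : x ∈ zpowers y) (ho : orderOf x = orderOf y) :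
    zpowers x = zpowers y := by
  apply Subgroup.eq_of_le_of_card_ge (zpowers_le.mpr h)
  rw [Nat.card_zpowers, Nat.card_zpowers, ho]

/-- in a cyclic group, the element orders decide membership -/
theorem mem_zpowers_of_orderOf_dvd {y u v : G} (hu : u ∈ zpowers y) (hv : v ∈ zpowers y)
    (h : orderOf u ∣ orderOf v) : u ∈ zpowers v := by
  rw [← mem_powers_iff_mem_zpowers] at hu hv
  obtain ⟨s, rfl⟩ := hu
  obtain ⟨t, rfl⟩ := hv
  set m := orderOf y with hm
  have hm0 : 0 < m := orderOf_pos y
  set g := Nat.gcd m t with hg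
  have hgpos : 0 < g := Nat.gcd_pos_of_pos_left t hm0
  have hn : orderOf (y ^ t) = m / g := orderOf_pow y
  have h1 : (y ^ s) ^ (m / g) = 1 := by
    rw [← hn]
    exact orderOf_dvd_iff_pow_eq_one.mp h
  rw [← pow_mul] at h1
  have h2 : m ∣ s * (m / g) := orderOf_dvd_of_pow_eq_one h1
  obtain ⟨n, hn'⟩ : g ∣ m := Nat.gcd_dvd_left m t
  have hnpos : 0 < n := by
    rcases Nat.eq_zero_or_pos n with h0 | h0
    · rw [h0, mul_zero] at hn'; omega
    · exact h0
  have h3 : m / g = n := by rw [hn']; exact Nat.mul_div_cancel_left n hgpos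
  rw [h3, hn'] at h2
  have h4 : g ∣ s := by
    have : g * n ∣ s * n := h2
    exact Nat.dvd_of_mul_dvd_mul_right hnpos this
  obtain ⟨k, rfl⟩ := h4
  -- y ^ g is a power of y ^ t
  have h5 : y ^ g ∈ zpowers (y ^ t) := by
    have hb := Nat.gcd_eq_gcd_ab m t
    have : (y ^ g : G) = (y ^ t) ^ (Nat.gcdB m t) := by
      rw [← zpow_natCast y g, hg, hb, zpow_add, zpow_mul, zpow_mul, zpow_natCast, zpow_natCast,
        hm, pow_orderOf_eq_one, one_zpow, one_mul]
    rw [this]
    exact zpow_mem_zpowers _ _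
  show y ^ (g * k) ∈ zpowers (y ^ t)
  rw [pow_mul]
  exact pow_mem h5 k

/-- the element of a given order in a cyclic subgroup -/
theorem exists_mem_zpowers_orderOf {y : G} {c : ℕ} (hc : c ∣ orderOf y) :
    ∃ z ∈ zpowers y, orderOf z = c :=
  ⟨y ^ (orderOf y / c), pow_mem (mem_zpowers y) _, orderOf_pow_orderOf_div (orderOf_pos y).ne' hc⟩

/-- in a cyclic group of prime power order any two elements are adjacent -/
theorem adj_of_isPrimePow {y u v : G} (hpp : IsPrimePow (orderOf y)) (hu : u ∈ zpowers y)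
    (hv : v ∈ zpowers y) : Adj u v := by
  obtain ⟨r, k, hr, hk, hrk⟩ := hpp
  have hr' : r.Prime := hr.nat_prime
  have h1 : orderOf u ∣ r ^ k := hrk ▸ orderOf_dvd_of_mem_zpowers hu
  have h2 : orderOf v ∣ r ^ k := hrk ▸ orderOf_dvd_of_mem_zpowers hv
  obtain ⟨i, -, hi⟩ := (Nat.dvd_prime_pow hr').mp h1
  obtain ⟨j, -, hj⟩ := (Nat.dvd_prime_pow hr').mp h2
  rcases le_total i j with hij | hij
  · left
    apply mem_zpowers_of_orderOf_dvd hu hv
    rw [hi, hj]; exact pow_dvd_pow r hij
  · right
    apply mem_zpowers_of_orderOf_dvd hv hu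
    rw [hi, hj]; exact pow_dvd_pow r hij

/-- A group with a nonidentity dominating vertex is cyclic or of prime power order. -/
theorem cyclic_or_primePow_of_dom {x : G} (hx : x ≠ 1) (hd : Dom x) :
    IsCyclic G ∨ ∃ r k : ℕ, r.Prime ∧ Nat.card G = r ^ k := by
  by_cases hpp : IsPrimePow (orderOf x)
  · right
    obtain ⟨r, a, hr, ha, hra⟩ := hpp
    have hr' : r.Prime := hr.nat_prime
    refine ⟨r, _, hr', Nat.eq_prime_pow_of_unique_prime_dvd Nat.card_pos.ne' ?_⟩
    intro s hs hsG
    have : Fact s.Prime := ⟨hs⟩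
    obtain ⟨u, hu⟩ := exists_prime_orderOf_dvd_card' s hsG
    rcases (hd u).orderOf_dvd with h | h
    · rw [← hra, hu] at h
      -- r ^ a ∣ s, so r ∣ s
      have h1 : r ∣ s := (dvd_pow_self r ha.ne').trans h
      exact ((Nat.prime_dvd_prime_iff_eq hr' hs).mp h1).symm
    · rw [← hra, hu] at h
      exact (Nat.prime_dvd_prime_iff_eq hs hr').mp (hs.dvd_of_dvd_pow h)
  · left
    -- every element of prime power order lies in `zpowers x`
    have key : ∀ (s : ℕ) [Fact s.Prime] (P : Sylow s G), (P : Subgroup G) ≤ zpowers x := by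
      intro s _ P u hu
      rcases hd u with h | h
      · -- x ∈ zpowers u, so the order of x is a power of s
        exfalso
        obtain ⟨k, hk⟩ := P.2 ⟨u, hu⟩
        have hk' : u ^ s ^ k = 1 := by
          have := congrArg Subtype.val hk
          simpa using this
        have hou : orderOf u ∣ s ^ k := orderOf_dvd_of_pow_eq_one hk'
        have hox : orderOf x ∣ s ^ k := (orderOf_dvd_of_mem_zpowers h).trans hou
        obtain ⟨j, -, hj⟩ := (Nat.dvd_prime_pow (Fact.out : s.Prime)).mp hox
        rcases Nat.eq_zero_or_pos j with h0 | h0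
        · rw [h0, pow_zero, orderOf_eq_one_iff] at hj
          exact hx hj
        · apply hpp
          rw [hj]
          exact IsPrimePow.pow (Fact.out : s.Prime).isPrimePow h0.ne'
      · exact h
    have htop : zpowers x = ⊤ := by
      apply Subgroup.eq_top_of_card_eq
      apply Nat.dvd_antisymm (Subgroup.card_subgroup_dvd_card _)
      rw [← Nat.factorization_le_iff_dvd Nat.card_pos.ne' Nat.card_pos.ne']
      intro s
      by_cases hs : s.Prime
      · have : Fact s.Prime := ⟨hs⟩
        obtain ⟨P⟩ : Nonempty (Sylow s G) := inferInstance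
        have h1 : Nat.card P ∣ Nat.card (zpowers x) := Subgroup.card_dvd_of_le (key s P)
        rw [P.card_eq_multiplicity] at h1
        exact (hs.pow_dvd_iff_le_factorization Nat.card_pos.ne').mp h1
      · rw [Nat.factorization_eq_zero_of_not_prime _ hs]
        exact Nat.zero_le _
    exact isCyclic_iff_exists_zpowers_eq_top.mpr ⟨x, htop⟩

/-- closed twins of an element of non-prime-power order generate the same subgroup -/
theorem zpowers_eq_of_eqv {x y : G} (hxy : Eqv x y) (hx : x ≠ 1) (hy : y ≠ 1)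
    (hpp : ¬ IsPrimePow (orderOf y)) : zpowers x = zpowers y := by
  -- one-sided version
  have key : ∀ x y : G, Eqv x y → x ≠ 1 → ¬ IsPrimePow (orderOf y) → x ∈ zpowers y →
      zpowers x = zpowers y := by
    intro x y hxy hx hpp hmem
    by_contra hne
    have hm0 : orderOf y ≠ 0 := (orderOf_pos y).ne'
    have hm1 : orderOf y ≠ 1 := by
      intro h
      rw [orderOf_eq_one_iff] at h
      rw [h, zpowers_one_eq_bot, mem_bot] at hmem
      exact hx hmem
    have hd : PD (orderOf y) (orderOf x) := by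
      refine ⟨orderOf_dvd_of_mem_zpowers hmem, ?_, ?_⟩
      · rw [Ne, orderOf_eq_one_iff]; exact hx
      · intro h
        exact hne (zpowers_eq_of_mem_of_orderOf_eq hmem h)
    obtain ⟨t, ht, htm, hinc⟩ := exists_inc hm0 hm1 hpp hd
    have hex : ∃ c : ℕ, c ∣ orderOf y ∧ Inc (orderOf x) c := by
      rcases hinc with h | h
      · exact ⟨_, Nat.div_dvd_of_dvd htm, h⟩
      · exact ⟨_, Nat.ordProj_dvd _ _, h⟩
    obtain ⟨c, hc, hinc'⟩ := hex
    obtain ⟨z, hz, hzc⟩ := exists_mem_zpowers_orderOf hc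
    have h1 : Adj y z := (adj_of_mem hz).symm
    have h2 : Adj x z := (hxy z).mpr h1
    rw [← hzc] at hinc'
    exact not_adj_of_inc hinc' h2
  rcases hxy.adj with h | h
  · exact key x y hxy hx hpp h
  · have hpp' : ¬ IsPrimePow (orderOf x) := by
      intro hx'
      obtain ⟨r, k, hr, hk, hrk⟩ := hx'
      have h1 : orderOf y ∣ r ^ k := hrk ▸ orderOf_dvd_of_mem_zpowers h
      obtain ⟨j, -, hj⟩ := (Nat.dvd_prime_pow hr.nat_prime).mp h1
      rcases Nat.eq_zero_or_pos j with h0 | h0
      · rw [h0, pow_zero, orderOf_eq_one_iff] at hj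
        exact hy hj
      · apply hpp
        rw [hj]
        exact IsPrimePow.pow hr.nat_prime.isPrimePow h0.ne'
    exact (key y x hxy.symm hy hpp' h).symm

end finite

end Cfsg.Agent.Lib.Helper31.PowerGraph
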