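import Cfsg.Agent.Lib.Helper31.PowerGraph2

/-!
# Power graphs: co-connectedness below an element, counting generators, a totient bound (helper31)
-/

set_option autoImplicit false

namespace Cfsg.Agent.Lib.Helper31.PowerGraph

open Subgroup

variable {G : Type*} [Group G] [Finite G]

/-- The nontrivial non-generators of a cyclic group of non-prime-power order are connected under
non-adjacency: a set containing one of them and closed under non-adjacency contains all. -/
theorem lplus_subset {y : G} (hy1 : y ≠ 1) (hpp : ¬ IsPrimePow (orderOf y)) (E : Set G) (a : G)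
    (haE : a ∈ E) (ha : a ∈ zpowers y) (ha1 : a ≠ 1) (hay : zpowers a ≠ zpowers y)
    (hcl : ∀ w x : G, w ∈ zpowers y → w ≠ 1 → zpowers w ≠ zpowers y → x ∈ E → x ∈ zpowers y →
      ¬ Adj w x → w ∈ E) :
    ∀ w ∈ zpowers y, w ≠ 1 → zpowers w ≠ zpowers y → w ∈ E := by
  have hm0 : orderOf y ≠ 0 := (orderOf_pos y).ne'
  have hm1 : orderOf y ≠ 1 := by rw [Ne, orderOf_eq_one_iff]; exact hy1
  have hPD : ∀ w ∈ zpowers y, w ≠ 1 → zpowers w ≠ zpowers y → PD (orderOf y) (orderOf w) := by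
    intro w hw hw1 hwy
    refine ⟨orderOf_dvd_of_mem_zpowers hw, ?_, ?_⟩
    · rw [Ne, orderOf_eq_one_iff]; exact hw1
    · intro h; exact hwy (zpowers_eq_of_mem_of_orderOf_eq hw h)
  -- the step
  have step : ∀ d d' : ℕ, PD (orderOf y) d → Inc d d' →
      (∃ x ∈ E, x ∈ zpowers y ∧ orderOf x = d') → ∀ w ∈ zpowers y, orderOf w = d → w ∈ E := by
    rintro d d' ⟨-, hd1, hdm⟩ hinc ⟨x, hxE, hxy, hxd⟩ w hw hwd
    refine hcl w x hw ?_ ?_ hxE hxy ?_
    · rintro rfl
      rw [orderOf_one] at hwd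
      exact hd1 hwd.symm
    · intro h
      have : orderOf w = orderOf y := by
        rw [← Nat.card_zpowers, ← Nat.card_zpowers, h]
      exact hdm (hwd ▸ this)
    · apply not_adj_of_inc
      rw [hwd, hxd]; exact hinc
  have wit : ∀ d' : ℕ, d' ∣ orderOf y → (∀ w ∈ zpowers y, orderOf w = d' → w ∈ E) →
      ∃ x ∈ E, x ∈ zpowers y ∧ orderOf x = d' := by
    intro d' hd' hP
    obtain ⟨z, hz, hzd⟩ := exists_mem_zpowers_orderOf hd'
    exact ⟨z, hP z hz hzd, hz, hzd⟩
  -- some `m / t` class lies in `E`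
  have hM1 : ∃ t : ℕ, t.Prime ∧ t ∣ orderOf y ∧ ∀ w ∈ zpowers y, orderOf w = orderOf y / t → w ∈ E := by
    obtain ⟨t, ht, htm, hinc⟩ := exists_inc hm0 hm1 hpp (hPD a ha ha1 hay)
    refine ⟨t, ht, htm, ?_⟩
    rcases hinc with h | h
    · exact step _ _ (M_pd hm0 hpp ht htm) h.symm ⟨a, haE, ha, rfl⟩
    · have he : ∀ w ∈ zpowers y, orderOf w = t ^ (orderOf y).factorization t → w ∈ E :=
        step _ _ (e_pd hm0 hpp ht htm) h.symm ⟨a, haE, ha, rfl⟩
      exact step _ _ (M_pd hm0 hpp ht htm) (inc_e_M hm0 hm1 hpp ht htm).symm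
        (wit _ (Nat.ordProj_dvd _ _) he)
  obtain ⟨t₀, ht₀, ht₀m, hPt₀⟩ := hM1
  have hM : ∀ s : ℕ, s.Prime → s ∣ orderOf y → ∀ w ∈ zpowers y, orderOf w = orderOf y / s → w ∈ E := by
    intro s hs hsm
    by_cases hst : s = t₀
    · subst hst; exact hPt₀
    · exact step _ _ (M_pd hm0 hpp hs hsm) (inc_M_M hm0 hs ht₀ hsm ht₀m hst)
        (wit _ (Nat.div_dvd_of_dvd ht₀m) hPt₀)
  have he : ∀ s : ℕ, s.Prime → s ∣ orderOf y →
      ∀ w ∈ zpowers y, orderOf w = s ^ (orderOf y).factorization s → w ∈ E := by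
    intro s hs hsm
    exact step _ _ (e_pd hm0 hpp hs hsm) (inc_e_M hm0 hm1 hpp hs hsm)
      (wit _ (Nat.div_dvd_of_dvd hsm) (hM s hs hsm))
  intro w hw hw1 hwy
  obtain ⟨t, ht, htm, hinc⟩ := exists_inc hm0 hm1 hpp (hPD w hw hw1 hwy)
  rcases hinc with h | h
  · exact step _ _ (hPD w hw hw1 hwy) h (wit _ (Nat.div_dvd_of_dvd htm) (hM t ht htm)) w hw rfl
  · exact step _ _ (hPD w hw hw1 hwy) h (wit _ (Nat.ordProj_dvd _ _) (he t ht htm)) w hw rfl

/-- the number of generators of a cyclic subgroup -/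
theorem card_generators (a : G) :
    Nat.card {z : G // zpowers z = zpowers a} = Nat.totient (orderOf a) := by
  classical
  have : Fintype (zpowers a) := Fintype.ofFinite _
  have hcard : Fintype.card (zpowers a) = orderOf a := by
    rw [← Nat.card_eq_fintype_card, Nat.card_zpowers]
  have h1 := IsCyclic.card_orderOf_eq_totient (α := zpowers a) (d := orderOf a) (by rw [hcard])
  rw [← h1, ← Fintype.card_subtype, ← Nat.card_eq_fintype_card]
  apply Nat.card_congr
  refine
    { toFun := fun z => ⟨⟨z.1, (SetLike.ext_iff.mp z.2 z.1).mp (mem_zpowers z.1)⟩, ?_⟩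
      invFun := fun z => ⟨z.1.1, ?_⟩
      left_inv := fun z => rfl
      right_inv := fun z => rfl }
  · rw [Subgroup.orderOf_mk, ← Nat.card_zpowers, z.2, Nat.card_zpowers]
  · have hz := z.2
    rw [← Subgroup.orderOf_coe] at hz
    exact zpowers_eq_of_mem_of_orderOf_eq z.1.2 hz

/-- a product bound -/
theorem prod_le_mul_prod_pred (M : ℕ) : ∀ S : Finset ℕ, (∀ r ∈ S, 2 ≤ r ∧ r ≤ M + 1) →
    ∏ r ∈ S, r ≤ (M + 1) * ∏ r ∈ S, (r - 1) := by
  induction M with
  | zero =>
    intro S hS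
    have : S = ∅ := by
      apply Finset.eq_empty_of_forall_notMem
      intro r hr
      have := hS r hr
      omega
    rw [this]; simp
  | succ M ih =>
    intro S hS
    by_cases hmem : M + 1 + 1 ∈ S
    · have hS' : ∀ r ∈ S.erase (M + 1 + 1), 2 ≤ r ∧ r ≤ M + 1 := by
        intro r hr
        rw [Finset.mem_erase] at hr
        have := hS r hr.2
        omega
      have h1 := ih _ hS'
      rw [← Finset.mul_prod_erase S _ hmem, ← Finset.mul_prod_erase S (fun r => r - 1) hmem]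
      have h2 : M + 1 + 1 - 1 = M + 1 := by omega
      rw [h2]
      calc (M + 1 + 1) * ∏ r ∈ S.erase (M + 1 + 1), r
          ≤ (M + 1 + 1) * ((M + 1) * ∏ r ∈ S.erase (M + 1 + 1), (r - 1)) :=
            Nat.mul_le_mul_left _ h1
        _ = (M + 1 + 1) * ((M + 1) * ∏ r ∈ S.erase (M + 1 + 1), (r - 1)) := rfl
    · have hS' : ∀ r ∈ S, 2 ≤ r ∧ r ≤ M + 1 := by
        intro r hr
        have := hS r hr
        have hne : r ≠ M + 1 + 1 := fun h => hmem (h ▸ hr)
        omega
      have h1 := ih S hS'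
      calc ∏ r ∈ S, r ≤ (M + 1) * ∏ r ∈ S, (r - 1) := h1
        _ ≤ (M + 1 + 1) * ∏ r ∈ S, (r - 1) := Nat.mul_le_mul_right _ (by omega)

/-- a bound for a number in terms of its totient -/
theorem le_totient_mul (n : ℕ) (hn : 0 < n) : n ≤ Nat.totient n * (Nat.totient n + 1) := by
  have hφ : 0 < Nat.totient n := Nat.totient_pos.mpr hn
  have hS : ∀ r ∈ n.primeFactors, 2 ≤ r ∧ r ≤ Nat.totient n + 1 := by
    intro r hr
    have hrp := Nat.prime_of_mem_primeFactors hr
    have hrn := Nat.dvd_of_mem_primeFactors hr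
    have h1 : Nat.totient r ∣ Nat.totient n := Nat.totient_dvd_of_dvd hrn
    rw [Nat.totient_prime hrp] at h1
    have h2 := Nat.le_of_dvd hφ h1
    have := hrp.two_le
    omega
  have h1 := prod_le_mul_prod_pred (Nat.totient n) n.primeFactors hS
  have h2 := Nat.totient_mul_prod_primeFactors n
  have hpos : 0 < ∏ r ∈ n.primeFactors, (r - 1) := by
    apply Finset.prod_pos
    intro r hr
    have := (Nat.prime_of_mem_primeFactors hr).two_le
    omega
  have h4 : n * ∏ r ∈ n.primeFactors, (r - 1) ≤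
      Nat.totient n * (Nat.totient n + 1) * ∏ r ∈ n.primeFactors, (r - 1) := by
    rw [← h2, mul_assoc]
    exact Nat.mul_le_mul_left _ h1
  exact Nat.le_of_mul_le_mul_right h4 hpos

end Cfsg.Agent.Lib.Helper31.PowerGraph
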