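import Cfsg.Agent.Lib.Helper31.PowerGraph3

/-!
# Power graphs: an isomorphism of power graphs preserves the prime graph (helper31)
-/

set_option autoImplicit false

namespace Cfsg.Agent.Lib.Helper31.PowerGraph

open Subgroup

theorem dvd_prime_mul_prime {p q d : ℕ} (hp : p.Prime) (hq : q.Prime) (h : d ∣ p * q) :
    d = 1 ∨ d = p ∨ d = q ∨ d = p * q := by
  obtain ⟨d1, d2, h1, h2, rfl⟩ := (Nat.dvd_mul).mp h
  rcases (Nat.dvd_prime hp).mp h1 with rfl | rfl <;> rcases (Nat.dvd_prime hq).mp h2 with rfl | rfl
  · left; rfl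
  · right; right; left; rw [one_mul]
  · right; left; rw [mul_one]
  · right; right; right; rfl

theorem not_isPrimePow_mul {p q : ℕ} (hp : p.Prime) (hq : q.Prime) (hpq : p ≠ q) :
    ¬ IsPrimePow (p * q) := by
  rintro ⟨r, k, hr, hk, hrk⟩
  have hr' := hr.nat_prime
  have h1 : p ∣ r ^ k := hrk ▸ Dvd.intro _ rfl
  have h2 : q ∣ r ^ k := hrk ▸ Dvd.intro_left _ rfl
  have e1 := (Nat.prime_dvd_prime_iff_eq hp hr').mp (hp.dvd_of_dvd_pow h1)
  have e2 := (Nat.prime_dvd_prime_iff_eq hq hr').mp (hq.dvd_of_dvd_pow h2)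
  exact hpq (e1.trans e2.symm)

theorem inc_primes {p q : ℕ} (hp : p.Prime) (hq : q.Prime) (hpq : p ≠ q) : Inc p q :=
  ⟨fun h => hpq ((Nat.prime_dvd_prime_iff_eq hp hq).mp h),
    fun h => hpq ((Nat.prime_dvd_prime_iff_eq hq hp).mp h).symm⟩

variable {G : Type*} {H : Type*} [Group G] [Group H]

section transport

variable (e : G ≃ H) (he : ∀ x y : G, Adj x y ↔ Adj (e x) (e y))

include he in
theorem adj_symm_iff (x' y' : H) : Adj x' y' ↔ Adj (e.symm x') (e.symm y') := by
  rw [he, e.apply_symm_apply, e.apply_symm_apply]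

include he in
theorem dom_iff (x : G) : Dom x ↔ Dom (e x) := by
  constructor
  · intro h y'
    have := (he x (e.symm y')).mp (h _)
    rwa [e.apply_symm_apply] at this
  · intro h y
    exact (he x y).mpr (h _)

include he in
theorem eqv_iff (x y : G) : Eqv x y ↔ Eqv (e x) (e y) := by
  constructor
  · intro h z'
    have := h (e.symm z')
    rw [he, he y, e.apply_symm_apply] at this
    exact this
  · intro h z
    rw [he, he y]
    exact h (e z)

end transport

section main

variable [Finite G] [Finite H]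

variable (e : G ≃ H) (he : ∀ x y : G, Adj x y ↔ Adj (e x) (e y)) (h1 : e 1 = 1)
  (hdG : ∀ x : G, Dom x → x = 1) (hdH : ∀ x : H, Dom x → x = 1)
  {p q : ℕ} (hp : p.Prime) (hq : q.Prime) (hpq : p ≠ q)
  {y a b : G} (hy : orderOf y = p * q) (ha : a ∈ zpowers y) (hap : orderOf a = p)
  (hb : b ∈ zpowers y) (hbq : orderOf b = q)

include hp hq hpq hy ha hap hb hbq in
/-- closed twins of `a` generate the same subgroup as `a` -/
theorem twin_of_a {a₂ : G} (h : Eqv a₂ a) : zpowers a₂ = zpowers a := by
  have hnadj : ¬ Adj a b := not_adj_of_inc (by rw [hap, hbq]; exact inc_primes hp hq hpq)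
  have hnadj₂ : ¬ Adj a₂ b := fun h' => hnadj ((h b).mp h')
  have hay : Adj a₂ y := (h y).mpr (adj_of_mem ha)
  have hmem : a₂ ∈ zpowers y := by
    rcases hay with h' | h'
    · exact h'
    · exfalso
      apply hnadj₂
      exact (adj_of_mem (zpowers_le.mpr h' hb)).symm
  have hd : orderOf a₂ ∣ p * q := hy ▸ orderOf_dvd_of_mem_zpowers hmem
  rcases dvd_prime_mul_prime hp hq hd with h0 | h0 | h0 | h0
  · exfalso
    rw [orderOf_eq_one_iff] at h0
    rw [h0] at hnadj₂
    exact hnadj₂ (adj_one b)
  · apply zpowers_eq_of_mem_of_orderOf_eq _ (h0.trans hap.symm)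
    exact mem_zpowers_of_orderOf_dvd hmem ha (by rw [h0, hap])
  · exfalso
    apply hnadj₂
    exact adj_of_mem (mem_zpowers_of_orderOf_dvd hmem hb (by rw [h0, hbq]))
  · exfalso
    apply hnadj₂
    have : zpowers a₂ = zpowers y := zpowers_eq_of_mem_of_orderOf_eq hmem (h0.trans hy.symm)
    exact (adj_of_mem (this ▸ hb)).symm

include he h1 hp hq hpq hy ha hap hb hbq in
/-- the counting argument excluding that all images of generators lie below the image of `a` -/
theorem caseB (hB : ∀ y₂ : G, zpowers y₂ = zpowers y → e y₂ ∈ zpowers (e a)) : q < p := by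
  have hy1 : y ≠ 1 := by
    rintro rfl
    rw [orderOf_one] at hy
    have := hp.two_le
    have := hq.two_le
    nlinarith
  have ha1 : a ≠ 1 := by
    rintro rfl
    rw [orderOf_one] at hap
    exact hp.one_lt.ne hap
  have hea1 : e a ≠ 1 := fun h => ha1 (e.injective (h.trans h1.symm))
  -- generators of the image of `a` come from generators of `a`
  have hgen : ∀ z' : H, zpowers z' = zpowers (e a) → zpowers (e.symm z') = zpowers a := by
    intro z' hz'
    apply twin_of_a hp hq hpq hy ha hap hb hbq
    rw [eqv_iff e he, e.apply_symm_apply]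
    exact eqv_of_zpowers_eq hz'
  -- (1) the totient bound
  have hφ : Nat.totient (orderOf (e a)) ≤ p - 1 := by
    rw [← Nat.totient_prime hp, ← hap, ← card_generators, ← card_generators]
    exact Nat.card_le_card_of_injective
      (fun z' : {z' : H // zpowers z' = zpowers (e a)} =>
        (⟨e.symm z'.1, hgen z'.1 z'.2⟩ : {z : G // zpowers z = zpowers a}))
      (fun z₁ z₂ h => Subtype.ext (e.symm.injective (congrArg Subtype.val h)))
  -- (2) three disjoint subsets of the cyclic group generated by the image of `a`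
  set S2 : Set H := {z' | zpowers z' = zpowers (e a)} with hS2
  set S3 : Set H := e '' {z | zpowers z = zpowers y} with hS3
  have hc2 : S2.ncard = Nat.totient (orderOf (e a)) := by
    rw [← card_generators, ← Nat.card_coe_set_eq]
    rfl
  have hc3 : S3.ncard = Nat.totient (p * q) := by
    rw [hS3, Set.ncard_image_of_injective _ e.injective, ← hy, ← card_generators,
      ← Nat.card_coe_set_eq]
    rfl
  have hd12 : Disjoint ({1} : Set H) S2 := by
    rw [Set.disjoint_singleton_left]
    intro h
    have h' : zpowers (1 : H) = zpowers (e a) := h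
    rw [zpowers_one_eq_bot] at h'
    have : e a ∈ (⊥ : Subgroup H) := h' ▸ mem_zpowers (e a)
    exact hea1 (mem_bot.mp this)
  have hd13 : Disjoint ({1} : Set H) S3 := by
    rw [Set.disjoint_singleton_left]
    rintro ⟨z, hz, hz1⟩
    have : z = 1 := e.injective (hz1.trans h1.symm)
    rw [this] at hz
    have hz' : zpowers (1 : G) = zpowers y := hz
    rw [zpowers_one_eq_bot] at hz'
    have : y ∈ (⊥ : Subgroup G) := hz' ▸ mem_zpowers y
    exact hy1 (mem_bot.mp this)
  have hd23 : Disjoint S2 S3 := by
    rw [Set.disjoint_left]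
    rintro z' hz2 ⟨z, hz, rfl⟩
    have h2 := hgen (e z) hz2
    rw [e.symm_apply_apply] at h2
    have hz' : zpowers z = zpowers y := hz
    have : orderOf a = orderOf y := by
      rw [← Nat.card_zpowers, ← Nat.card_zpowers, ← h2, hz']
    rw [hap, hy] at this
    have := hq.two_le
    have := hp.pos
    nlinarith
  have hsub : ({1} : Set H) ∪ S2 ∪ S3 ⊆ (zpowers (e a) : Set H) := by
    rintro z' ((hz | hz) | hz)
    · rw [Set.mem_singleton_iff] at hz; rw [hz]; exact one_mem _
    · have hz' : zpowers z' = zpowers (e a) := hz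
      exact hz' ▸ mem_zpowers z'
    · obtain ⟨z, hz, rfl⟩ := hz
      exact hB z hz
  have hcard : 1 + Nat.totient (orderOf (e a)) + Nat.totient (p * q) ≤ orderOf (e a) := by
    have h3 := Set.ncard_le_ncard hsub (Set.toFinite _)
    have hd : Disjoint (({1} : Set H) ∪ S2) S3 := Set.disjoint_union_left.mpr ⟨hd13, hd23⟩
    rw [Set.ncard_union_eq hd (Set.toFinite _) (Set.toFinite _),
      Set.ncard_union_eq hd12 (Set.toFinite _) (Set.toFinite _), Set.ncard_singleton, hc2, hc3] at h3
    have h4 : ((zpowers (e a) : Subgroup H) : Set H).ncard = orderOf (e a) := by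
      rw [← Nat.card_zpowers, ← Nat.card_coe_set_eq]
      rfl
    rw [h4] at h3
    exact h3
  -- (3) arithmetic
  have htot : Nat.totient (p * q) = (p - 1) * (q - 1) := by
    rw [Nat.totient_mul ((Nat.coprime_primes hp hq).mpr hpq), Nat.totient_prime hp,
      Nat.totient_prime hq]
  have hN := le_totient_mul (orderOf (e a)) (orderOf_pos _)
  have hf : 0 < Nat.totient (orderOf (e a)) := Nat.totient_pos.mpr (orderOf_pos _)
  set f := Nat.totient (orderOf (e a)) with hfdef
  rw [htot] at hcard
  by_contra hcon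
  push Not at hcon
  have hp2 := hp.two_le
  have hq2 := hq.two_le
  have e1 : f * (q - 1) ≤ (p - 1) * (q - 1) := Nat.mul_le_mul_right _ hφ
  have e2 : f * (f + 1) ≤ f * p := Nat.mul_le_mul_left _ (by omega)
  have e3 : f * p ≤ f * q := Nat.mul_le_mul_left _ hcon
  have e4 : f * q = f * (q - 1) + f := by
    have : q = (q - 1) + 1 := by omega
    conv_lhs => rw [this]
    ring
  omega

end main

end Cfsg.Agent.Lib.Helper31.PowerGraph
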