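import Cfsg.Agent.Lib.Helper31.PowerGraph4

/-!
# Power graphs: an isomorphism of power graphs preserves the prime graph, main argument (helper31)
-/

set_option autoImplicit false

namespace Cfsg.Agent.Lib.Helper31.PowerGraph

open Subgroup

variable {G : Type*} {H : Type*} [Group G] [Group H] [Finite G] [Finite H]

theorem eq_one_of_zpowers_one_eq {K : Type*} [Group K] (z : K)
    (h : zpowers (1 : K) = zpowers z) : z = 1 := by
  rw [zpowers_one_eq_bot] at h
  have : z ∈ (⊥ : Subgroup K) := h ▸ mem_zpowers z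
  exact mem_bot.mp this

section main

variable (e : G ≃ H) (he : ∀ x y : G, Adj x y ↔ Adj (e x) (e y)) (h1 : e 1 = 1)
  (hdG : ∀ x : G, Dom x → x = 1) (hdH : ∀ x : H, Dom x → x = 1)
  {p q : ℕ} (hp : p.Prime) (hq : q.Prime) (hpq : p ≠ q)
  {y a b : G} (hy : orderOf y = p * q) (ha : a ∈ zpowers y) (hap : orderOf a = p)
  (hb : b ∈ zpowers y) (hbq : orderOf b = q)

include he h1 hdG hdH hp hq hpq hy ha hap hb hbq in
/-- if the images of `a` and `b` lie below the image of `y`, that image has order `p q` -/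
theorem caseA (ha' : e a ∈ zpowers (e y)) (hb' : e b ∈ zpowers (e y)) : orderOf (e y) = p * q := by
  have hy1 : y ≠ 1 := by
    rintro rfl
    rw [orderOf_one] at hy
    have := hp.two_le
    have := hq.two_le
    nlinarith
  have ha1 : a ≠ 1 := by
    rintro rfl
    rw [orderOf_one] at hap
    exact hp.one_lt.ne hap
  have hb1 : b ≠ 1 := by
    rintro rfl
    rw [orderOf_one] at hbq
    exact hq.one_lt.ne hbq
  have hy'1 : e y ≠ 1 := fun h => hy1 (e.injective (h.trans h1.symm))
  have hinc : Inc p q := inc_primes hp hq hpq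
  have hnadj : ¬ Adj a b := not_adj_of_inc (by rw [hap, hbq]; exact hinc)
  have hnadj' : ¬ Adj (e a) (e b) := fun h => hnadj ((he a b).mpr h)
  have hpp' : ¬ IsPrimePow (orderOf (e y)) := fun h => hnadj' (adj_of_isPrimePow h ha' hb')
  have hppy : ¬ IsPrimePow (orderOf y) := by rw [hy]; exact not_isPrimePow_mul hp hq hpq
  -- transport of generators
  have hgen : ∀ z : G, zpowers z = zpowers y ↔ zpowers (e z) = zpowers (e y) := by
    intro z
    constructor
    · intro h
      have hz1 : z ≠ 1 := by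
        rintro rfl
        exact hy1 (eq_one_of_zpowers_one_eq y h)
      have hez1 : e z ≠ 1 := fun h' => hz1 (e.injective (h'.trans h1.symm))
      exact zpowers_eq_of_eqv ((eqv_iff e he z y).mp (eqv_of_zpowers_eq h)) hez1 hy'1 hpp'
    · intro h
      have hez1 : e z ≠ 1 := by
        intro h'
        rw [h'] at h
        exact hy'1 (eq_one_of_zpowers_one_eq _ h)
      have hz1 : z ≠ 1 := by
        rintro rfl
        exact hez1 h1
      exact zpowers_eq_of_eqv ((eqv_iff e he z y).mpr (eqv_of_zpowers_eq h)) hz1 hy1 hppy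
  -- the nontrivial non-generators of `zpowers y`
  set Lp : Set G := {x | x ∈ zpowers y ∧ x ≠ 1 ∧ zpowers x ≠ zpowers y} with hLp
  have haL : a ∈ Lp := by
    refine ⟨ha, ha1, ?_⟩
    intro h
    have : orderOf a = orderOf y := by rw [← Nat.card_zpowers, ← Nat.card_zpowers, h]
    rw [hap, hy] at this
    have := hq.two_le
    have := hp.pos
    nlinarith
  have hbL : b ∈ Lp := by
    refine ⟨hb, hb1, ?_⟩
    intro h
    have : orderOf b = orderOf y := by rw [← Nat.card_zpowers, ← Nat.card_zpowers, h]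
    rw [hbq, hy] at this
    have := hp.two_le
    have := hq.pos
    nlinarith
  -- claim 1
  have claim1 : ∀ x ∈ Lp, e x ∈ zpowers (e y) := by
    rintro x ⟨hx, hx1, hxy⟩
    have hd : orderOf x ∣ p * q := hy ▸ orderOf_dvd_of_mem_zpowers hx
    have hadj : Adj (e x) (e y) := (he x y).mp (adj_of_mem hx)
    rcases dvd_prime_mul_prime hp hq hd with h0 | h0 | h0 | h0
    · exact absurd (orderOf_eq_one_iff.mp h0) hx1
    · rcases hadj with h' | h'
      · exact h'
      · exfalso
        have h2 : Adj (e b) (e x) := adj_of_mem (zpowers_le.mpr h' hb')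
        have h3 : Adj b x := (he b x).mpr h2
        exact not_adj_of_inc (by rw [hbq, h0]; exact hinc.symm) h3
    · rcases hadj with h' | h'
      · exact h'
      · exfalso
        have h2 : Adj (e a) (e x) := adj_of_mem (zpowers_le.mpr h' ha')
        have h3 : Adj a x := (he a x).mpr h2
        exact not_adj_of_inc (by rw [hap, h0]; exact hinc) h3
    · exact absurd (zpowers_eq_of_mem_of_orderOf_eq hx (h0.trans hy.symm)) hxy
  -- the closure property and the conclusion of the connectedness lemma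
  have hcl : ∀ w' x' : H, w' ∈ zpowers (e y) → w' ≠ 1 → zpowers w' ≠ zpowers (e y) →
      x' ∈ e '' Lp → x' ∈ zpowers (e y) → ¬ Adj w' x' → w' ∈ e '' Lp := by
    rintro w' x' hw' hw'1 hw'y ⟨x, hxL, rfl⟩ - hnad
    have hw : e (e.symm w') = w' := e.apply_symm_apply w'
    have hadj : Adj (e.symm w') y := by
      rw [he, hw]; exact adj_of_mem hw'
    have hw1 : e.symm w' ≠ 1 := by
      intro h
      rw [h, h1] at hw
      exact hw'1 hw.symm
    have hwy : zpowers (e.symm w') ≠ zpowers y := by
      intro h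
      rw [hgen, hw] at h
      exact hw'y h
    rcases hadj with h' | h'
    · exact ⟨e.symm w', ⟨h', hw1, hwy⟩, hw⟩
    · exfalso
      apply hnad
      have h2 : Adj x (e.symm w') := adj_of_mem (zpowers_le.mpr h' hxL.1)
      have h3 := (he x (e.symm w')).mp h2
      rw [hw] at h3
      exact h3.symm
  have hea1 : e a ≠ 1 := fun h => ha1 (e.injective (h.trans h1.symm))
  have heay : zpowers (e a) ≠ zpowers (e y) := fun h => haL.2.2 ((hgen a).mpr h)
  have hall := lplus_subset hy'1 hpp' (e '' Lp) (e a) ⟨a, haL, rfl⟩ ha' hea1 heay hcl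
  -- the image of `zpowers y` is `zpowers (e y)`
  have hiff : ∀ x : G, x ∈ zpowers y ↔ e x ∈ zpowers (e y) := by
    intro x
    constructor
    · intro hx
      by_cases hx1 : x = 1
      · rw [hx1, h1]; exact one_mem _
      by_cases hxy : zpowers x = zpowers y
      · have := (hgen x).mp hxy
        exact this ▸ mem_zpowers (e x)
      · exact claim1 x ⟨hx, hx1, hxy⟩
    · intro hx
      by_cases hx1 : e x = 1
      · have : x = 1 := e.injective (hx1.trans h1.symm)
        rw [this]; exact one_mem _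
      by_cases hxy : zpowers (e x) = zpowers (e y)
      · have := (hgen x).mpr hxy
        exact this ▸ mem_zpowers x
      · obtain ⟨x₀, hx₀, hx₀e⟩ := hall (e x) hx hx1 hxy
        have : x₀ = x := e.injective hx₀e
        exact this ▸ hx₀.1
  have hcard : Nat.card (zpowers y) = Nat.card (zpowers (e y)) :=
    Nat.card_congr (e.subtypeEquiv hiff)
  rw [Nat.card_zpowers, Nat.card_zpowers] at hcard
  rw [← hcard, hy]

include he h1 hdG hdH hp hq hpq in
/-- the main case: no nonidentity dominating vertices -/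
theorem main_case (y : G) (hy : orderOf y = p * q) : ∃ h : H, orderOf h = p * q := by
  obtain ⟨a, ha, hap⟩ := exists_mem_zpowers_orderOf (y := y) (c := p) (hy ▸ Dvd.intro _ rfl)
  obtain ⟨b, hb, hbq⟩ := exists_mem_zpowers_orderOf (y := y) (c := q) (hy ▸ Dvd.intro_left _ rfl)
  have hinc : Inc p q := inc_primes hp hq hpq
  have hnadj : ¬ Adj a b := not_adj_of_inc (by rw [hap, hbq]; exact hinc)
  have hnadj' : ¬ Adj (e a) (e b) := fun h => hnadj ((he a b).mpr h)
  by_cases hA : ∃ y₂ : G, zpowers y₂ = zpowers y ∧ e a ∈ zpowers (e y₂) ∧ e b ∈ zpowers (e y₂)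
  · obtain ⟨y₂, hy₂, ha', hb'⟩ := hA
    have hy₂o : orderOf y₂ = p * q := by
      rw [← hy, ← Nat.card_zpowers, ← Nat.card_zpowers, hy₂]
    exact ⟨e y₂, caseA e he h1 hdG hdH hp hq hpq hy₂o (hy₂ ▸ ha) hap (hy₂ ▸ hb) hbq ha' hb'⟩
  · exfalso
    push Not at hA
    have hB : ∀ y₂ : G, zpowers y₂ = zpowers y → e y₂ ∈ zpowers (e a) ∧ e y₂ ∈ zpowers (e b) := by
      intro y₂ hy₂
      have hay : Adj (e y₂) (e a) := (he y₂ a).mp (adj_of_mem (hy₂ ▸ ha)).symm
      have hby : Adj (e y₂) (e b) := (he y₂ b).mp (adj_of_mem (hy₂ ▸ hb)).symm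
      rcases hay with h2 | h2
      · rcases hby with h3 | h3
        · exact ⟨h2, h3⟩
        · exfalso
          exact hnadj' (adj_of_mem (zpowers_le.mpr h2 h3)).symm
      · rcases hby with h3 | h3
        · exfalso
          exact hnadj' (adj_of_mem (zpowers_le.mpr h3 h2))
        · exact absurd h3 (hA y₂ hy₂ h2)
    have c1 := caseB e he h1 hp hq hpq hy ha hap hb hbq (fun y₂ h => (hB y₂ h).1)
    have c2 := caseB e he h1 hq hp hpq.symm (by rw [hy, mul_comm]) hb hbq ha hap
      (fun y₂ h => (hB y₂ h).2)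
    omega

end main

/-- **Main theorem**: a bijection preserving power-graph adjacency preserves the existence of
elements of order `p q`. -/
theorem exists_orderOf_of_iso (e : G ≃ H) (he : ∀ x y : G, Adj x y ↔ Adj (e x) (e y))
    {p q : ℕ} (hp : p.Prime) (hq : q.Prime) (hpq : p ≠ q) (g : G) (hg : orderOf g = p * q) :
    ∃ h : H, orderOf h = p * q := by
  have hcardGH : Nat.card G = Nat.card H := Nat.card_congr e
  have hdvdG : p * q ∣ Nat.card G := hg ▸ orderOf_dvd_natCard g
  have hnpp : ∀ r k : ℕ, r.Prime → Nat.card G ≠ r ^ k := by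
    intro r k hr h
    rw [h] at hdvdG
    have h2 : p ∣ r ^ k := (Dvd.intro _ rfl).trans hdvdG
    have h3 : q ∣ r ^ k := (Dvd.intro_left _ rfl).trans hdvdG
    have e1 := (Nat.prime_dvd_prime_iff_eq hp hr).mp (hp.dvd_of_dvd_pow h2)
    have e2 := (Nat.prime_dvd_prime_iff_eq hq hr).mp (hq.dvd_of_dvd_pow h3)
    exact hpq (e1.trans e2.symm)
  by_cases hG : ∃ x : G, x ≠ 1 ∧ Dom x
  · obtain ⟨x, hx1, hxd⟩ := hG
    -- `H` has a nonidentity dominating vertex as well
    have hH : ∃ x' : H, x' ≠ 1 ∧ Dom x' := by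
      by_cases h : e x = 1
      · refine ⟨e 1, ?_, (dom_iff e he 1).mp dom_one⟩
        intro h'
        exact hx1 (e.injective (h.trans h'.symm))
      · exact ⟨e x, h, (dom_iff e he x).mp hxd⟩
    obtain ⟨x', hx'1, hx'd⟩ := hH
    rcases cyclic_or_primePow_of_dom hx'1 hx'd with hc | ⟨r, k, hr, hrk⟩
    · obtain ⟨z, hz⟩ := IsCyclic.exists_ofOrder_eq_natCard (α := H)
      have hd : p * q ∣ orderOf z := by rw [hz, ← hcardGH]; exact hdvdG
      obtain ⟨w, -, hw⟩ := exists_mem_zpowers_orderOf hd
      exact ⟨w, hw⟩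
    · exact absurd (hcardGH.trans hrk) (hnpp r k hr)
  · push Not at hG
    have hdG : ∀ x : G, Dom x → x = 1 := fun x hx => by
      by_contra h
      exact hG x h hx
    have h1 : e 1 = 1 := by
      have h2 : Dom (e.symm 1) := by
        rw [dom_iff e he, e.apply_symm_apply]; exact dom_one
      have h3 := hdG _ h2
      rw [← h3, e.apply_symm_apply]
    have hdH : ∀ x : H, Dom x → x = 1 := by
      intro x hx
      have h2 : Dom (e.symm x) := by
        rw [dom_iff e he, e.apply_symm_apply]; exact hx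
      have h3 := hdG _ h2
      rw [← e.apply_symm_apply x, h3, h1]
    exact main_case e he h1 hdG hdH hp hq hpq g hg

end Cfsg.Agent.Lib.Helper31.PowerGraph
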