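import Mathlib

set_option autoImplicit false

/-!
Rank two resistant groups (S5289): the torus element `diag(t, t⁻¹)` as an explicit word in two
transvections of an elementary abelian group of order `p²`.
-/

namespace Cfsg.Agent.Lib.Helper31.R2

theorem pow_eq_of_zmod {M : Type*} [Monoid M] {p : ℕ} {x : M} (hx : x ^ p = 1) {m n : ℕ}
    (h : (m : ZMod p) = (n : ZMod p)) : x ^ m = x ^ n := by
  rw [pow_eq_pow_mod m hx, pow_eq_pow_mod n hx]
  congr 1
  exact (ZMod.natCast_eq_natCast_iff' m n p).mp h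

theorem pow_apply_fixed {W : Type*} [Group W] (φ : MulAut W) {v : W} (h : φ v = v) (m : ℕ) : (φ ^ m) v = v := by
  induction m with
  | zero => simp
  | succ m ih => rw [pow_succ, MulAut.mul_apply, h, ih]

theorem pow_apply_mul {W : Type*} [Group W] (φ : MulAut W) {y v : W} (h1 : φ y = y * v) (h2 : φ v = v) (m : ℕ) :
    (φ ^ m) y = y * v ^ m := by
  induction m with
  | zero => simp
  | succ m ih =>
    rw [pow_succ, MulAut.mul_apply, h1, map_mul, ih, pow_apply_fixed φ h2, pow_succ, mul_assoc]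

section Word

variable {W : Type*} [CommGroup W]

theorem cast_pred {p : ℕ} (hp : 1 ≤ p) : ((p - 1 : ℕ) : ZMod p) = -1 := by
  rw [Nat.cast_sub hp]
  simp

theorem uact (e₁ e₂ : W) (u : MulAut W) (hu1 : u e₁ = e₁) (hu2 : u e₂ = e₂ * e₁) (a x y : ℕ) :
    (u ^ a) (e₁ ^ x * e₂ ^ y) = e₁ ^ (x + a * y) * e₂ ^ y := by
  rw [map_mul, map_pow, map_pow, pow_apply_fixed u hu1, pow_apply_mul u hu2 hu1, mul_pow, ← pow_mul,
    pow_add, mul_comm (e₂ ^ y), mul_assoc]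

theorem vact (e₁ e₂ : W) (v : MulAut W) (c : ℕ) (hv2 : v e₂ = e₂) (hv1 : v e₁ = e₁ * e₂ ^ c)
    (b x y : ℕ) : (v ^ b) (e₁ ^ x * e₂ ^ y) = e₁ ^ x * e₂ ^ (y + c * b * x) := by
  have hvc : v (e₂ ^ c) = e₂ ^ c := by rw [map_pow, hv2]
  rw [map_mul, map_pow, map_pow, pow_apply_fixed v hv2, pow_apply_mul v hv1 hvc, mul_pow, ← pow_mul,
    ← pow_mul, pow_add, mul_assoc, mul_comm (e₂ ^ y), mul_assoc c b x]

/-- the Weyl-type word `u^t v^b u^t` with `b = -1/(tc)`. -/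
theorem weyl_word {p : ℕ} (hp : 1 ≤ p) (e₁ e₂ : W) (h1 : e₁ ^ p = 1) (h2 : e₂ ^ p = 1)
    (u v : MulAut W) (c : ℕ)
    (hu1 : u e₁ = e₁) (hu2 : u e₂ = e₂ * e₁) (hv2 : v e₂ = e₂) (hv1 : v e₁ = e₁ * e₂ ^ c)
    (t t' c' : ℕ) (ht : (t * t' : ZMod p) = 1) (hc : (c * c' : ZMod p) = 1) :
    (u ^ t * v ^ ((p - 1) * t' * c') * u ^ t) e₁ = e₂ ^ ((p - 1) * t') ∧
      (u ^ t * v ^ ((p - 1) * t' * c') * u ^ t) e₂ = e₁ ^ t := by
  have hm1 := cast_pred hp
  constructor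
  · have e0 : e₁ = e₁ ^ 1 * e₂ ^ 0 := by rw [pow_one, pow_zero, mul_one]
    rw [MulAut.mul_apply, MulAut.mul_apply]
    conv_lhs => rw [e0]
    rw [uact e₁ e₂ u hu1 hu2, vact e₁ e₂ v c hv2 hv1, uact e₁ e₂ u hu1 hu2]
    have e1 : e₁ ^ (1 + t * 0 + t * (0 + c * ((p - 1) * t' * c') * (1 + t * 0))) = e₁ ^ 0 := by
      apply pow_eq_of_zmod h1
      push_cast
      rw [hm1]
      linear_combination (-(c * c' : ZMod p)) * ht - hc
    have e2 : e₂ ^ (0 + c * ((p - 1) * t' * c') * (1 + t * 0)) = e₂ ^ ((p - 1) * t') := by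
      apply pow_eq_of_zmod h2
      push_cast
      rw [hm1]
      linear_combination (-(t' : ZMod p)) * hc
    rw [e1, e2, pow_zero, one_mul]
  · have e0 : e₂ = e₁ ^ 0 * e₂ ^ 1 := by rw [pow_one, pow_zero, one_mul]
    rw [MulAut.mul_apply, MulAut.mul_apply]
    conv_lhs => rw [e0]
    rw [uact e₁ e₂ u hu1 hu2, vact e₁ e₂ v c hv2 hv1, uact e₁ e₂ u hu1 hu2]
    have e1 : e₁ ^ (0 + t * 1 + t * (1 + c * ((p - 1) * t' * c') * (0 + t * 1))) = e₁ ^ t := by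
      apply pow_eq_of_zmod h1
      push_cast
      rw [hm1]
      linear_combination (-(t * (c * c') : ZMod p)) * ht - (t : ZMod p) * hc
    have e2 : e₂ ^ (1 + c * ((p - 1) * t' * c') * (0 + t * 1)) = e₂ ^ 0 := by
      apply pow_eq_of_zmod h2
      push_cast
      rw [hm1]
      linear_combination (-(c * c' : ZMod p)) * ht - hc
    rw [e1, e2, pow_zero, mul_one]

end Word

end Cfsg.Agent.Lib.Helper31.R2
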