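import Mathlib
import Cfsg.Agent.Lib.Helper31.R2Word

set_option autoImplicit false

/-!
Rank two resistant groups (S5289): a non-`p`-closed group acting on an elementary abelian group of
order `p²` (with a `p`-group as kernel) contains a torus element `diag(t, t⁻¹)` normalizing a given
Sylow `p`-subgroup.
-/

namespace Cfsg.Agent.Lib.Helper31.R2

open Subgroup

theorem zpow_eq_of_zmod {H : Type*} [Group H] {p : ℕ} {x : H} (hx : x ^ p = 1) {m n : ℤ}
    (h : (m : ZMod p) = (n : ZMod p)) : x ^ m = x ^ n := by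
  have h1 := (ZMod.intCast_eq_intCast_iff_dvd_sub m n p).mp h
  obtain ⟨d, hd⟩ := h1
  have : n = m + (p : ℤ) * d := by omega
  rw [this, zpow_add, zpow_mul, zpow_natCast, hx, one_zpow, mul_one]

/-- in a cyclic group of prime order every nontrivial element is a generator. -/
theorem mem_zpowers_of_mem {H : Type*} [Group H] {p : ℕ} [Fact p.Prime] {x e : H} (he : e ^ p = 1)
    (hx : x ∈ zpowers e) (hx1 : x ≠ 1) : e ∈ zpowers x := by
  have hp : p.Prime := Fact.out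
  obtain ⟨k, rfl⟩ := mem_zpowers_iff.mp hx
  have hk : (k : ZMod p) ≠ 0 := by
    intro h0
    apply hx1
    have := zpow_eq_of_zmod he (m := k) (n := 0) (by rw [h0]; simp)
    rw [this, zpow_zero]
  refine mem_zpowers_iff.mpr ⟨((k : ZMod p)⁻¹).val, ?_⟩
  rw [← zpow_mul]
  have := zpow_eq_of_zmod he (m := k * (((k : ZMod p)⁻¹).val : ℤ)) (n := 1) (by
    push_cast
    rw [ZMod.natCast_zmod_val, mul_inv_cancel₀ hk])
  rw [this, zpow_one]

section Unip

variable {A : Type*} [Group A] {W : Type*} [CommGroup W]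

/-- automorphisms (in the image of `ρ`) fixing `e` and acting trivially modulo `⟨e⟩`. -/
def unip (ρ : A →* MulAut W) (e : W) : Subgroup A where
  carrier := {a | ρ a e = e ∧ ∀ w, w⁻¹ * ρ a w ∈ zpowers e}
  one_mem' := by
    refine ⟨by rw [map_one]; rfl, fun w => ?_⟩
    rw [map_one]
    show w⁻¹ * w ∈ _
    rw [inv_mul_cancel]
    exact one_mem _
  mul_mem' := by
    rintro a b ⟨ha1, ha2⟩ ⟨hb1, hb2⟩
    refine ⟨by rw [map_mul, MulAut.mul_apply, hb1, ha1], fun w => ?_⟩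
    rw [map_mul, MulAut.mul_apply]
    have hfix : ∀ l ∈ zpowers e, ρ a l = l := by
      intro l hl
      obtain ⟨k, rfl⟩ := mem_zpowers_iff.mp hl
      rw [map_zpow, ha1]
    have h1 : ρ b w = w * (w⁻¹ * ρ b w) := by rw [mul_inv_cancel_left]
    rw [h1, map_mul, hfix _ (hb2 w)]
    have : w⁻¹ * (ρ a w * (w⁻¹ * ρ b w)) = (w⁻¹ * ρ a w) * (w⁻¹ * ρ b w) := by rw [mul_assoc]
    rw [this]
    exact mul_mem (ha2 w) (hb2 w)
  inv_mem' := by
    rintro a ⟨ha1, ha2⟩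
    have hfix : ∀ l ∈ zpowers e, ρ a l = l := by
      intro l hl
      obtain ⟨k, rfl⟩ := mem_zpowers_iff.mp hl
      rw [map_zpow, ha1]
    have hinv : ∀ x y : W, ρ a x = y → ρ a⁻¹ y = x := by
      intro x y h
      rw [map_inv, ← h, MulAut.inv_apply_self]
    refine ⟨hinv e e ha1, fun w => ?_⟩
    -- `ρ a (w * l⁻¹) = w` where `l = w⁻¹ * ρ a w`
    have h2 : ρ a (w * (w⁻¹ * ρ a w)⁻¹) = w := by
      rw [map_mul, hfix _ (inv_mem (ha2 w))]
      group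
    rw [hinv _ _ h2, inv_mul_cancel_left]
    exact inv_mem (ha2 w)

theorem mem_unip {ρ : A →* MulAut W} {e : W} {a : A} :
    a ∈ unip ρ e ↔ ρ a e = e ∧ ∀ w, w⁻¹ * ρ a w ∈ zpowers e := Iff.rfl

theorem unip_isPGroup {p : ℕ} [Fact p.Prime] (hexp : ∀ w : W, w ^ p = 1) (ρ : A →* MulAut W)
    (hker : IsPGroup p ρ.ker) (e : W) : IsPGroup p (unip ρ e) := by
  rintro ⟨a, ha1, ha2⟩
  have hfix : ∀ l ∈ zpowers e, ρ a l = l := by
    intro l hl
    obtain ⟨k, rfl⟩ := mem_zpowers_iff.mp hl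
    rw [map_zpow, ha1]
  have hpow : ∀ (n : ℕ) (w : W), (ρ a ^ n) w = w * (w⁻¹ * ρ a w) ^ n := fun n w =>
    pow_apply_mul (ρ a) (by rw [mul_inv_cancel_left]) (hfix _ (ha2 w)) n
  have hp1 : ρ (a ^ p) = 1 := by
    ext w
    rw [map_pow, hpow, hexp, mul_one]
    rfl
  obtain ⟨j, hj⟩ := hker ⟨a ^ p, hp1⟩
  refine ⟨j + 1, ?_⟩
  apply Subtype.ext
  have := congrArg Subtype.val hj
  simp only [SubgroupClass.coe_pow, OneMemClass.coe_one] at this ⊢
  rw [pow_succ', pow_mul]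
  exact this

end Unip

section Beta

variable {A : Type*} [Group A] {W : Type*} [CommGroup W] [Finite W]

/-- a `p`-element fixing `e ≠ 1` acts trivially modulo `⟨e⟩` (`|W| = p²`). -/
theorem mem_unip_of_pow {p : ℕ} [Fact p.Prime] (hexp : ∀ w : W, w ^ p = 1)
    (hcard : Nat.card W = p ^ 2) (ρ : A →* MulAut W) {e : W} (he : e ≠ 1) {a : A} {j : ℕ}
    (haj : a ^ p ^ j = 1) (hae : ρ a e = e) : a ∈ unip ρ e := by
  have hp : p.Prime := Fact.out
  refine ⟨hae, fun w => ?_⟩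
  have hfix : ∀ l ∈ zpowers e, ρ a l = l := by
    intro l hl
    obtain ⟨k, rfl⟩ := mem_zpowers_iff.mp hl
    rw [map_zpow, hae]
  by_cases hw : w ∈ zpowers e
  · rw [hfix w hw, inv_mul_cancel]
    exact one_mem _
  -- `W = ⟨e⟩⟨w⟩`
  have hLcard : Nat.card (zpowers e) = p := by
    rw [Nat.card_zpowers]
    exact orderOf_eq_prime (hexp e) he
  have htop : zpowers e ⊔ zpowers w = ⊤ := by
    have hne : zpowers e ≠ zpowers e ⊔ zpowers w := by
      intro h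
      apply hw
      rw [h]
      exact le_sup_right (α := Subgroup W) (mem_zpowers w)
    have hdvd : Nat.card ↥(zpowers e ⊔ zpowers w) ∣ p ^ 2 := hcard ▸ Subgroup.card_subgroup_dvd_card _
    obtain ⟨i, hi, hcard'⟩ := (Nat.dvd_prime_pow hp).mp hdvd
    have hi2 : i = 2 := by
      by_contra hi2
      have hi1 : i ≤ 1 := by omega
      apply hne
      apply Subgroup.eq_of_le_of_card_ge le_sup_left
      rw [hLcard, hcard']
      calc p ^ i ≤ p ^ 1 := Nat.pow_le_pow_right hp.pos hi1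
        _ = p := pow_one p
    subst hi2
    apply Subgroup.eq_top_of_card_eq
    rw [hcard', hcard]
  have hmem : ρ a w ∈ zpowers e ⊔ zpowers w := by rw [htop]; exact mem_top _
  obtain ⟨l, hl, z, hz, hlz⟩ := Subgroup.mem_sup.mp hmem
  obtain ⟨k, rfl⟩ := (mem_powers_iff_mem_zpowers.mpr hz)
  -- iterate
  have hiter : ∀ n : ℕ, ∃ l' ∈ zpowers e, (ρ a ^ n) w = l' * w ^ (k ^ n) := by
    intro n
    induction n with
    | zero => exact ⟨1, one_mem _, by simp⟩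
    | succ n ih =>
      obtain ⟨l', hl', h⟩ := ih
      refine ⟨l' * l ^ (k ^ n), mul_mem hl' (pow_mem hl _), ?_⟩
      rw [pow_succ', MulAut.mul_apply, h, map_mul, hfix l' hl', map_pow, ← hlz, mul_pow, ← pow_mul,
        ← pow_succ', mul_assoc]
  obtain ⟨l', hl', h⟩ := hiter (p ^ j)
  rw [← map_pow, haj, map_one] at h
  have h1 : w ^ (k ^ p ^ j) = w ^ k := by
    apply pow_eq_of_zmod (hexp w)
    push_cast
    exact ZMod.pow_card_pow _
  rw [h1] at h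
  -- `w = l' * w ^ k`
  have h2 : w = l' * w ^ k := h
  have h3 : w⁻¹ * ρ a w = l * l'⁻¹ := by
    rw [← hlz]
    show w⁻¹ * (l * w ^ k) = l * l'⁻¹
    have : w ^ k = l'⁻¹ * w := by
      rw [eq_inv_mul_iff_mul_eq]
      exact h2.symm
    rw [this]
    rw [mul_comm l'⁻¹ w, ← mul_assoc, ← mul_assoc, mul_comm w⁻¹ l, mul_assoc l, inv_mul_cancel,
      mul_one]
  rw [h3]
  exact mul_mem hl (inv_mem hl')

end Beta

section Torus

variable {A : Type*} [Group A] {W : Type*} [CommGroup W] [Finite W]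

theorem mem_smul_sylow {p : ℕ} {g x : A} {P : Sylow p A} : x ∈ g • P ↔ g⁻¹ * x * g ∈ P := by
  show x ∈ ((g • P : Sylow p A) : Subgroup A) ↔ _
  rw [Sylow.coe_subgroup_smul, Subgroup.mem_pointwise_smul_iff_inv_smul_mem]
  simp only [MulAut.smul_def, MulAut.conj_inv_apply]
  rfl

theorem sylow_eq_of_fix {p : ℕ} [Fact p.Prime] (hexp : ∀ w : W, w ^ p = 1)
    (hcard : Nat.card W = p ^ 2) (ρ : A →* MulAut W) (hker : IsPGroup p ρ.ker) {e : W}
    (he : e ≠ 1) (P Q : Sylow p A) (hP : ∀ a ∈ P, ρ a e = e) (hQ : ∀ a ∈ Q, ρ a e = e) :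
    P = Q := by
  have key : ∀ R : Sylow p A, (∀ a ∈ R, ρ a e = e) → unip ρ e = (R : Subgroup A) := by
    intro R hR
    apply R.is_maximal' (unip_isPGroup hexp ρ hker e)
    intro a ha
    obtain ⟨j, hj⟩ := R.isPGroup' ⟨a, ha⟩
    have hj' : a ^ p ^ j = 1 := by simpa using congrArg Subtype.val hj
    exact mem_unip_of_pow hexp hcard ρ he hj' (hR a ha)
  exact Sylow.ext ((key P hP).symm.trans (key Q hQ))

/-- two independent elements span `W`. -/
theorem span_two {p : ℕ} [Fact p.Prime] (hexp : ∀ w : W, w ^ p = 1) (hcard : Nat.card W = p ^ 2)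
    {e₁ e₂ : W} (he₁ : e₁ ≠ 1) (he₂ : e₂ ∉ zpowers e₁) (w : W) :
    ∃ i j : ℕ, w = e₁ ^ i * e₂ ^ j := by
  have hp : p.Prime := Fact.out
  have hLcard : Nat.card (zpowers e₁) = p := by
    rw [Nat.card_zpowers]
    exact orderOf_eq_prime (hexp e₁) he₁
  have htop : zpowers e₁ ⊔ zpowers e₂ = ⊤ := by
    have hne : zpowers e₁ ≠ zpowers e₁ ⊔ zpowers e₂ := by
      intro h
      apply he₂
      rw [h]
      exact le_sup_right (α := Subgroup W) (mem_zpowers e₂)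
    have hdvd : Nat.card ↥(zpowers e₁ ⊔ zpowers e₂) ∣ p ^ 2 :=
      hcard ▸ Subgroup.card_subgroup_dvd_card _
    obtain ⟨i, hi, hcard'⟩ := (Nat.dvd_prime_pow hp).mp hdvd
    have hi2 : i = 2 := by
      by_contra hi2
      have hi1 : i ≤ 1 := by omega
      apply hne
      apply Subgroup.eq_of_le_of_card_ge le_sup_left
      rw [hLcard, hcard']
      calc p ^ i ≤ p ^ 1 := Nat.pow_le_pow_right hp.pos hi1
        _ = p := pow_one p
    subst hi2
    apply Subgroup.eq_top_of_card_eq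
    rw [hcard', hcard]
  have hmem : w ∈ zpowers e₁ ⊔ zpowers e₂ := by rw [htop]; exact mem_top _
  obtain ⟨y, hy, z, hz, rfl⟩ := Subgroup.mem_sup.mp hmem
  obtain ⟨i, rfl⟩ := mem_powers_iff_mem_zpowers.mpr hy
  obtain ⟨j, rfl⟩ := mem_powers_iff_mem_zpowers.mpr hz
  exact ⟨i, j, rfl⟩

theorem good_seven : ((3 : ℕ) : ZMod 7) ≠ 0 ∧ ((3 : ℕ) : ZMod 7) ^ 2 ≠ 1 ∧
    ((3 : ℕ) : ZMod 7) ^ 3 ≠ 1 := by decide

theorem exists_good_t {p : ℕ} [Fact p.Prime] (hp5 : 5 ≤ p) :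
    ∃ t t' : ℕ, (t * t' : ZMod p) = 1 ∧ (t : ZMod p) ^ 2 ≠ 1 ∧ (t : ZMod p) ^ 3 ≠ 1 := by
  have hp : p.Prime := Fact.out
  have hne : ∀ n : ℕ, 0 < n → n < p → ((n : ℕ) : ZMod p) ≠ 0 := by
    intro n h0 hn h
    rw [ZMod.natCast_eq_zero_iff] at h
    have := Nat.le_of_dvd h0 h
    omega
  have key : ∀ t : ℕ, (t : ZMod p) ≠ 0 → (t : ZMod p) ^ 2 ≠ 1 → (t : ZMod p) ^ 3 ≠ 1 →
      ∃ t t' : ℕ, (t * t' : ZMod p) = 1 ∧ (t : ZMod p) ^ 2 ≠ 1 ∧ (t : ZMod p) ^ 3 ≠ 1 := by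
    intro t h0 h2 h3
    refine ⟨t, ((t : ZMod p)⁻¹).val, ?_, h2, h3⟩
    rw [ZMod.natCast_zmod_val, mul_inv_cancel₀ h0]
  by_cases h7 : p = 7
  · subst h7
    exact key 3 good_seven.1 good_seven.2.1 good_seven.2.2
  · have h3 : ((3 : ℕ) : ZMod p) ≠ 0 := hne 3 (by norm_num) (by omega)
    have h7' : ((7 : ℕ) : ZMod p) ≠ 0 := by
      intro h
      rw [ZMod.natCast_eq_zero_iff] at h
      have h1 := (Nat.prime_dvd_prime_iff_eq hp (by norm_num : Nat.Prime 7)).mp h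
      exact h7 h1
    apply key 2 (hne 2 (by norm_num) (by omega))
    · intro h
      apply h3
      push_cast at h ⊢
      linear_combination h
    · intro h
      apply h7'
      push_cast at h ⊢
      linear_combination h

/-- the torus element. -/
theorem exists_torus [Finite A] {p : ℕ} [Fact p.Prime] (hp5 : 5 ≤ p) (hexp : ∀ w : W, w ^ p = 1)
    (hcard : Nat.card W = p ^ 2) (ρ : A →* MulAut W) (hker : IsPGroup p ρ.ker)
    (U : Sylow p A) (hU : ¬ (U : Subgroup A).Normal) :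
    ∃ (h : A) (e₁ e₂ : W) (t t' : ℕ), (t * t' : ZMod p) = 1 ∧ (t : ZMod p) ^ 2 ≠ 1 ∧
      (t : ZMod p) ^ 3 ≠ 1 ∧ e₁ ≠ 1 ∧ e₂ ∉ zpowers e₁ ∧ (∀ u ∈ U, u ∈ unip ρ e₁) ∧
      ρ h e₁ = e₁ ^ t ∧ ρ h e₂ = e₂ ^ t' ∧ (∀ u ∈ U, h * u * h⁻¹ ∈ U) ∧
      (∀ N : Subgroup A, N.Normal → N ≤ (U : Subgroup A) → ∀ n ∈ N, ρ n = 1) ∧
      (∃ ι : A, ∀ w : W, ρ ι w = w⁻¹) := by
  classical
  have hp : p.Prime := Fact.out
  -- `U` does not act trivially
  have hUker : ¬ (∀ u ∈ U, ρ u = 1) := by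
    intro h
    apply hU
    have hle : (U : Subgroup A) ≤ ρ.ker := fun u hu => MonoidHom.mem_ker.mpr (h u hu)
    have := U.is_maximal' hker hle
    rw [← this]
    exact MonoidHom.normal_ker ρ
  have hRker : ∀ R : Sylow p A, ¬ (∀ u ∈ R, ρ u = 1) := by
    intro R h
    obtain ⟨g, rfl⟩ := MulAction.exists_smul_eq A U R
    apply hUker
    intro u hu
    have h1 : g * u * g⁻¹ ∈ g • U := by
      rw [mem_smul_sylow]
      have : g⁻¹ * (g * u * g⁻¹) * g = u := by group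
      rw [this]
      exact hu
    have h2 := h _ h1
    rw [map_mul, map_mul, map_inv] at h2
    have h3 : ρ u = (ρ g)⁻¹ * (ρ g * ρ u * (ρ g)⁻¹) * ρ g := by group
    rw [h3, h2]
    group
  -- fixed points
  have hfixpt : ∀ R : Sylow p A, ∃ e : W, e ≠ 1 ∧ ∀ a ∈ R, ρ a e = e := by
    intro R
    let φ : (R : Subgroup A) →* MulAut W := ρ.comp (R : Subgroup A).subtype
    let _ : MulAction (R : Subgroup A) W := MulAction.compHom W φ
    have hdvd : p ∣ Nat.card W := by rw [hcard]; exact dvd_pow_self p two_ne_zero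
    have h1 : (1 : W) ∈ MulAction.fixedPoints (R : Subgroup A) W := by
      intro a
      show (ρ a) 1 = 1
      exact map_one _
    obtain ⟨b, hb, hne⟩ :=
      R.isPGroup'.exists_fixed_point_of_prime_dvd_card_of_fixed_point W hdvd h1
    exact ⟨b, hne.symm, fun a ha => hb ⟨a, ha⟩⟩
  have hunipR : ∀ R : Sylow p A, ∀ e : W, e ≠ 1 → (∀ a ∈ R, ρ a e = e) → ∀ a ∈ R, a ∈ unip ρ e := by
    intro R e he hR a ha
    obtain ⟨j, hj⟩ := R.isPGroup' ⟨a, ha⟩
    have hj' : a ^ p ^ j = 1 := by simpa using congrArg Subtype.val hj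
    exact mem_unip_of_pow hexp hcard ρ he hj' (hR a ha)
  -- fixing a generator
  have hfixgen : ∀ (a : A) (x e : W), x ∈ zpowers e → x ≠ 1 → ρ a x = x → ρ a e = e := by
    intro a x e hx hx1 hax
    obtain ⟨k, rfl⟩ := mem_zpowers_iff.mp (mem_zpowers_of_mem (hexp e) hx hx1)
    rw [map_zpow, hax]
  -- two points generate
  have hgen : ∀ e₁ e₂ : W, e₁ ≠ 1 → e₂ ∉ zpowers e₁ → ∀ a : A, ρ a e₁ = e₁ → ρ a e₂ = e₂ →
      ρ a = 1 := by
    intro e₁ e₂ he₁ he₂ a h1 h2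
    have hLcard : Nat.card (zpowers e₁) = p := by
      rw [Nat.card_zpowers]
      exact orderOf_eq_prime (hexp e₁) he₁
    have htop : zpowers e₁ ⊔ zpowers e₂ = ⊤ := by
      have hne : zpowers e₁ ≠ zpowers e₁ ⊔ zpowers e₂ := by
        intro h
        apply he₂
        rw [h]
        exact le_sup_right (α := Subgroup W) (mem_zpowers e₂)
      have hdvd : Nat.card ↥(zpowers e₁ ⊔ zpowers e₂) ∣ p ^ 2 :=
        hcard ▸ Subgroup.card_subgroup_dvd_card _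
      obtain ⟨i, hi, hcard'⟩ := (Nat.dvd_prime_pow hp).mp hdvd
      have hi2 : i = 2 := by
        by_contra hi2
        have hi1 : i ≤ 1 := by omega
        apply hne
        apply Subgroup.eq_of_le_of_card_ge le_sup_left
        rw [hLcard, hcard']
        calc p ^ i ≤ p ^ 1 := Nat.pow_le_pow_right hp.pos hi1
          _ = p := pow_one p
      subst hi2
      apply Subgroup.eq_top_of_card_eq
      rw [hcard', hcard]
    ext w
    have hmem : w ∈ zpowers e₁ ⊔ zpowers e₂ := by rw [htop]; exact mem_top _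
    obtain ⟨y, hy, z, hz, rfl⟩ := Subgroup.mem_sup.mp hmem
    obtain ⟨k, rfl⟩ := mem_zpowers_iff.mp hy
    obtain ⟨m, rfl⟩ := mem_zpowers_iff.mp hz
    rw [map_mul, map_zpow, map_zpow, h1, h2]
    rfl
  -- the second Sylow subgroup
  obtain ⟨e₀, he₀, hUe₀⟩ := hfixpt U
  have hnotnormal : ∃ a : A, a • U ≠ U := by
    by_contra hcon
    push Not at hcon
    apply hU
    constructor
    intro n hn g
    have := hcon g
    rw [← this]
    show g * n * g⁻¹ ∈ g • U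
    rw [mem_smul_sylow]
    have : g⁻¹ * (g * n * g⁻¹) * g = n := by group
    rw [this]
    exact hn
  obtain ⟨a, ha⟩ := hnotnormal
  have hU₂fix : ∀ y ∈ a • U, ρ y (ρ a e₀) = ρ a e₀ := by
    intro y hy
    rw [mem_smul_sylow] at hy
    have h1 := hUe₀ _ hy
    rw [map_mul, map_mul, map_inv, MulAut.mul_apply, MulAut.mul_apply] at h1
    have h2 := congrArg (ρ a) h1
    rwa [MulAut.apply_inv_self] at h2
  have he₂1 : ρ a e₀ ≠ 1 := by
    intro h
    apply he₀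
    have : ρ a e₀ = ρ a 1 := by rw [h, map_one]
    exact (ρ a).injective this
  have he₂ : ρ a e₀ ∉ zpowers e₀ := by
    intro hmem
    apply ha
    symm
    apply sylow_eq_of_fix hexp hcard ρ hker he₀ U (a • U) hUe₀
    intro y hy
    exact hfixgen y _ _ hmem he₂1 (hU₂fix y hy)
  obtain ⟨e₂, he₂def⟩ : ∃ e₂, e₂ = ρ a e₀ := ⟨_, rfl⟩
  rw [← he₂def] at hU₂fix he₂1 he₂
  -- `u`
  have hexu : ∃ u ∈ U, ρ u e₂ ≠ e₂ := by
    by_contra hcon
    push Not at hcon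
    exact hUker fun u hu => hgen e₀ e₂ he₀ he₂ u (hUe₀ u hu) (hcon u hu)
  obtain ⟨u, huU, hue₂⟩ := hexu
  obtain ⟨e₁, he₁def⟩ : ∃ e₁, e₁ = e₂⁻¹ * ρ u e₂ := ⟨_, rfl⟩
  have he₁mem : e₁ ∈ zpowers e₀ := he₁def ▸ (hunipR U e₀ he₀ hUe₀ u huU).2 e₂
  have he₁1 : e₁ ≠ 1 := by
    intro h
    apply hue₂
    rw [he₁def] at h
    exact (inv_mul_eq_one.mp h).symm
  have hue₂' : ρ u e₂ = e₂ * e₁ := by rw [he₁def, mul_inv_cancel_left]
  have hUe₁ : ∀ y ∈ U, ρ y e₁ = e₁ := by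
    intro y hy
    obtain ⟨k, hk⟩ := mem_zpowers_iff.mp he₁mem
    rw [← hk, map_zpow, hUe₀ y hy]
  have he₀mem : e₀ ∈ zpowers e₁ := mem_zpowers_of_mem (hexp e₀) he₁mem he₁1
  have he₂' : e₂ ∉ zpowers e₁ := by
    intro h
    apply he₂
    obtain ⟨k, hk⟩ := mem_zpowers_iff.mp h
    rw [← hk]
    exact zpow_mem he₁mem k
  have he₁' : e₁ ∉ zpowers e₂ := by
    intro h
    apply he₂'
    exact mem_zpowers_of_mem (hexp e₂) h he₁1
  -- `v`
  have hexv : ∃ v ∈ a • U, ρ v e₁ ≠ e₁ := by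
    by_contra hcon
    push Not at hcon
    exact hRker (a • U) fun v hv => hgen e₂ e₁ he₂1 he₁' v (hU₂fix v hv) (hcon v hv)
  obtain ⟨v, hvU, hve₁⟩ := hexv
  have hm : e₁⁻¹ * ρ v e₁ ∈ zpowers e₂ := (hunipR (a • U) e₂ he₂1 hU₂fix v hvU).2 e₁
  obtain ⟨c, hc⟩ := mem_powers_iff_mem_zpowers.mpr hm
  have hc' : e₂ ^ c = e₁⁻¹ * ρ v e₁ := hc
  have hve₁' : ρ v e₁ = e₁ * e₂ ^ c := by rw [hc', mul_inv_cancel_left]
  have hc0 : (c : ZMod p) ≠ 0 := by
    intro h0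
    apply hve₁
    have := pow_eq_of_zmod (hexp e₂) (m := c) (n := 0) (by rw [h0]; simp)
    rw [hve₁', this, pow_zero, mul_one]
  obtain ⟨c', hcc'⟩ : ∃ c' : ℕ, (c * c' : ZMod p) = 1 :=
    ⟨((c : ZMod p)⁻¹).val, by rw [ZMod.natCast_zmod_val, mul_inv_cancel₀ hc0]⟩
  obtain ⟨t, t', htt', ht2, ht3⟩ := exists_good_t hp5
  have ht1 : ((1 : ℕ) * (1 : ℕ) : ZMod p) = 1 := by simp
  -- the words
  obtain ⟨hw1, hw2⟩ := weyl_word hp.one_le e₁ e₂ (hexp e₁) (hexp e₂) (ρ u) (ρ v) c (hUe₁ u huU)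
    hue₂' (hU₂fix v hvU) hve₁' t t' c' htt' hcc'
  obtain ⟨hx1, hx2⟩ := weyl_word hp.one_le e₁ e₂ (hexp e₁) (hexp e₂) (ρ u) (ρ v) c (hUe₁ u huU)
    hue₂' (hU₂fix v hvU) hve₁' 1 1 c' (by simp) hcc'
  obtain ⟨w, hwdef⟩ : ∃ w : A, w = u ^ t * v ^ ((p - 1) * t' * c') * u ^ t := ⟨_, rfl⟩
  obtain ⟨x, hxdef⟩ : ∃ x : A, x = u ^ 1 * v ^ ((p - 1) * 1 * c') * u ^ 1 := ⟨_, rfl⟩
  have hρw : ρ w = ρ u ^ t * ρ v ^ ((p - 1) * t' * c') * ρ u ^ t := by
    rw [hwdef, map_mul, map_mul, map_pow, map_pow]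
  have hρx : ρ x = ρ u ^ 1 * ρ v ^ ((p - 1) * 1 * c') * ρ u ^ 1 := by
    rw [hxdef, map_mul, map_mul, map_pow, map_pow]
  rw [← hρw] at hw1 hw2
  rw [← hρx] at hx1 hx2
  rw [pow_one] at hx2
  -- inverse of `x`
  have hxi1 : ρ x⁻¹ e₁ = e₂ := by
    rw [map_inv, ← hx2, MulAut.inv_apply_self]
  have hm1 := cast_pred hp.one_le
  have hxi2 : ρ x⁻¹ e₂ = e₁ ^ (p - 1) := by
    have h1 : ρ x (e₁ ^ (p - 1)) = e₂ := by
      rw [map_pow, hx1, ← pow_mul]
      have := pow_eq_of_zmod (hexp e₂) (m := (p - 1) * 1 * (p - 1)) (n := 1) (by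
        push_cast
        rw [hm1]
        ring)
      rw [this, pow_one]
    rw [map_inv, ← h1, MulAut.inv_apply_self]
  refine ⟨w * x⁻¹, e₁, e₂, t, t', htt', ht2, ht3, he₁1, he₂', ?_, ?_, ?_, ?_, ?_, ?_⟩
  · intro y hy
    exact hunipR U e₁ he₁1 hUe₁ y hy
  · rw [map_mul, MulAut.mul_apply, hxi1, hw2]
  · rw [map_mul, MulAut.mul_apply, hxi2, map_pow, hw1, ← pow_mul]
    apply pow_eq_of_zmod (hexp e₂)
    push_cast
    rw [hm1]
    ring
  · -- normalizes `U`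
    have ht0 : (t : ZMod p) ≠ 0 := by
      intro h0
      rw [h0, zero_mul] at htt'
      exact zero_ne_one htt'
    have hpow1 : e₁ ^ t ≠ 1 := by
      intro h
      -- then `e₁ = (e₁^t)^t' = 1`
      apply he₁1
      have := pow_eq_of_zmod (hexp e₁) (m := t * t') (n := 1) (by push_cast; rw [htt'])
      rw [pow_one, pow_mul, h, one_pow] at this
      exact this.symm
    have hfix : ∀ y ∈ (w * x⁻¹) • U, ρ y e₁ = e₁ := by
      intro y hy
      rw [mem_smul_sylow] at hy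
      have h1 := hUe₁ _ hy
      rw [map_mul, map_mul, map_inv, MulAut.mul_apply, MulAut.mul_apply] at h1
      have h2 := congrArg (ρ (w * x⁻¹)) h1
      rw [MulAut.apply_inv_self] at h2
      have h3 : ρ (w * x⁻¹) e₁ = e₁ ^ t := by
        rw [map_mul, MulAut.mul_apply, hxi1, hw2]
      rw [h3] at h2
      exact hfixgen y (e₁ ^ t) e₁ (pow_mem (mem_zpowers e₁) t) hpow1 h2
    have heq : (w * x⁻¹) • U = U :=
      sylow_eq_of_fix hexp hcard ρ hker he₁1 _ _ hfix hUe₁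
    intro y hy
    rw [← heq, mem_smul_sylow]
    have : (w * x⁻¹)⁻¹ * (w * x⁻¹ * y * (w * x⁻¹)⁻¹) * (w * x⁻¹) = y := by group
    rw [this]
    exact hy
  · -- normal subgroups inside `U` act trivially
    intro N hN hNU n hn
    apply hgen e₁ e₂ he₁1 he₂' n (hUe₁ n (hNU hn))
    have h1 : a⁻¹ * n * a ∈ N := by
      have := hN.conj_mem n hn a⁻¹
      rwa [inv_inv] at this
    have h2 := hUe₀ _ (hNU h1)
    rw [map_mul, map_mul, map_inv, MulAut.mul_apply, MulAut.mul_apply, ← he₂def] at h2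
    have h3 := congrArg (ρ a) h2
    rwa [MulAut.apply_inv_self, ← he₂def] at h3
  · -- the involution
    refine ⟨x * x, fun w' => ?_⟩
    obtain ⟨i, j, rfl⟩ := span_two hexp hcard he₁1 he₂' w'
    have e1 : ρ (x * x) e₁ = e₁⁻¹ := by
      rw [map_mul, MulAut.mul_apply, hx1, map_pow, hx2, mul_one]
      rw [eq_inv_iff_mul_eq_one, ← pow_succ, Nat.sub_add_cancel hp.one_le, hexp]
    have e2 : ρ (x * x) e₂ = e₂⁻¹ := by
      rw [map_mul, MulAut.mul_apply, hx2, hx1, mul_one]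
      rw [eq_inv_iff_mul_eq_one, ← pow_succ, Nat.sub_add_cancel hp.one_le, hexp]
    rw [map_mul, map_pow, map_pow, e1, e2, mul_inv, inv_pow, inv_pow]

end Torus

end Cfsg.Agent.Lib.Helper31.R2
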