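import Mathlib
import Cfsg.Agent.S0126
import Cfsg.Agent.Lib.Helper63.CoprimeOmega
import Cfsg.Agent.Lib.Helper31.R2GL

set_option autoImplicit false
set_option linter.unusedSectionVars false

/-!
Rank two resistant groups (S5289): the final contradiction, normalized form.

`G` is a finite `p`-group, `Ωs` its subgroup of elements of order dividing `p` (of exponent `p`),
generated by `y, x, z` with `z` central in `G`, `x y x⁻¹ = z y`; `b` commutes with `y` and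
`b x b⁻¹ = y x`; `ψ` is an injective endomorphism with `ψ z = z ^ κ`, `ψ x ∈ x ^ μ ⟨z⟩`.
If `κ ≠ μ²` and `μ² ≠ 1` modulo `p`, this is impossible.
-/

namespace Cfsg.Agent.Lib.Helper31.R2

open Subgroup
open scoped commutatorElement

section Conj

variable {G : Type*} [Group G]

theorem conj_pow_right {g u ζ : G} (h : g * u * g⁻¹ = ζ * u) (hc : Commute ζ u) (n : ℕ) :
    g * u ^ n * g⁻¹ = ζ ^ n * u ^ n := by
  have : g * u ^ n * g⁻¹ = (g * u * g⁻¹) ^ n := by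
    rw [conj_pow]
  rw [this, h, hc.mul_pow]

theorem conj_pow_left {g u ζ : G} (h : g * u * g⁻¹ = ζ * u) (hc : Commute g ζ) (n : ℕ) :
    g ^ n * u * (g ^ n)⁻¹ = ζ ^ n * u := by
  induction n with
  | zero => simp
  | succ n ih =>
    have : g ^ (n + 1) * u * (g ^ (n + 1))⁻¹ = g * (g ^ n * u * (g ^ n)⁻¹) * g⁻¹ := by
      rw [pow_succ']
      group
    rw [this, ih]
    have h2 : g * (ζ ^ n * u) * g⁻¹ = (g * ζ ^ n * g⁻¹) * (g * u * g⁻¹) := by group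
    rw [h2, h, (hc.pow_right n).eq, mul_inv_cancel_right, pow_succ, mul_assoc]

theorem conj_inv_of {g u ζ : G} (h : g * u * g⁻¹ = ζ * u) (hc : Commute g ζ) :
    g⁻¹ * u * g = ζ⁻¹ * u := by
  have h1 : u = g⁻¹ * (ζ * u) * g := by rw [← h]; group
  have h2 : g⁻¹ * (ζ * u) * g = (g⁻¹ * ζ * g) * (g⁻¹ * u * g) := by group
  have h3 : g⁻¹ * ζ * g = ζ := by
    rw [mul_assoc, ← hc.eq, inv_mul_cancel_left]
  rw [h2, h3] at h1
  rw [eq_inv_mul_iff_mul_eq]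
  exact h1.symm

end Conj

section NT

/-- the number theory behind the centrality of the cyclic centralizer. -/
theorem modEq_one_of_pow {p n₀ r s i : ℕ} [Fact p.Prime] (h1 : r ^ p ≡ 1 [MOD n₀])
    (h2 : r ^ i * s ≡ s * r [MOD n₀]) (hs : Nat.gcd n₀ s = 1) (hi : (i : ZMod p) ≠ 1) :
    r ≡ 1 [MOD n₀] := by
  have hp : p.Prime := Fact.out
  have hr : r.Coprime n₀ := by
    apply Nat.coprime_of_mul_modEq_one (r ^ (p - 1))
    rw [← pow_succ', Nat.sub_add_cancel hp.one_le]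
    exact h1
  have h3 : r ^ i ≡ r [MOD n₀] := by
    apply Nat.ModEq.cancel_right_of_coprime hs
    rw [mul_comm r s]
    exact h2
  obtain ⟨u, hu⟩ : ∃ u : (ZMod n₀)ˣ, u = ZMod.unitOfCoprime r hr := ⟨_, rfl⟩
  have hu1 : u ^ p = 1 := by
    apply Units.ext
    rw [hu]
    simp only [Units.val_pow_eq_pow_val, ZMod.coe_unitOfCoprime, Units.val_one]
    have := (ZMod.natCast_eq_natCast_iff (r ^ p) 1 n₀).mpr h1
    push_cast at this
    exact this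
  have hu2 : u ^ i = u ^ 1 := by
    apply Units.ext
    rw [hu]
    simp only [Units.val_pow_eq_pow_val, ZMod.coe_unitOfCoprime, pow_one]
    have := (ZMod.natCast_eq_natCast_iff (r ^ i) r n₀).mpr h3
    push_cast at this
    exact this
  have hord : orderOf u ∣ p := orderOf_dvd_of_pow_eq_one hu1
  have hu3 : u = 1 := by
    rcases (Nat.dvd_prime hp).mp hord with h | h
    · exact orderOf_eq_one_iff.mp h
    · exfalso
      apply hi
      rw [pow_eq_pow_iff_modEq, h] at hu2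
      have := (ZMod.natCast_eq_natCast_iff i 1 p).mpr hu2
      push_cast at this
      exact this
  have h4 : ((r : ℕ) : ZMod n₀) = ((1 : ℕ) : ZMod n₀) := by
    have := congrArg Units.val hu3
    rw [hu, ZMod.coe_unitOfCoprime, Units.val_one] at this
    rw [this]
    simp
  exact (ZMod.natCast_eq_natCast_iff r 1 n₀).mp h4

end NT

section Core

variable {G : Type*} [Group G]

/-- the normalized configuration. -/
structure CoreB (p : ℕ) (Ωs : Subgroup G) (ψ : G →* G) (z y x b : G) (κ μ : ℕ) : Prop where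
  hΩ1 : ∀ w : G, w ^ p = 1 → w ∈ Ωs
  hΩ2 : ∀ w ∈ Ωs, w ^ p = 1
  hzc : ∀ g : G, g * z = z * g
  hz1 : z ≠ 1
  hzΩ : z ∈ Ωs
  hyΩ : y ∈ Ωs
  hxΩ : x ∈ Ωs
  hby : b * y = y * b
  hbx : b * x * b⁻¹ = y * x
  hxy : x * y * x⁻¹ = z * y
  hgen : ∀ w ∈ Ωs, ∃ (i j : ℕ), ∃ ζ ∈ zpowers z, w = y ^ i * x ^ j * ζ
  hGx : ∀ g : G, ∃ (i : ℕ), ∃ ζ ∈ zpowers z, g * x * g⁻¹ = y ^ i * ζ * x
  hψ : Function.Injective ψ
  hψz : ψ z = z ^ κ
  hψx : ∃ ζ ∈ zpowers z, ψ x = x ^ μ * ζ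
  h1 : (κ : ZMod p) ≠ (μ : ZMod p) ^ 2
  h2 : (μ : ZMod p) ^ 2 ≠ 1

namespace CoreB

variable {p : ℕ} [Fact p.Prime] {Ωs : Subgroup G} {ψ : G →* G} {z y x b : G} {κ μ : ℕ}

theorem Zc (h : CoreB p Ωs ψ z y x b κ μ) {ζ : G} (hζ : ζ ∈ zpowers z) (g : G) : Commute g ζ := by
  obtain ⟨k, rfl⟩ := mem_zpowers_iff.mp hζ
  exact Commute.zpow_right (h.hzc g) k

theorem zp (h : CoreB p Ωs ψ z y x b κ μ) : z ^ p = 1 := h.hΩ2 z h.hzΩ
theorem yp (h : CoreB p Ωs ψ z y x b κ μ) : y ^ p = 1 := h.hΩ2 y h.hyΩ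
theorem xp (h : CoreB p Ωs ψ z y x b κ μ) : x ^ p = 1 := h.hΩ2 x h.hxΩ

theorem orderOf_z (h : CoreB p Ωs ψ z y x b κ μ) : orderOf z = p :=
  orderOf_eq_prime h.zp h.hz1

theorem z_pow_eq_one (h : CoreB p Ωs ψ z y x b κ μ) {n : ℕ} (hn : z ^ n = 1) :
    (n : ZMod p) = 0 := by
  rw [ZMod.natCast_eq_zero_iff, ← h.orderOf_z]
  exact orderOf_dvd_of_pow_eq_one hn

theorem z_pow_eq (h : CoreB p Ωs ψ z y x b κ μ) {m n : ℕ} (hn : z ^ m = z ^ n) :
    (m : ZMod p) = (n : ZMod p) := by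
  rw [pow_eq_pow_iff_modEq, h.orderOf_z] at hn
  exact (ZMod.natCast_eq_natCast_iff m n p).mpr hn

theorem y_notMem (h : CoreB p Ωs ψ z y x b κ μ) : y ∉ zpowers z := by
  intro hy
  apply h.hz1
  have h1 := (h.Zc hy x).eq
  have h2 := h.hxy
  rw [h1, mul_inv_cancel_right] at h2
  exact (mul_eq_right.mp h2.symm)

theorem y_pow_mem (h : CoreB p Ωs ψ z y x b κ μ) {n : ℕ} (hn : y ^ n ∈ zpowers z) :
    (n : ZMod p) = 0 := by
  by_contra hne
  apply h.y_notMem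
  have h1 : y ^ n ≠ 1 := by
    intro h1
    apply hne
    have : orderOf y = p := orderOf_eq_prime h.yp (by
      intro hy1
      apply h.y_notMem
      rw [hy1]
      exact one_mem _)
    rw [ZMod.natCast_eq_zero_iff, ← this]
    exact orderOf_dvd_of_pow_eq_one h1
  have h2 : y ∈ zpowers (y ^ n) :=
    mem_zpowers_of_mem h.yp (pow_mem (mem_zpowers y) n) h1
  exact (zpowers_le.mpr hn) h2

/-- `x y^i x⁻¹ = z^i y^i` -/
theorem conj_x_ypow (h : CoreB p Ωs ψ z y x b κ μ) (i : ℕ) :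
    x * y ^ i * x⁻¹ = z ^ i * y ^ i :=
  conj_pow_right h.hxy (h.hzc y).symm i

/-- `x^j y x^-j = z^j y` -/
theorem conj_xpow_y (h : CoreB p Ωs ψ z y x b κ μ) (j : ℕ) :
    x ^ j * y * (x ^ j)⁻¹ = z ^ j * y :=
  conj_pow_left h.hxy (h.hzc x) j

/-- `y x y⁻¹ = z⁻¹ x` -/
theorem conj_y_x (h : CoreB p Ωs ψ z y x b κ μ) : y * x * y⁻¹ = z⁻¹ * x := by
  have h1 : x * y = z * y * x := by
    rw [← h.hxy]
    group
  have h2 : y * x = z⁻¹ * (x * y) := by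
    rw [h1]
    group
  rw [h2]
  group

theorem conj_ypow_x (h : CoreB p Ωs ψ z y x b κ μ) (i : ℕ) :
    y ^ i * x * (y ^ i)⁻¹ = z⁻¹ ^ i * x :=
  conj_pow_left h.conj_y_x (show Commute y z from h.hzc y).inv_right i

/-- `b^n x b^-n = y^n x` -/
theorem conj_bpow_x (h : CoreB p Ωs ψ z y x b κ μ) (n : ℕ) :
    b ^ n * x * (b ^ n)⁻¹ = y ^ n * x := by
  induction n with
  | zero => simp
  | succ n ih =>
    have : b ^ (n + 1) * x * (b ^ (n + 1))⁻¹ = b * (b ^ n * x * (b ^ n)⁻¹) * b⁻¹ := by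
      rw [pow_succ']
      group
    rw [this, ih]
    have h2 : b * (y ^ n * x) * b⁻¹ = (b * y ^ n * b⁻¹) * (b * x * b⁻¹) := by group
    have h3 : b * y ^ n * b⁻¹ = y ^ n := by
      rw [((show Commute b y from h.hby).pow_right n).eq, mul_inv_cancel_right]
    rw [h2, h3, h.hbx, ← mul_assoc, ← pow_succ]

theorem conj_bpow_inv_x (h : CoreB p Ωs ψ z y x b κ μ) (n : ℕ) :
    (b ^ n)⁻¹ * x * b ^ n = (y ^ n)⁻¹ * x := by
  have h1 := h.conj_bpow_x n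
  have h3 : (b ^ n)⁻¹ * y ^ n * b ^ n = y ^ n := by
    rw [mul_assoc, ← ((show Commute b y from h.hby).pow_pow n n).eq, inv_mul_cancel_left]
  have h2 : x = (b ^ n)⁻¹ * (y ^ n * x) * b ^ n := by
    rw [← h1]
    group
  have h4 : (b ^ n)⁻¹ * (y ^ n * x) * b ^ n = ((b ^ n)⁻¹ * y ^ n * b ^ n) * ((b ^ n)⁻¹ * x * b ^ n) := by
    group
  rw [h4, h3] at h2
  rw [eq_inv_mul_iff_mul_eq]
  exact h2.symm

/-- elements of `Ωs` act on `x` through `⟨z⟩` -/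
theorem conj_Ω_x (h : CoreB p Ωs ψ z y x b κ μ) {w : G} (hw : w ∈ Ωs) :
    ∃ ζ ∈ zpowers z, w * x * w⁻¹ = ζ * x := by
  obtain ⟨i, j, ζ, hζ, rfl⟩ := h.hgen w hw
  refine ⟨z⁻¹ ^ i, pow_mem (inv_mem (mem_zpowers z)) i, ?_⟩
  have h1 : y ^ i * x ^ j * ζ * x * (y ^ i * x ^ j * ζ)⁻¹ =
      y ^ i * (x ^ j * (ζ * x * ζ⁻¹) * (x ^ j)⁻¹) * (y ^ i)⁻¹ := by group
  have h2 : ζ * x * ζ⁻¹ = x := by
    rw [← (h.Zc hζ x).eq, mul_inv_cancel_right]
  have h3 : x ^ j * x * (x ^ j)⁻¹ = x := by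
    rw [← pow_succ, pow_succ', mul_inv_cancel_right]
  rw [h1, h2, h3, h.conj_ypow_x]

/-- the centre of `Ωs` -/
theorem center_Ω (h : CoreB p Ωs ψ z y x b κ μ) {w : G} (hw : w ∈ Ωs) (hwy : w * y = y * w)
    (hwx : w * x = x * w) : w ∈ zpowers z := by
  obtain ⟨i, j, ζ, hζ, rfl⟩ := h.hgen w hw
  -- conjugating `y`
  have h1 : y ^ i * x ^ j * ζ * y * (y ^ i * x ^ j * ζ)⁻¹ =
      y ^ i * (x ^ j * (ζ * y * ζ⁻¹) * (x ^ j)⁻¹) * (y ^ i)⁻¹ := by group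
  have h2 : ζ * y * ζ⁻¹ = y := by
    rw [← (h.Zc hζ y).eq, mul_inv_cancel_right]
  have h3 : y ^ i * (z ^ j * y) * (y ^ i)⁻¹ = z ^ j * y := by
    have : y ^ i * (z ^ j * y) * (y ^ i)⁻¹ = (y ^ i * z ^ j * (y ^ i)⁻¹) * (y ^ i * y * (y ^ i)⁻¹) := by
      group
    rw [this, ((show Commute y z from h.hzc y).pow_pow i j).eq, mul_inv_cancel_right, ← pow_succ,
      pow_succ', mul_inv_cancel_right]
  have h4 : y ^ i * x ^ j * ζ * y * (y ^ i * x ^ j * ζ)⁻¹ = y := by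
    rw [hwy, mul_inv_cancel_right]
  rw [h1, h2, h.conj_xpow_y, h3] at h4
  have hj : (j : ZMod p) = 0 := h.z_pow_eq_one (mul_eq_right.mp h4)
  have hxj : x ^ j = 1 := by
    have := pow_eq_of_zmod h.xp (m := j) (n := 0) (by rw [hj]; simp)
    rw [this, pow_zero]
  rw [hxj, mul_one] at hwx ⊢
  -- conjugating `x`
  have h5 : y ^ i * ζ * x * (y ^ i * ζ)⁻¹ = y ^ i * (ζ * x * ζ⁻¹) * (y ^ i)⁻¹ := by group
  have h6 : ζ * x * ζ⁻¹ = x := by
    rw [← (h.Zc hζ x).eq, mul_inv_cancel_right]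
  have h7 : y ^ i * ζ * x * (y ^ i * ζ)⁻¹ = x := by
    rw [hwx, mul_inv_cancel_right]
  rw [h5, h6, h.conj_ypow_x] at h7
  have h8 : z⁻¹ ^ i = 1 := mul_eq_right.mp h7
  rw [inv_pow, inv_eq_one] at h8
  have hi : (i : ZMod p) = 0 := h.z_pow_eq_one h8
  have hyi : y ^ i = 1 := by
    have := pow_eq_of_zmod h.yp (m := i) (n := 0) (by rw [hi]; simp)
    rw [this, pow_zero]
  rw [hyi, one_mul]
  exact hζ

/-- an element commuting with `y`, `x` centralizes `Ωs` -/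
theorem mem_centralizer (h : CoreB p Ωs ψ z y x b κ μ) {g : G} (hgy : g * y = y * g)
    (hgx : g * x = x * g) : g ∈ centralizer (Ωs : Set G) := by
  rw [mem_centralizer_iff]
  intro w hw
  obtain ⟨i, j, ζ, hζ, rfl⟩ := h.hgen w hw
  have c1 : Commute g (y ^ i) := (show Commute g y from hgy).pow_right i
  have c2 : Commute g (x ^ j) := (show Commute g x from hgx).pow_right j
  have c3 : Commute g ζ := h.Zc hζ g
  exact ((c1.mul_right c2).mul_right c3).eq.symm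

/-- the centralizer of `Ωs` is cyclic -/
theorem exists_gen [Finite G] (h : CoreB p Ωs ψ z y x b κ μ) (hp2 : p ≠ 2) (hG : IsPGroup p G) :
    ∃ c ∈ centralizer (Ωs : Set G), ∀ w ∈ centralizer (Ωs : Set G), w ∈ zpowers c := by
  have hp : p.Prime := Fact.out
  have hcyc : IsCyclic ↥(centralizer (Ωs : Set G)) := by
    by_contra hnc
    obtain ⟨A, -, hAe, hAc⟩ := Cfsg.Agent.S0126.result hp2 (hG.to_subgroup _) hnc
    have hle : A.map (centralizer (Ωs : Set G)).subtype ≤ zpowers z := by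
      rintro _ ⟨a, ha, rfl⟩
      have hap : ((a : G)) ^ p = 1 := by
        have := hAe.2 a ha
        exact_mod_cast congrArg Subtype.val this
      have haΩ := h.hΩ1 _ hap
      have hac := a.2
      apply h.center_Ω haΩ
      · exact (mem_centralizer_iff.mp hac y h.hyΩ).symm
      · exact (mem_centralizer_iff.mp hac x h.hxΩ).symm
    have hcard : Nat.card (A.map (centralizer (Ωs : Set G)).subtype) = p ^ 2 := by
      rw [Subgroup.card_map_of_injective (Subgroup.subtype_injective _), hAc]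
    have h2 := Subgroup.card_le_of_le hle
    rw [hcard, Nat.card_zpowers, h.orderOf_z] at h2
    have : p * 2 ≤ p * p := Nat.mul_le_mul_left p hp.two_le
    nlinarith [hp.two_le]
  obtain ⟨g, hg⟩ := hcyc.exists_generator
  refine ⟨(g : G), g.2, fun w hw => ?_⟩
  have := hg ⟨w, hw⟩
  obtain ⟨k, hk⟩ := mem_zpowers_iff.mp this
  refine mem_zpowers_iff.mpr ⟨k, ?_⟩
  have := congrArg Subtype.val hk
  simpa using this

/-- modifying by a power of `y` to land in the centralizer -/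
theorem exists_mul_mem_centralizer [Finite G] (h : CoreB p Ωs ψ z y x b κ μ) {g ζ : G}
    (hζ : ζ ∈ zpowers z) (hgy : g * y = y * g) (hgx : g * x * g⁻¹ = ζ * x) :
    ∃ k : ℕ, y ^ k * g ∈ centralizer (Ωs : Set G) := by
  obtain ⟨k, hk⟩ := mem_powers_iff_mem_zpowers.mpr hζ
  have hk' : z ^ k = ζ := hk
  refine ⟨k, h.mem_centralizer ?_ ?_⟩
  · rw [mul_assoc, hgy, ← mul_assoc, ← pow_succ, pow_succ', mul_assoc]
  · have h1 : y ^ k * g * x * (y ^ k * g)⁻¹ = x := by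
      have : y ^ k * g * x * (y ^ k * g)⁻¹ = y ^ k * (g * x * g⁻¹) * (y ^ k)⁻¹ := by group
      rw [this, hgx, ← hk']
      have h2 : y ^ k * (z ^ k * x) * (y ^ k)⁻¹ = (y ^ k * z ^ k * (y ^ k)⁻¹) * (y ^ k * x * (y ^ k)⁻¹) := by
        group
      rw [h2, h.conj_ypow_x, ((show Commute y z from h.hzc y).pow_pow k k).eq, mul_inv_cancel_right,
        ← mul_assoc, inv_pow, mul_inv_cancel, one_mul]
    exact (mul_inv_eq_iff_eq_mul.mp h1)

/-- the image of `y` under `ψ` -/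
theorem psi_y (h : CoreB p Ωs ψ z y x b κ μ) {i' : ℕ} {ζ' : G} (hζ' : ζ' ∈ zpowers z)
    (hb'x : ψ b * x * (ψ b)⁻¹ = y ^ i' * ζ' * x) :
    ∃ ζ'' ∈ zpowers z, ψ y = y ^ (i' * μ) * ζ'' := by
  obtain ⟨ζ, hζ, hψx⟩ := h.hψx
  have hy : y = b * x * b⁻¹ * x⁻¹ := by rw [h.hbx, mul_inv_cancel_right]
  have h1 : ψ y = ψ b * ψ x * (ψ b)⁻¹ * (ψ x)⁻¹ := by
    conv_lhs => rw [hy]
    simp only [map_mul, map_inv]
  have h2 : ψ b * ψ x * (ψ b)⁻¹ = (y ^ i' * ζ' * x) ^ μ * ζ := by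
    rw [hψx, ← hb'x, conj_pow]
    have : ψ b * (x ^ μ * ζ) * (ψ b)⁻¹ = ψ b * x ^ μ * (ψ b)⁻¹ * (ψ b * ζ * (ψ b)⁻¹) := by group
    rw [this, (h.Zc hζ (ψ b)).eq, mul_inv_cancel_right]
  obtain ⟨u, hu⟩ : ∃ u, u = y ^ i' * ζ' := ⟨_, rfl⟩
  have hxu : ⁅x, u⁆ = z ^ i' := by
    rw [commutatorElement_def, hu]
    have : x * (y ^ i' * ζ') * x⁻¹ = (x * y ^ i' * x⁻¹) * (x * ζ' * x⁻¹) := by group
    rw [this, h.conj_x_ypow, (h.Zc hζ' x).eq, mul_inv_cancel_right]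
    group
  have hcz : ∀ g : G, Commute (z ^ i') g := fun g =>
    ((show Commute g z from h.hzc g).pow_right i').symm
  have h3 := Cfsg.Agent.Lib.Helper63.mul_pow_of_commute u x (hxu ▸ hcz u) (hxu ▸ hcz x) μ
  rw [hxu] at h3
  have h4 : u ^ μ = y ^ (i' * μ) * ζ' ^ μ := by
    rw [hu, (h.Zc hζ' (y ^ i')).mul_pow, pow_mul]
  refine ⟨ζ' ^ μ * (z ^ i') ^ (μ.choose 2),
    mul_mem (pow_mem hζ' _) (pow_mem (pow_mem (mem_zpowers z) _) _), ?_⟩
  rw [h1, h2, ← hu, h3, h4, hψx]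
  have c1 : Commute (x ^ μ) ((z ^ i') ^ μ.choose 2) := ((hcz (x ^ μ)).pow_left _).symm
  have h5 : y ^ (i' * μ) * ζ' ^ μ * x ^ μ * (z ^ i') ^ μ.choose 2 * ζ * (x ^ μ * ζ)⁻¹ =
      y ^ (i' * μ) * ζ' ^ μ * (x ^ μ * (z ^ i') ^ μ.choose 2 * (x ^ μ)⁻¹) := by group
  rw [h5, c1.eq, mul_inv_cancel_right, mul_assoc]

theorem kappa_rel (h : CoreB p Ωs ψ z y x b κ μ) {l : ℕ} {ζ'' : G} (hζ'' : ζ'' ∈ zpowers z)
    (hψy : ψ y = y ^ l * ζ'') : ((μ * l : ℕ) : ZMod p) = (κ : ZMod p) := by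
  obtain ⟨ζ, hζ, hψx⟩ := h.hψx
  have h1 : ψ x * ψ y * (ψ x)⁻¹ = ψ z * ψ y := by
    rw [← map_inv, ← map_mul, ← map_mul, ← map_mul, h.hxy]
  rw [hψx, hψy, h.hψz] at h1
  have e1 : x ^ μ * ζ * (y ^ l * ζ'') * (x ^ μ * ζ)⁻¹ =
      x ^ μ * (ζ * (y ^ l * ζ'') * ζ⁻¹) * (x ^ μ)⁻¹ := by group
  have e2 : ζ * (y ^ l * ζ'') * ζ⁻¹ = y ^ l * ζ'' := by
    rw [← (h.Zc hζ _).eq, mul_inv_cancel_right]
  have e3 : x ^ μ * (y ^ l * ζ'') * (x ^ μ)⁻¹ =
      (x ^ μ * y ^ l * (x ^ μ)⁻¹) * (x ^ μ * ζ'' * (x ^ μ)⁻¹) := by group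
  have e4 : x ^ μ * ζ'' * (x ^ μ)⁻¹ = ζ'' := by
    rw [(h.Zc hζ'' _).eq, mul_inv_cancel_right]
  have e5 : x ^ μ * y ^ l * (x ^ μ)⁻¹ = (z ^ μ) ^ l * y ^ l := by
    rw [← conj_pow, h.conj_xpow_y, ((show Commute y z from h.hzc y).symm.pow_left μ).mul_pow]
  rw [e1, e2, e3, e4, e5, mul_assoc, mul_right_cancel_iff, ← pow_mul] at h1
  exact h.z_pow_eq h1

theorem commute_of_commute_pow {u g : G} (hu : u ^ p = 1) {n : ℕ} (hn : (n : ZMod p) ≠ 0)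
    (hc : Commute g (u ^ n)) : Commute g u := by
  by_cases hu1 : u = 1
  · rw [hu1]
    exact Commute.one_right g
  have ho : orderOf u = p := orderOf_eq_prime hu hu1
  have hne : u ^ n ≠ 1 := by
    intro h1
    apply hn
    rw [ZMod.natCast_eq_zero_iff, ← ho]
    exact orderOf_dvd_of_pow_eq_one h1
  obtain ⟨k, hk⟩ := mem_zpowers_iff.mp (mem_zpowers_of_mem hu (pow_mem (mem_zpowers u) n) hne)
  rw [← hk]
  exact hc.zpow_right k

theorem false_of [Finite G] (h : CoreB p Ωs ψ z y x b κ μ) (hp2 : p ≠ 2) (hG : IsPGroup p G) :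
    False := by
  have hp : p.Prime := Fact.out
  obtain ⟨c, hcC, hcgen⟩ := h.exists_gen hp2 hG
  obtain ⟨i', ζ', hζ', hb'x⟩ := h.hGx (ψ b)
  obtain ⟨ζ, hζ, hψx⟩ := h.hψx
  obtain ⟨ζ'', hζ'', hψy⟩ := h.psi_y hζ' hb'x
  have hrel := h.kappa_rel hζ'' hψy
  push_cast at hrel
  have hκ0 : (κ : ZMod p) ≠ 0 := by
    intro h0
    have h1 : z ^ κ = z ^ 0 := pow_eq_of_zmod h.zp (by rw [h0]; simp)
    rw [pow_zero, ← h.hψz] at h1
    have h2 : ψ z = ψ 1 := by rw [h1, map_one]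
    exact h.hz1 (h.hψ h2)
  have hi1 : (i' : ZMod p) ≠ 1 := by
    intro h1
    apply h.h1
    rw [← hrel, h1]
    ring
  have hiκ : (i' : ZMod p) ≠ κ := by
    intro h1
    rw [h1] at hrel
    have h3 : (κ : ZMod p) * ((μ : ZMod p) ^ 2 - 1) = 0 := by linear_combination hrel
    rcases mul_eq_zero.mp h3 with h0 | h0
    · exact hκ0 h0
    · exact h.h2 (sub_eq_zero.mp h0)
  have hμ0 : (μ : ZMod p) ≠ 0 := by
    intro h0
    apply hκ0
    rw [← hrel, h0]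
    ring
  have hi0 : (i' : ZMod p) ≠ 0 := by
    intro h0
    apply hκ0
    rw [← hrel, h0]
    ring
  have hl0 : ((i' * μ : ℕ) : ZMod p) ≠ 0 := by
    push_cast
    exact mul_ne_zero hi0 hμ0
  have hcomm_y : ∀ g : G, Commute g (ψ y) → Commute g y := by
    intro g hg
    apply commute_of_commute_pow h.yp hl0
    rw [hψy] at hg
    have h1 : y ^ (i' * μ) = y ^ (i' * μ) * ζ'' * ζ''⁻¹ := by rw [mul_inv_cancel_right]
    rw [h1]
    exact hg.mul_right (h.Zc hζ'' g).inv_right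
  have hcomm_x : ∀ g : G, Commute g (ψ x) → Commute g x := by
    intro g hg
    apply commute_of_commute_pow h.xp hμ0
    rw [hψx] at hg
    have h1 : x ^ μ = x ^ μ * ζ * ζ⁻¹ := by rw [mul_inv_cancel_right]
    rw [h1]
    exact hg.mul_right (h.Zc hζ g).inv_right
  have hb'y : Commute (ψ b) y := hcomm_y _ (by
    show ψ b * ψ y = ψ y * ψ b
    rw [← map_mul, ← map_mul, h.hby])
  have hby : Commute b y := h.hby
  -- `g := (b^i')⁻¹ * ψ b`
  have hgy : (b ^ i')⁻¹ * ψ b * y = y * ((b ^ i')⁻¹ * ψ b) :=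
    (((hby.pow_left i').inv_left).mul_left hb'y).eq
  have hgx : (b ^ i')⁻¹ * ψ b * x * ((b ^ i')⁻¹ * ψ b)⁻¹ = ζ' * x := by
    have e1 : (b ^ i')⁻¹ * ψ b * x * ((b ^ i')⁻¹ * ψ b)⁻¹ =
        (b ^ i')⁻¹ * (ψ b * x * (ψ b)⁻¹) * b ^ i' := by group
    have e2 : (b ^ i')⁻¹ * (y ^ i' * ζ' * x) * b ^ i' =
        ((b ^ i')⁻¹ * y ^ i' * b ^ i') * ((b ^ i')⁻¹ * ζ' * b ^ i') * ((b ^ i')⁻¹ * x * b ^ i') := by
      group
    have e3 : (b ^ i')⁻¹ * y ^ i' * b ^ i' = y ^ i' := by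
      rw [mul_assoc, ← (hby.pow_pow i' i').eq, inv_mul_cancel_left]
    have e4 : (b ^ i')⁻¹ * ζ' * b ^ i' = ζ' := by
      rw [mul_assoc, ← (h.Zc hζ' (b ^ i')).eq, inv_mul_cancel_left]
    rw [e1, hb'x, e2, e3, e4, h.conj_bpow_inv_x, (h.Zc hζ' (y ^ i')).eq]
    group
  obtain ⟨k, hk⟩ := h.exists_mul_mem_centralizer hζ' hgy hgx
  obtain ⟨c₀, hc₀⟩ : ∃ c₀, c₀ = y ^ k * ((b ^ i')⁻¹ * ψ b) := ⟨_, rfl⟩
  rw [← hc₀] at hk
  have hψb : ψ b = b ^ i' * (y ^ k)⁻¹ * c₀ := by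
    rw [hc₀, mul_assoc, inv_mul_cancel_left, mul_inv_cancel_left]
  -- elements of `C₀`
  have hCpow : ∀ w ∈ centralizer (Ωs : Set G), ∃ n : ℕ, c ^ n = w := fun w hw =>
    mem_powers_iff_mem_zpowers.mpr (hcgen w hw)
  have hCΩ : ∀ w ∈ centralizer (Ωs : Set G), ∀ v ∈ Ωs, Commute w v := fun w hw v hv =>
    (mem_centralizer_iff.mp hw v hv).symm
  have hCc : ∀ w ∈ centralizer (Ωs : Set G), Commute w c := by
    intro w hw
    obtain ⟨n, rfl⟩ := hCpow w hw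
    exact (Commute.refl c).pow_left n
  -- `Ωs` is normal
  have hΩn : ∀ g : G, ∀ w ∈ Ωs, g⁻¹ * w * g ∈ Ωs := by
    intro g w hw
    apply h.hΩ1
    have : g⁻¹ * w * g = g⁻¹ * w * g⁻¹⁻¹ := by rw [inv_inv]
    rw [this, conj_pow, h.hΩ2 w hw, mul_one, mul_inv_cancel]
  have hbcC : b * c * b⁻¹ ∈ centralizer (Ωs : Set G) := by
    rw [mem_centralizer_iff]
    intro w hw
    have h1 := (hCΩ c hcC _ (hΩn b w hw)).eq
    -- `c * (b⁻¹ w b) = (b⁻¹ w b) * c`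
    have h2 : w * (b * c * b⁻¹) = b * ((b⁻¹ * w * b) * c) * b⁻¹ := by group
    rw [h2, ← h1]
    group
  obtain ⟨r, hr⟩ := hCpow _ hbcC
  have hbn : ∀ n : ℕ, b ^ n * c * (b ^ n)⁻¹ = c ^ (r ^ n) := by
    intro n
    induction n with
    | zero => simp
    | succ n ih =>
      have e : b ^ (n + 1) * c * (b ^ (n + 1))⁻¹ = b * (b ^ n * c * (b ^ n)⁻¹) * b⁻¹ := by
        rw [pow_succ']
        group
      rw [e, ih, ← conj_pow, ← hr, ← pow_mul, pow_succ']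
  have hbpC : b ^ p ∈ centralizer (Ωs : Set G) := by
    apply h.mem_centralizer
    · exact (hby.pow_left p).eq
    · have := h.conj_bpow_x p
      rw [h.yp, one_mul] at this
      exact mul_inv_eq_iff_eq_mul.mp this
  obtain ⟨j, hj⟩ := hCpow _ hbpC
  have hrp : c ^ (r ^ p) = c ^ 1 := by
    rw [← hbn p, pow_one, (hCc _ hbpC).eq, mul_inv_cancel_right]
  have hψcC : ψ c ∈ centralizer (Ωs : Set G) := by
    apply h.mem_centralizer
    · apply (hcomm_y (ψ c) _).eq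
      show ψ c * ψ y = ψ y * ψ c
      rw [← map_mul, ← map_mul, (hCΩ c hcC y h.hyΩ).eq]
    · apply (hcomm_x (ψ c) _).eq
      show ψ c * ψ x = ψ x * ψ c
      rw [← map_mul, ← map_mul, (hCΩ c hcC x h.hxΩ).eq]
  obtain ⟨s, hs⟩ := hCpow _ hψcC
  -- conjugating `c ^ s` by `ψ b`
  have hconj : ψ b * c ^ s * (ψ b)⁻¹ = c ^ (r ^ i' * s) := by
    have c1 : Commute c₀ (c ^ s) := (hCc c₀ hk).pow_right s
    have c2 : Commute (y ^ k)⁻¹ (c ^ s) :=
      (((hCΩ c hcC y h.hyΩ).symm.pow_left k).inv_left).pow_right s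
    have e : ψ b * c ^ s * (ψ b)⁻¹ =
        b ^ i' * ((y ^ k)⁻¹ * (c₀ * c ^ s * c₀⁻¹) * (y ^ k)⁻¹⁻¹) * (b ^ i')⁻¹ := by
      rw [hψb]
      group
    rw [e, c1.eq, mul_inv_cancel_right, c2.eq, mul_inv_cancel_right, ← conj_pow, hbn, ← pow_mul]
  have hconj2 : ψ b * c ^ s * (ψ b)⁻¹ = c ^ (s * r) := by
    rw [hs, ← map_inv, ← map_mul, ← map_mul, ← hr, map_pow, ← hs, ← pow_mul]
  have hmod1 : r ^ p ≡ 1 [MOD orderOf c] := pow_eq_pow_iff_modEq.mp hrp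
  have hmod2 : r ^ i' * s ≡ s * r [MOD orderOf c] := by
    rw [← pow_eq_pow_iff_modEq, ← hconj, hconj2]
  have hopos : 0 < orderOf c := orderOf_pos c
  have hgcd : Nat.gcd (orderOf c) s = 1 := by
    have h1 : orderOf (c ^ s) = orderOf c := by
      rw [hs]
      exact orderOf_injective ψ h.hψ c
    rw [orderOf_pow] at h1
    rcases (Nat.div_eq_self.mp h1) with h2 | h2
    · omega
    · exact h2
  have hr1 : r ≡ 1 [MOD orderOf c] := modEq_one_of_pow hmod1 hmod2 hgcd hi1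
  have hbc : Commute b c := by
    have h1 : c ^ r = c ^ 1 := pow_eq_pow_iff_modEq.mpr hr1
    rw [pow_one, hr] at h1
    exact (mul_inv_eq_iff_eq_mul.mp h1)
  -- `s = κ` modulo `p`
  have hzC : z ∈ centralizer (Ωs : Set G) := by
    rw [mem_centralizer_iff]
    intro w _
    exact h.hzc w
  obtain ⟨iz, hiz⟩ := hCpow z hzC
  have hsκ : (s : ZMod p) = κ := by
    have h1 : ψ z = z ^ s := by
      rw [← hiz, map_pow, ← hs, ← pow_mul, ← pow_mul, mul_comm]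
    rw [h.hψz] at h1
    exact (h.z_pow_eq h1).symm
  have hpdvd : p ∣ orderOf c := by
    rw [← h.orderOf_z]
    exact orderOf_dvd_of_mem_zpowers (hcgen z hzC)
  obtain ⟨j', hj'⟩ := hCpow c₀ hk
  have hbc₀ : Commute b c₀ := by
    rw [← hj']
    exact hbc.pow_right j'
  have hyc₀ : Commute y c₀ := (hCΩ c₀ hk y h.hyΩ).symm
  have hpow : (ψ b) ^ p = c ^ (j * i' + j' * p) := by
    rw [hψb]
    have c1 : Commute (b ^ i' * (y ^ k)⁻¹) c₀ :=
      (hbc₀.pow_left i').mul_left ((hyc₀.pow_left k).inv_left)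
    have c2 : Commute (b ^ i') (y ^ k)⁻¹ := (hby.pow_pow i' k).inv_right
    have e1 : (b ^ i') ^ p = c ^ (j * i') := by
      rw [← pow_mul, mul_comm, pow_mul, ← hj, ← pow_mul]
    have e2 : ((y ^ k)⁻¹) ^ p = 1 := by
      rw [inv_pow, ← pow_mul, mul_comm, pow_mul, h.yp, one_pow, inv_one]
    have e3 : c₀ ^ p = c ^ (j' * p) := by
      rw [← hj', ← pow_mul]
    rw [c1.mul_pow, c2.mul_pow, e1, e2, e3, mul_one, ← pow_add]
  have hpow2 : (ψ b) ^ p = c ^ (s * j) := by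
    rw [← map_pow, ← hj, map_pow, ← hs, ← pow_mul]
  have hmod3 : s * j ≡ j * i' + j' * p [MOD orderOf c] := by
    rw [← pow_eq_pow_iff_modEq, ← hpow2, hpow]
  have hmod4 : s * j ≡ j * i' + j' * p [MOD p] := hmod3.of_dvd hpdvd
  have hj0 : (j : ZMod p) = 0 := by
    have h1 := (ZMod.natCast_eq_natCast_iff _ _ p).mpr hmod4
    push_cast at h1
    rw [ZMod.natCast_self, mul_zero, add_zero, hsκ] at h1
    have h2 : (j : ZMod p) * ((κ : ZMod p) - i') = 0 := by linear_combination h1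
    rcases mul_eq_zero.mp h2 with h3 | h3
    · exact h3
    · exact absurd (sub_eq_zero.mp h3).symm hiκ
  obtain ⟨j₁, hj₁⟩ := (ZMod.natCast_eq_zero_iff j p).mp hj0
  have hd : (b * (c ^ j₁)⁻¹) ^ p = 1 := by
    rw [((hbc.pow_right j₁).inv_right).mul_pow, inv_pow, ← pow_mul, mul_comm j₁ p, ← hj₁, hj,
      mul_inv_cancel]
  have hdΩ := h.hΩ1 _ hd
  obtain ⟨ζ₃, hζ₃, hdx⟩ := h.conj_Ω_x hdΩ
  have hdx' : b * (c ^ j₁)⁻¹ * x * (b * (c ^ j₁)⁻¹)⁻¹ = y * x := by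
    have e : b * (c ^ j₁)⁻¹ * x * (b * (c ^ j₁)⁻¹)⁻¹ =
        b * ((c ^ j₁)⁻¹ * x * (c ^ j₁)⁻¹⁻¹) * b⁻¹ := by group
    have c3 : Commute (c ^ j₁)⁻¹ x := ((hCΩ c hcC x h.hxΩ).pow_left j₁).inv_left
    rw [e, c3.eq, mul_inv_cancel_right, h.hbx]
  rw [hdx'] at hdx
  exact h.y_notMem ((mul_right_cancel hdx) ▸ hζ₃)

end CoreB

end Core

end Cfsg.Agent.Lib.Helper31.R2
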