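import Mathlib
import Cfsg.Agent.Lib.Helper31.R2CoreB
import Cfsg.Agent.Lib.Helper31.R2Word

set_option autoImplicit false
set_option linter.unusedSectionVars false

/-!
Rank two resistant groups (S5289): the case `P = Ω₁(N_S(P))` elementary abelian of order `p²`,
`N_S(P)` of exponent `p²`: the torus must act trivially.
-/

namespace Cfsg.Agent.Lib.Helper31.R2

open Subgroup
open scoped commutatorElement

theorem zmod_of_pow_eq {G : Type*} [Group G] {p : ℕ} [Fact p.Prime] {a : G} (hap : a ^ p = 1)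
    (ha1 : a ≠ 1) {m n : ℕ} (h : a ^ m = a ^ n) : (m : ZMod p) = (n : ZMod p) := by
  have hord : orderOf a = p := orderOf_eq_prime hap ha1
  rw [pow_eq_pow_iff_modEq, hord] at h
  exact (ZMod.natCast_eq_natCast_iff m n p).mpr h

theorem lemmaA1 {G : Type*} [Group G] {p : ℕ} [Fact p.Prime] (hp2 : p ≠ 2) (P : Subgroup G)
    (ψ : G →* G) (a₁ a₂ g : G) (t t' : ℕ)
    (ha₁ : a₁ ∈ P) (ha₂ : a₂ ∈ P) (ha₁1 : a₁ ≠ 1)
    (hPab : ∀ a ∈ P, ∀ b ∈ P, a * b = b * a) (hPexp : ∀ a ∈ P, a ^ p = 1)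
    (hgen : ∀ w ∈ P, ∃ i j : ℕ, w = a₁ ^ i * a₂ ^ j)
    (hN1 : ∀ n : G, n * a₁ * n⁻¹ = a₁) (hN2 : ∀ n : G, ∃ k : ℕ, n * a₂ * n⁻¹ = a₁ ^ k * a₂)
    (hcen : ∀ n : G, n * a₂ * n⁻¹ = a₂ → n ∈ P)
    (hg : g ^ p ≠ 1)
    (hψ1 : ψ a₁ = a₁ ^ t) (hψ2 : ψ a₂ = a₂ ^ t') (htt' : (t * t' : ZMod p) = 1) :
    (t : ZMod p) = 1 := by
  have hp : p.Prime := Fact.out
  have ha₁p : a₁ ^ p = 1 := hPexp a₁ ha₁
  have ha₂p : a₂ ^ p = 1 := hPexp a₂ ha₂
  have hcentral : ∀ n : G, Commute n a₁ := fun n => mul_inv_eq_iff_eq_mul.mp (hN1 n)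
  have hca : ∀ k : ℕ, Commute (a₁ ^ k) a₂ := fun k =>
    hPab _ (pow_mem ha₁ k) _ ha₂
  -- step 1
  obtain ⟨c, hc⟩ := hN2 g
  have hgP : g ∉ P := fun h => hg (hPexp g h)
  have hc1 : a₁ ^ c ≠ 1 := by
    intro h
    apply hgP
    apply hcen
    rw [hc, h, one_mul]
  have hc0 : (c : ZMod p) ≠ 0 := by
    intro h
    apply hc1
    have : a₁ ^ c = a₁ ^ 0 := pow_eq_of_zmod ha₁p (by rw [h]; simp)
    rw [this, pow_zero]
  -- step 2
  have hgpP : g ^ p ∈ P := by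
    apply hcen
    rw [conj_pow_left hc ((hcentral g).pow_right c) p, ← pow_mul, mul_comm, pow_mul, ha₁p, one_pow,
      one_mul]
  -- step 3
  obtain ⟨i, j, hij⟩ := hgen _ hgpP
  have hj0 : (j : ZMod p) = 0 := by
    have h1 : g * g ^ p * g⁻¹ = g ^ p := by group
    rw [hij] at h1
    have h2 : g * (a₁ ^ i * a₂ ^ j) * g⁻¹ = (g * a₁ ^ i * g⁻¹) * (g * a₂ ^ j * g⁻¹) := by group
    have h3 : g * a₁ ^ i * g⁻¹ = a₁ ^ i := by
      rw [((hcentral g).pow_right i).eq, mul_inv_cancel_right]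
    rw [h2, h3, conj_pow_right hc (hca c) j] at h1
    have h4 : (a₁ ^ c) ^ j = 1 := by
      have h5 := mul_left_cancel h1
      exact mul_eq_right.mp h5
    rw [← pow_mul] at h4
    have h6 : ((c * j : ℕ) : ZMod p) = ((0 : ℕ) : ZMod p) := by
      apply zmod_of_pow_eq ha₁p ha₁1
      rw [h4, pow_zero]
    push_cast at h6
    rcases mul_eq_zero.mp h6 with h | h
    · exact absurd h hc0
    · exact h
  have hgp : g ^ p = a₁ ^ i := by
    rw [hij]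
    have : a₂ ^ j = a₂ ^ 0 := pow_eq_of_zmod ha₂p (by rw [hj0]; simp)
    rw [this, pow_zero, mul_one]
  have hi0 : (i : ZMod p) ≠ 0 := by
    intro h
    apply hg
    rw [hgp]
    have : a₁ ^ i = a₁ ^ 0 := pow_eq_of_zmod ha₁p (by rw [h]; simp)
    rw [this, pow_zero]
  -- step 4
  obtain ⟨k', hk'⟩ := hN2 (ψ g)
  obtain ⟨a, ha⟩ : ∃ a : ℕ, ((a : ℕ) : ZMod p) * (c : ZMod p) = (k' : ZMod p) := by
    refine ⟨((k' : ZMod p) * (c : ZMod p)⁻¹).val, ?_⟩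
    rw [ZMod.natCast_val, ZMod.cast_id', id, mul_assoc, inv_mul_cancel₀ hc0, mul_one]
  obtain ⟨v, hv⟩ : ∃ v, v = (g ^ a)⁻¹ * ψ g := ⟨_, rfl⟩
  have hgac : g ^ a * a₂ * (g ^ a)⁻¹ = (a₁ ^ c) ^ a * a₂ :=
    conj_pow_left hc ((hcentral g).pow_right c) a
  have hvP : v ∈ P := by
    apply hcen
    have h1 : v * a₂ * v⁻¹ = (g ^ a)⁻¹ * (ψ g * a₂ * (ψ g)⁻¹) * (g ^ a) := by
      rw [hv]; group
    have hcomm : Commute (g ^ a) ((a₁ ^ c) ^ a) :=
      (((hcentral g).pow_right c).pow_right a).pow_left a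
    have h2 := conj_inv_of hgac hcomm
    have h3 : (g ^ a)⁻¹ * (a₁ ^ k' * a₂) * (g ^ a) =
        ((g ^ a)⁻¹ * a₁ ^ k' * (g ^ a)) * ((g ^ a)⁻¹ * a₂ * (g ^ a)) := by group
    have h4 : (g ^ a)⁻¹ * a₁ ^ k' * (g ^ a) = a₁ ^ k' := by
      have := ((hcentral (g ^ a)).pow_right k').eq
      rw [mul_assoc, ← this, inv_mul_cancel_left]
    rw [h1, hk', h3, h4, h2]
    have h5 : a₁ ^ k' = (a₁ ^ c) ^ a := by
      rw [← pow_mul]
      apply pow_eq_of_zmod ha₁p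
      push_cast
      rw [← ha, mul_comm]
    rw [h5, mul_inv_cancel_left]
  have hψg : ψ g = g ^ a * v := by rw [hv, mul_inv_cancel_left]
  -- step 5
  have hconjw : ∀ n : G, ∀ w ∈ P, ∃ m : ℕ, n * w * n⁻¹ = a₁ ^ m * w := by
    intro n w hw
    obtain ⟨i', j', rfl⟩ := hgen w hw
    obtain ⟨k, hk⟩ := hN2 n
    refine ⟨k * j', ?_⟩
    have h2 : n * (a₁ ^ i' * a₂ ^ j') * n⁻¹ = (n * a₁ ^ i' * n⁻¹) * (n * a₂ ^ j' * n⁻¹) := by
      group
    have h3 : n * a₁ ^ i' * n⁻¹ = a₁ ^ i' := by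
      rw [((hcentral n).pow_right i').eq, mul_inv_cancel_right]
    rw [h2, h3, conj_pow_right hk (hca k) j', ← pow_mul, ← mul_assoc, ← mul_assoc, ← pow_add,
      ← pow_add, add_comm]
  have hpow : (g ^ a * v) ^ p = (g ^ a) ^ p * v ^ p := by
    obtain ⟨m, hm⟩ := hconjw (g ^ a) v⁻¹ (inv_mem hvP)
    have hcomm_el : ⁅v, g ^ a⁆ = a₁ ^ m := by
      rw [commutatorElement_def]
      have : v * g ^ a * v⁻¹ * (g ^ a)⁻¹ = v * (g ^ a * v⁻¹ * (g ^ a)⁻¹) := by group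
      rw [this, hm]
      have hc2 : Commute v (a₁ ^ m) := hPab _ hvP _ (pow_mem ha₁ m)
      rw [← mul_assoc, hc2.eq, mul_assoc, mul_inv_cancel, mul_one]
    apply Cfsg.Agent.Lib.Helper63.mul_pow_prime_of_commute hp hp2
    · rw [hcomm_el]
      exact ((hcentral (g ^ a)).pow_right m).symm
    · rw [hcomm_el]
      exact ((hcentral v).pow_right m).symm
    · rw [hPexp v hvP]
      exact Commute.one_left _
  have ha_t : (a : ZMod p) = (t : ZMod p) := by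
    have h1 : ψ g ^ p = a₁ ^ (i * a) := by
      rw [hψg, hpow, hPexp v hvP, mul_one, ← pow_mul, mul_comm, pow_mul, hgp, ← pow_mul]
    have h2 : ψ g ^ p = a₁ ^ (t * i) := by
      rw [← map_pow, hgp, map_pow, hψ1, ← pow_mul]
    have h3 : ((i * a : ℕ) : ZMod p) = ((t * i : ℕ) : ZMod p) := by
      apply zmod_of_pow_eq ha₁p ha₁1
      rw [← h1, ← h2]
    push_cast at h3
    rw [mul_comm (t : ZMod p)] at h3
    exact mul_left_cancel₀ hi0 h3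
  -- step 6
  have h1 : ψ (g * a₂ * g⁻¹) = a₁ ^ (t * c) * a₂ ^ t' := by
    rw [hc, map_mul, map_pow, hψ1, hψ2, ← pow_mul]
  have h2 : ψ (g * a₂ * g⁻¹) = a₁ ^ (k' * t') * a₂ ^ t' := by
    rw [map_mul, map_mul, map_inv, hψ2, conj_pow_right hk' (hca k') t', ← pow_mul]
  have h3 : ((t * c : ℕ) : ZMod p) = ((k' * t' : ℕ) : ZMod p) := by
    apply zmod_of_pow_eq ha₁p ha₁1
    have := h1.symm.trans h2
    exact mul_right_cancel this
  push_cast at h3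
  rw [← ha, ha_t] at h3
  have h4 : (t : ZMod p) * (c : ZMod p) = 1 * (c : ZMod p) := by
    rw [h3, one_mul]
    calc (t : ZMod p) * (c : ZMod p) * (t' : ZMod p)
        = ((t : ZMod p) * (t' : ZMod p)) * (c : ZMod p) := by ring
      _ = (c : ZMod p) := by rw [htt', one_mul]
  exact mul_right_cancel₀ hc0 h4

end Cfsg.Agent.Lib.Helper31.R2
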