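import Mathlib
import Cfsg.Agent.Lib.Helper31.R2CoreB

set_option autoImplicit false
set_option linter.unusedSectionVars false

/-!
Rank two resistant groups (S5289): the final contradiction, general form (reduction to the
normalized configuration `CoreB`).
-/

namespace Cfsg.Agent.Lib.Helper31.R2

open Subgroup

theorem zpowers_eq_of_ne_one {G : Type*} [Group G] {p : ℕ} [Fact p.Prime] {z z' : G}
    (hz : z ^ p = 1) (hz' : z' ∈ zpowers z) (hne : z' ≠ 1) : zpowers z' = zpowers z :=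
  le_antisymm (zpowers_le.mpr hz') (zpowers_le.mpr (mem_zpowers_of_mem hz hz' hne))

theorem lemmaB {G : Type*} [Group G] [Finite G] {p : ℕ} [Fact p.Prime] (hp2 : p ≠ 2)
    (hG : IsPGroup p G)
    (Ωs : Subgroup G) (hΩ1 : ∀ w : G, w ^ p = 1 → w ∈ Ωs) (hΩ2 : ∀ w ∈ Ωs, w ^ p = 1)
    (ψ : G →* G) (hψ : Function.Injective ψ)
    (z y x g₀ : G) (hzc : ∀ g : G, g * z = z * g) (hzΩ : z ∈ Ωs) (hyΩ : y ∈ Ωs)
    (hxΩ : x ∈ Ωs)
    (hgen : ∀ w ∈ Ωs, ∃ (i j : ℕ), ∃ ζ ∈ zpowers z, w = y ^ i * x ^ j * ζ)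
    (hGy : ∀ g : G, ∃ ζ ∈ zpowers z, g * y * g⁻¹ = ζ * y)
    (hGx : ∀ g : G, ∃ (i : ℕ), ∃ ζ ∈ zpowers z, g * x * g⁻¹ = y ^ i * ζ * x)
    (hnc : x * y ≠ y * x)
    (hg₀ : ∀ ζ ∈ zpowers z, g₀ * x * g₀⁻¹ ≠ ζ * x)
    (κ μ : ℕ) (hψz : ψ z = z ^ κ) (hψx : ∃ ζ ∈ zpowers z, ψ x = x ^ μ * ζ)
    (h1 : (κ : ZMod p) ≠ (μ : ZMod p) ^ 2) (h2 : (μ : ZMod p) ^ 2 ≠ 1) : False := by
  have hp : p.Prime := Fact.out
  have hzp : z ^ p = 1 := hΩ2 z hzΩ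
  have hyp : y ^ p = 1 := hΩ2 y hyΩ
  have hZc : ∀ ζ ∈ zpowers z, ∀ g : G, Commute g ζ := by
    intro ζ hζ g
    obtain ⟨k, rfl⟩ := mem_zpowers_iff.mp hζ
    exact Commute.zpow_right (hzc g) k
  have hZΩ : zpowers z ≤ Ωs := zpowers_le.mpr hzΩ
  -- step 1
  obtain ⟨ζ₀, hζ₀, hxy⟩ := hGy x
  have hζ₀1 : ζ₀ ≠ 1 := by
    intro h
    apply hnc
    rw [h, one_mul] at hxy
    exact mul_inv_eq_iff_eq_mul.mp hxy
  have hZ₀ : zpowers ζ₀ = zpowers z := zpowers_eq_of_ne_one hzp hζ₀ hζ₀1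
  -- step 2
  obtain ⟨ζ₁, hζ₁, hg₀y⟩ := hGy g₀
  have hζ₁' : ζ₁⁻¹ ∈ zpowers ζ₀ := by
    rw [hZ₀]
    exact inv_mem hζ₁
  obtain ⟨n, hn⟩ := mem_powers_iff_mem_zpowers.mpr hζ₁'
  have hn' : ζ₀ ^ n = ζ₁⁻¹ := hn
  obtain ⟨b, hb⟩ : ∃ b, b = g₀ * x ^ n := ⟨_, rfl⟩
  have hby : b * y = y * b := by
    have e : b * y * b⁻¹ = y := by
      have e1 : b * y * b⁻¹ = g₀ * (x ^ n * y * (x ^ n)⁻¹) * g₀⁻¹ := by
        rw [hb]
        group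
      have e2 : g₀ * (ζ₀ ^ n * y) * g₀⁻¹ = (g₀ * ζ₀ ^ n * g₀⁻¹) * (g₀ * y * g₀⁻¹) := by group
      rw [e1, conj_pow_left hxy (hZc ζ₀ hζ₀ x) n, e2, hg₀y, hn',
        (hZc _ (inv_mem hζ₁) g₀).eq, mul_inv_cancel_right, inv_mul_cancel_left]
    exact mul_inv_eq_iff_eq_mul.mp e
  -- step 3
  obtain ⟨i₀, ζ₂, hζ₂, hg₀x⟩ := hGx g₀
  have hbx : b * x * b⁻¹ = y ^ i₀ * ζ₂ * x := by
    have e1 : b * x * b⁻¹ = g₀ * (x ^ n * x * (x ^ n)⁻¹) * g₀⁻¹ := by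
      rw [hb]
      group
    rw [e1, ← pow_succ, pow_succ', mul_inv_cancel_right, hg₀x]
  obtain ⟨y', hy'⟩ : ∃ y', y' = y ^ i₀ * ζ₂ := ⟨_, rfl⟩
  have hy'Z : y' ∉ zpowers z := by
    intro h
    apply hg₀ y' h
    rw [hg₀x, hy']
  -- step 4
  have hxy' : x * y' * x⁻¹ = ζ₀ ^ i₀ * y' := by
    have e : x * y' * x⁻¹ = (x * y ^ i₀ * x⁻¹) * (x * ζ₂ * x⁻¹) := by
      rw [hy']
      group
    rw [e, conj_pow_right hxy (hZc ζ₀ hζ₀ y).symm i₀, (hZc ζ₂ hζ₂ x).eq, mul_inv_cancel_right,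
      hy', mul_assoc]
  have hi₀ : (i₀ : ZMod p) ≠ 0 := by
    intro h0
    apply hy'Z
    have : y ^ i₀ = y ^ 0 := pow_eq_of_zmod hyp (by rw [h0]; simp)
    rw [hy', this, pow_zero, one_mul]
    exact hζ₂
  have hz'mem : ζ₀ ^ i₀ ∈ zpowers z := pow_mem hζ₀ i₀
  have hz'1 : ζ₀ ^ i₀ ≠ 1 := by
    intro h
    apply hi₀
    have ho : orderOf ζ₀ = p := orderOf_eq_prime (hΩ2 ζ₀ (hZΩ hζ₀)) hζ₀1
    rw [ZMod.natCast_eq_zero_iff, ← ho]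
    exact orderOf_dvd_of_pow_eq_one h
  have hZ' : zpowers (ζ₀ ^ i₀) = zpowers z := zpowers_eq_of_ne_one hzp hz'mem hz'1
  -- powers of `y` in terms of `y'`
  have hypow : ∀ i : ℕ, ∃ i'' : ℕ, ∃ ζ ∈ zpowers z, y ^ i = y' ^ i'' * ζ := by
    intro i
    obtain ⟨m, hm⟩ : ∃ m : ℕ, (i₀ * m : ZMod p) = 1 :=
      ⟨((i₀ : ZMod p)⁻¹).val, by rw [ZMod.natCast_zmod_val, mul_inv_cancel₀ hi₀]⟩
    have e1 : y = y ^ (i₀ * m) := by
      have := pow_eq_of_zmod hyp (m := i₀ * m) (n := 1) (by push_cast; rw [hm])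
      rw [this, pow_one]
    have e2 : y ^ i₀ = y' * ζ₂⁻¹ := by rw [hy', mul_inv_cancel_right]
    have e3 : y = y' ^ m * (ζ₂⁻¹) ^ m := by
      conv_lhs => rw [e1, pow_mul, e2]
      exact (hZc _ (inv_mem hζ₂) y').mul_pow m
    refine ⟨m * i, ((ζ₂⁻¹) ^ m) ^ i, pow_mem (pow_mem (inv_mem hζ₂) m) i, ?_⟩
    conv_lhs => rw [e3]
    rw [(hZc _ (pow_mem (inv_mem hζ₂) m) (y' ^ m)).mul_pow, pow_mul]
  -- the configuration
  have hcore : CoreB p Ωs ψ (ζ₀ ^ i₀) y' x b κ μ := by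
    refine
      { hΩ1 := hΩ1
        hΩ2 := hΩ2
        hzc := fun g => (hZc _ hz'mem g).eq
        hz1 := hz'1
        hzΩ := hZΩ hz'mem
        hyΩ := by
          rw [hy']
          exact mul_mem (pow_mem hyΩ i₀) (hZΩ hζ₂)
        hxΩ := hxΩ
        hby := by
          rw [hy']
          exact (((show Commute b y from hby).pow_right i₀).mul_right (hZc ζ₂ hζ₂ b)).eq
        hbx := by rw [hbx, hy']
        hxy := hxy'
        hgen := ?_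
        hGx := ?_
        hψ := hψ
        hψz := ?_
        hψx := by
          rw [hZ']
          exact hψx
        h1 := h1
        h2 := h2 }
    · intro w hw
      obtain ⟨i, j, ζ, hζ, rfl⟩ := hgen w hw
      obtain ⟨i'', ζ', hζ', hy⟩ := hypow i
      refine ⟨i'', j, ζ' * ζ, ?_, ?_⟩
      · rw [hZ']
        exact mul_mem hζ' hζ
      · rw [hy, mul_assoc (y' ^ i''), (hZc ζ' hζ' (x ^ j)).eq.symm]
        group
    · intro g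
      obtain ⟨i, ζ, hζ, hgx⟩ := hGx g
      obtain ⟨i'', ζ', hζ', hy⟩ := hypow i
      refine ⟨i'', ζ' * ζ, ?_, ?_⟩
      · rw [hZ']
        exact mul_mem hζ' hζ
      · rw [hgx, hy]
        group
    · obtain ⟨a, ha⟩ := mem_powers_iff_mem_zpowers.mpr hz'mem
      have ha' : z ^ a = ζ₀ ^ i₀ := ha
      rw [← ha', map_pow, hψz, ← pow_mul, ← pow_mul, mul_comm]
  exact hcore.false_of hp2 hG

end Cfsg.Agent.Lib.Helper31.R2
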