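import Mathlib
import Cfsg.Agent.Lib.Helper31.R2LemmaB

set_option autoImplicit false
set_option linter.unusedSectionVars false

/-!
Rank two resistant groups (S5289): the final contradiction, for a subgroup `N` of an ambient group.
-/

namespace Cfsg.Agent.Lib.Helper31.R2

open Subgroup

theorem mem_zpowers_sub {Ω : Type*} [Group Ω] (N : Subgroup Ω) {z ζ : Ω} (hz : z ∈ N)
    (hζ : ζ ∈ zpowers z) :
    ∃ h : ζ ∈ N, (⟨ζ, h⟩ : ↥N) ∈ zpowers (⟨z, hz⟩ : ↥N) := by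
  obtain ⟨k, rfl⟩ := mem_zpowers_iff.mp hζ
  refine ⟨N.zpow_mem hz k, ?_⟩
  rw [mem_zpowers_iff]
  refine ⟨k, ?_⟩
  apply Subtype.ext
  simp

theorem mem_zpowers_coe {Ω : Type*} [Group Ω] (N : Subgroup Ω) {z ζ : ↥N}
    (hζ : ζ ∈ zpowers z) : (ζ : Ω) ∈ zpowers (z : Ω) := by
  obtain ⟨k, rfl⟩ := mem_zpowers_iff.mp hζ
  rw [mem_zpowers_iff]
  exact ⟨k, by simp⟩

theorem lemmaB_amb {Ω : Type*} [Group Ω] {p : ℕ} [Fact p.Prime] (hp2 : p ≠ 2)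
    (N : Subgroup Ω) [Finite N] (hN : IsPGroup p N)
    (Os : Subgroup Ω) (hON : Os ≤ N) (hΩ1 : ∀ w ∈ N, w ^ p = 1 → w ∈ Os)
    (hΩ2 : ∀ w ∈ Os, w ^ p = 1)
    (ψ : ↥N →* Ω) (hψ : Function.Injective ψ) (hψN : ∀ n : ↥N, ψ n ∈ N)
    (z y x g₀ : Ω) (hzΩ : z ∈ Os) (hyΩ : y ∈ Os) (hxΩ : x ∈ Os) (hg₀N : g₀ ∈ N)
    (hzc : ∀ g ∈ N, g * z = z * g)
    (hgen : ∀ w ∈ Os, ∃ (i j : ℕ), ∃ ζ ∈ zpowers z, w = y ^ i * x ^ j * ζ)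
    (hGy : ∀ g ∈ N, ∃ ζ ∈ zpowers z, g * y * g⁻¹ = ζ * y)
    (hGx : ∀ g ∈ N, ∃ (i : ℕ), ∃ ζ ∈ zpowers z, g * x * g⁻¹ = y ^ i * ζ * x)
    (hnc : x * y ≠ y * x)
    (hg₀ : ∀ ζ ∈ zpowers z, g₀ * x * g₀⁻¹ ≠ ζ * x)
    (κ μ : ℕ) (hψz : ψ ⟨z, hON hzΩ⟩ = z ^ κ)
    (hψx : ∃ ζ ∈ zpowers z, ψ ⟨x, hON hxΩ⟩ = x ^ μ * ζ)
    (h1 : (κ : ZMod p) ≠ (μ : ZMod p) ^ 2) (h2 : (μ : ZMod p) ^ 2 ≠ 1) : False := by
  have hzN : z ∈ N := hON hzΩ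
  have hyN : y ∈ N := hON hyΩ
  have hxN : x ∈ N := hON hxΩ
  refine lemmaB (G := ↥N) hp2 hN (Os.subgroupOf N) ?_ ?_ (ψ.codRestrict N hψN) ?_
    ⟨z, hzN⟩ ⟨y, hyN⟩ ⟨x, hxN⟩ ⟨g₀, hg₀N⟩ ?_ ?_ ?_ ?_ ?_ ?_ ?_ ?_ ?_ κ μ ?_ ?_ h1 h2
  · intro w hw
    rw [mem_subgroupOf]
    apply hΩ1 _ w.2
    have := congrArg Subtype.val hw
    simpa using this
  · intro w hw
    rw [mem_subgroupOf] at hw
    apply Subtype.ext
    have := hΩ2 _ hw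
    simpa using this
  · intro a b hab
    apply hψ
    have := congrArg Subtype.val hab
    exact this
  · intro g
    apply Subtype.ext
    exact hzc g g.2
  · rw [mem_subgroupOf]; exact hzΩ
  · rw [mem_subgroupOf]; exact hyΩ
  · rw [mem_subgroupOf]; exact hxΩ
  · intro w hw
    rw [mem_subgroupOf] at hw
    obtain ⟨i, j, ζ, hζ, hw'⟩ := hgen _ hw
    obtain ⟨hζN, hζ'⟩ := mem_zpowers_sub N hzN hζ
    refine ⟨i, j, ⟨ζ, hζN⟩, hζ', ?_⟩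
    apply Subtype.ext
    simpa using hw'
  · intro g
    obtain ⟨ζ, hζ, hg⟩ := hGy g g.2
    obtain ⟨hζN, hζ'⟩ := mem_zpowers_sub N hzN hζ
    refine ⟨⟨ζ, hζN⟩, hζ', ?_⟩
    apply Subtype.ext
    simpa using hg
  · intro g
    obtain ⟨i, ζ, hζ, hg⟩ := hGx g g.2
    obtain ⟨hζN, hζ'⟩ := mem_zpowers_sub N hzN hζ
    refine ⟨i, ⟨ζ, hζN⟩, hζ', ?_⟩
    apply Subtype.ext
    simpa using hg
  · intro h
    apply hnc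
    have := congrArg Subtype.val h
    simpa using this
  · intro ζ hζ h
    apply hg₀ _ (mem_zpowers_coe N hζ)
    have := congrArg Subtype.val h
    simpa using this
  · apply Subtype.ext
    simpa using hψz
  · obtain ⟨ζ, hζ, hx⟩ := hψx
    obtain ⟨hζN, hζ'⟩ := mem_zpowers_sub N hzN hζ
    refine ⟨⟨ζ, hζN⟩, hζ', ?_⟩
    apply Subtype.ext
    simpa using hx

end Cfsg.Agent.Lib.Helper31.R2
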