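import Mathlib

set_option autoImplicit false

/-!
Rank two resistant groups (S5289): the action of a group of automorphisms on an invariant section
`D / Z`.
-/

namespace Cfsg.Agent.Lib.Helper31.R2

open Subgroup

section QuotAct

variable {G : Type*} [Group G] (K : Subgroup (MulAut G)) (D Z : Subgroup G)

/-- invariance hypotheses for the section `D / Z`. -/
structure QInv : Prop where
  hD : ∀ k ∈ K, ∀ x ∈ D, k x ∈ D
  hZ : ∀ k ∈ K, ∀ x ∈ Z, k x ∈ Z

variable {K D Z}

/-- restriction to `D`. -/
def resHom (h : QInv K D Z) (k : K) : D →* D :=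
  ((k : MulAut G).toMonoidHom.comp D.subtype).codRestrict D (fun x => h.hD k k.2 x x.2)

theorem resHom_coe (h : QInv K D Z) (k : K) (x : D) :
    ((resHom h k x : D) : G) = (k : MulAut G) x := rfl

variable [hn : (Z.subgroupOf D).Normal]

/-- induced endomorphism of the quotient. -/
def qHom (h : QInv K D Z) (k : K) : D ⧸ Z.subgroupOf D →* D ⧸ Z.subgroupOf D :=
  QuotientGroup.map _ _ (resHom h k) (by
    intro x hx
    exact h.hZ k k.2 x hx)

theorem qHom_mk (h : QInv K D Z) (k : K) (x : D) :
    qHom h k (QuotientGroup.mk x) = QuotientGroup.mk (resHom h k x) := rfl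

theorem qHom_mul (h : QInv K D Z) (k k' : K) :
    qHom h (k * k') = (qHom h k).comp (qHom h k') := by
  apply QuotientGroup.monoidHom_ext
  ext x
  rfl

theorem qHom_one (h : QInv K D Z) : qHom h (1 : K) = MonoidHom.id _ := by
  apply QuotientGroup.monoidHom_ext
  ext x
  rfl

/-- the action on the section. -/
def quotAct (h : QInv K D Z) : K →* MulAut (D ⧸ Z.subgroupOf D) where
  toFun k := MonoidHom.toMulEquiv (qHom h k) (qHom h k⁻¹)
    (by rw [← qHom_mul, inv_mul_cancel, qHom_one])
    (by rw [← qHom_mul, mul_inv_cancel, qHom_one])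
  map_one' := by
    ext w
    show qHom h 1 w = w
    rw [qHom_one]
    rfl
  map_mul' k k' := by
    ext w
    show qHom h (k * k') w = qHom h k (qHom h k' w)
    rw [qHom_mul]
    rfl

theorem quotAct_mk (h : QInv K D Z) (k : K) (x : D) :
    quotAct h k (QuotientGroup.mk x) = QuotientGroup.mk (resHom h k x) := rfl

/-- equality in the quotient, at the level of elements of `G`. -/
theorem mk_eq_mk_iff (x y : D) :
    (QuotientGroup.mk x : D ⧸ Z.subgroupOf D) = QuotientGroup.mk y ↔ (x : G)⁻¹ * (y : G) ∈ Z := by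
  rw [QuotientGroup.eq]
  rfl

end QuotAct

end Cfsg.Agent.Lib.Helper31.R2
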