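import Mathlib
import Cfsg.Agent.Lib.Helper31.R2GL
import Cfsg.Agent.Lib.Helper31.R2Quot
import Cfsg.Agent.Lib.Helper87.OmegaAut
import Cfsg.Agent.Lib.Helper86.OrderPCube
import Cfsg.Agent.Lib.Helper84.AbelRank2Grp

set_option autoImplicit false
set_option linter.unusedSectionVars false

/-!
Rank two resistant groups (S5289): the torus element for the action of a group of automorphisms
`K` of `G` on an invariant section `D / Z` of order `p²`, at the level of elements.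
-/

namespace Cfsg.Agent.Lib.Helper31.R2

open Subgroup
open scoped commutatorElement

variable {G : Type*} [Group G] [Finite G] {p : ℕ} [Fact p.Prime]

theorem section_torus (hp5 : 5 ≤ p) {K : Subgroup (MulAut G)} {D Z : Subgroup G}
    [hn : (Z.subgroupOf D).Normal] (hq : QInv K D Z)
    (hcomm : ∀ a ∈ D, ∀ b ∈ D, (b * a)⁻¹ * (a * b) ∈ Z) (hexp : ∀ a ∈ D, a ^ p ∈ Z)
    (hcard : Nat.card (↥D ⧸ Z.subgroupOf D) = p ^ 2) (hker : IsPGroup p (quotAct hq).ker)
    (U : Sylow p K) (hU : ¬ (U : Subgroup K).Normal) :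
    ∃ (h : K) (x₁ x₂ : G) (t t' : ℕ), x₁ ∈ D ∧ x₂ ∈ D ∧ (t * t' : ZMod p) = 1 ∧
      (t : ZMod p) ^ 2 ≠ 1 ∧ (t : ZMod p) ^ 3 ≠ 1 ∧
      x₁ ∉ Z ∧ (∀ k : ℕ, (x₁ ^ k)⁻¹ * x₂ ∉ Z) ∧
      (∀ u ∈ U, (x₁)⁻¹ * (u : MulAut G) x₁ ∈ Z ∧
        ∀ w ∈ D, ∃ k : ℕ, (w * x₁ ^ k)⁻¹ * (u : MulAut G) w ∈ Z) ∧
      (x₁ ^ t)⁻¹ * (h : MulAut G) x₁ ∈ Z ∧ (x₂ ^ t')⁻¹ * (h : MulAut G) x₂ ∈ Z ∧
      (∀ u ∈ U, h * u * h⁻¹ ∈ U) ∧
      (∀ w ∈ D, ∃ i j : ℕ, (x₁ ^ i * x₂ ^ j)⁻¹ * w ∈ Z) ∧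
      (∀ N : Subgroup K, N.Normal → N ≤ (U : Subgroup K) → ∀ n ∈ N, ∀ w ∈ D,
        w⁻¹ * (n : MulAut G) w ∈ Z) ∧
      (∃ ι : K, ∀ w ∈ D, w * (ι : MulAut G) w ∈ Z) := by
  classical
  have hfinM : Finite (MulAut G) := Finite.of_injective (fun α : MulAut G => (α : G → G))
    (fun α β h => by ext x; exact congrFun h x)
  have hcommW : ∀ a b : ↥D ⧸ Z.subgroupOf D, a * b = b * a := by
    intro a b
    induction a using QuotientGroup.induction_on with
    | H a =>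
      induction b using QuotientGroup.induction_on with
      | H b =>
        rw [← QuotientGroup.mk_mul, ← QuotientGroup.mk_mul, eq_comm, mk_eq_mk_iff]
        exact hcomm a a.2 b b.2
  let _ : CommGroup (↥D ⧸ Z.subgroupOf D) :=
    { (inferInstance : Group (↥D ⧸ Z.subgroupOf D)) with mul_comm := hcommW }
  have hexpW : ∀ w : ↥D ⧸ Z.subgroupOf D, w ^ p = 1 := by
    intro w
    induction w using QuotientGroup.induction_on with
    | H a =>
      rw [← QuotientGroup.mk_pow, QuotientGroup.eq_one_iff]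
      exact hexp a a.2
  obtain ⟨h, e₁, e₂, t, t', htt', ht2, ht3, he₁, he₂, hUu, hh1, hh2, hhU, hN, ι, hι⟩ :=
    exists_torus hp5 hexpW hcard (quotAct hq) hker U hU
  obtain ⟨x₁, rfl⟩ := QuotientGroup.mk_surjective e₁
  obtain ⟨x₂, rfl⟩ := QuotientGroup.mk_surjective e₂
  refine ⟨h, x₁, x₂, t, t', x₁.2, x₂.2, htt', ht2, ht3, ?_, ?_, ?_, ?_, ?_, hhU, ?_, ?_, ?_⟩
  · intro hx
    apply he₁
    rw [QuotientGroup.eq_one_iff]
    exact hx
  · intro k hk
    apply he₂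
    have : (QuotientGroup.mk x₂ : ↥D ⧸ Z.subgroupOf D) = QuotientGroup.mk (x₁ ^ k) := by
      rw [eq_comm, mk_eq_mk_iff]
      exact hk
    rw [this, QuotientGroup.mk_pow]
    exact pow_mem (mem_zpowers _) k
  · intro u hu
    obtain ⟨hu1, hu2⟩ := hUu u hu
    constructor
    · rw [quotAct_mk, eq_comm, mk_eq_mk_iff] at hu1
      exact hu1
    · intro w hw
      have h1 := hu2 (QuotientGroup.mk ⟨w, hw⟩)
      obtain ⟨k, hk⟩ := mem_powers_iff_mem_zpowers.mpr h1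
      refine ⟨k, ?_⟩
      have hk' : (QuotientGroup.mk x₁ : ↥D ⧸ Z.subgroupOf D) ^ k =
          (QuotientGroup.mk ⟨w, hw⟩)⁻¹ * quotAct hq u (QuotientGroup.mk ⟨w, hw⟩) := hk
      rw [quotAct_mk, ← QuotientGroup.mk_pow, ← QuotientGroup.mk_inv, ← QuotientGroup.mk_mul,
        mk_eq_mk_iff] at hk'
      have e : (w * (x₁ : G) ^ k)⁻¹ * (u : MulAut G) w =
          (((x₁ ^ k : ↥D) : G))⁻¹ * (((⟨w, hw⟩ : ↥D)⁻¹ * resHom hq u ⟨w, hw⟩ : ↥D) : G) := by
        simp only [Subgroup.coe_mul, Subgroup.coe_inv, Subgroup.coe_pow, resHom_coe, mul_inv_rev]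
        group
      rw [e]
      exact hk'
  · rw [quotAct_mk, ← QuotientGroup.mk_pow, eq_comm, mk_eq_mk_iff] at hh1
    exact hh1
  · rw [quotAct_mk, ← QuotientGroup.mk_pow, eq_comm, mk_eq_mk_iff] at hh2
    exact hh2
  · intro w hw
    obtain ⟨i, j, hij⟩ := span_two hexpW hcard he₁ he₂ (QuotientGroup.mk ⟨w, hw⟩)
    refine ⟨i, j, ?_⟩
    rw [← QuotientGroup.mk_pow, ← QuotientGroup.mk_pow, ← QuotientGroup.mk_mul, eq_comm,
      mk_eq_mk_iff] at hij
    exact hij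
  · intro N hNn hNU n hn w hw
    have h1 := hN N hNn hNU n hn
    have h2 : quotAct hq n (QuotientGroup.mk ⟨w, hw⟩) = QuotientGroup.mk ⟨w, hw⟩ := by
      rw [h1]
      rfl
    rw [quotAct_mk, eq_comm, mk_eq_mk_iff] at h2
    exact h2
  · refine ⟨ι, fun w hw => ?_⟩
    have h1 := hι (QuotientGroup.mk ⟨w, hw⟩)
    rw [quotAct_mk, ← QuotientGroup.mk_inv, eq_comm, mk_eq_mk_iff] at h1
    have e : w * (ι : MulAut G) w = (((⟨w, hw⟩ : ↥D)⁻¹ : ↥D) : G)⁻¹ * ((resHom hq ι ⟨w, hw⟩ : ↥D) : G) := by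
      simp only [Subgroup.coe_inv, resHom_coe, inv_inv]
    rw [e]
    exact h1

theorem isPGroup_of_pprime_trivial {A : Type*} [Group A] [Finite A] (H : Subgroup A)
    (h : ∀ a ∈ H, ∀ m : ℕ, m.Coprime p → a ^ m = 1 → a = 1) : IsPGroup p H := by
  rintro ⟨a, ha⟩
  have hpos : 0 < orderOf a := orderOf_pos a
  obtain ⟨k, m, hm, hord⟩ :=
    Nat.exists_eq_pow_mul_and_not_dvd hpos.ne' p (Nat.Prime.ne_one Fact.out)
  have hcop : m.Coprime p := by
    rw [Nat.coprime_comm]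
    exact (Nat.Prime.coprime_iff_not_dvd Fact.out).mpr hm
  have h1 : (a ^ (p ^ k)) ^ m = 1 := by
    rw [← pow_mul, ← hord, pow_orderOf_eq_one]
  have h2 := h _ (H.pow_mem ha _) m hcop h1
  refine ⟨k, ?_⟩
  apply Subtype.ext
  exact h2

theorem mem_ker_quotAct {K : Subgroup (MulAut G)} {D Z : Subgroup G}
    [hn : (Z.subgroupOf D).Normal] (hq : QInv K D Z) (α : K) :
    α ∈ (quotAct hq).ker ↔ ∀ x ∈ D, x⁻¹ * (α : MulAut G) x ∈ Z := by
  rw [MonoidHom.mem_ker]
  constructor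
  · intro h x hx
    have h1 : quotAct hq α (QuotientGroup.mk ⟨x, hx⟩) = QuotientGroup.mk ⟨x, hx⟩ := by
      rw [h]
      rfl
    rw [quotAct_mk, eq_comm, mk_eq_mk_iff] at h1
    exact h1
  · intro h
    ext w
    induction w using QuotientGroup.induction_on with
    | H a =>
      rw [quotAct_mk, eq_comm]
      show (QuotientGroup.mk a : ↥D ⧸ Z.subgroupOf D) = _
      rw [mk_eq_mk_iff]
      exact h a a.2

/-- a `p'`-automorphism fixing the elements of order `p` is trivial. -/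
theorem aut_eq_one_of_fix {D : Subgroup G} (hp2 : p ≠ 2) (hG : IsPGroup p G)
    (hD : ∀ x : G, x ^ p = 1 → x ∈ D) (α : MulAut G) (m : ℕ) (hm : m.Coprime p)
    (hαm : α ^ m = 1) (hfix : ∀ x ∈ D, α x = x) : α = 1 := by
  ext x
  exact Cfsg.Agent.Lib.Helper87.aut_fixes_of_fixes_omega hp2 hG α m hm hαm ⊤
    (fun _ _ => Subgroup.mem_top _) (fun y _ hy => hfix y (hD y hy)) x (Subgroup.mem_top x)

/-- the kernel of the action on `D` itself is a `p`-group. -/
theorem ker_isPGroup_bot {K : Subgroup (MulAut G)} {D : Subgroup G} (hp2 : p ≠ 2)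
    (hG : IsPGroup p G) (hD : ∀ x : G, x ^ p = 1 → x ∈ D) (hq : QInv K D ⊥) :
    IsPGroup p (quotAct hq).ker := by
  have hfinM : Finite (MulAut G) := Finite.of_injective (fun α : MulAut G => (α : G → G))
    (fun α β h => by ext x; exact congrFun h x)
  apply isPGroup_of_pprime_trivial
  intro α hα m hm hαm
  rw [mem_ker_quotAct] at hα
  apply Subtype.ext
  apply aut_eq_one_of_fix hp2 hG hD (α : MulAut G) m hm
  · have := congrArg Subtype.val hαm
    simpa using this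
  · intro x hx
    have := hα x hx
    rw [Subgroup.mem_bot, inv_mul_eq_one] at this
    exact this.symm

/-- the centre of `D`, as a subgroup of `G`. -/
def ZD (D : Subgroup G) : Subgroup G := (Subgroup.center ↥D).map D.subtype

theorem mem_ZD {D : Subgroup G} {x : G} : x ∈ ZD D ↔ x ∈ D ∧ ∀ y ∈ D, y * x = x * y := by
  constructor
  · rintro ⟨a, ha, rfl⟩
    refine ⟨a.2, fun y hy => ?_⟩
    have := Subgroup.mem_center_iff.mp ha ⟨y, hy⟩
    exact congrArg Subtype.val this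
  · rintro ⟨hx, h⟩
    refine ⟨⟨x, hx⟩, ?_, rfl⟩
    show (⟨x, hx⟩ : ↥D) ∈ Subgroup.center ↥D
    rw [Subgroup.mem_center_iff]
    intro y
    apply Subtype.ext
    exact h y y.2

theorem ZD_le (D : Subgroup G) : ZD D ≤ D := fun _ hx => (mem_ZD.mp hx).1

theorem ZD_subgroupOf (D : Subgroup G) : (ZD D).subgroupOf D = Subgroup.center ↥D := by
  ext a
  rw [Subgroup.mem_subgroupOf, mem_ZD, Subgroup.mem_center_iff]
  constructor
  · rintro ⟨-, h⟩ y
    apply Subtype.ext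
    exact h y y.2
  · intro h
    refine ⟨a.2, fun y hy => ?_⟩
    exact congrArg Subtype.val (h ⟨y, hy⟩)

instance ZD_normal (D : Subgroup G) : ((ZD D).subgroupOf D).Normal := by
  rw [ZD_subgroupOf]
  infer_instance

theorem qinv_ZD {K : Subgroup (MulAut G)} {D : Subgroup G}
    (hD : ∀ k ∈ K, ∀ x ∈ D, k x ∈ D) (hD' : ∀ k ∈ K, ∀ x ∈ D, k⁻¹ x ∈ D) : QInv K D (ZD D) where
  hD := hD
  hZ := by
    intro k hk x hx
    rw [mem_ZD] at hx ⊢
    refine ⟨hD k hk x hx.1, fun y hy => ?_⟩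
    have h1 := hx.2 (k⁻¹ y) (hD' k hk y hy)
    have h2 := congrArg k h1
    rw [map_mul, map_mul, MulAut.apply_inv_self] at h2
    exact h2

/-- the kernel of the action on `D / Z(D)` is a `p`-group (`D` nonabelian of order `p³`). -/
theorem ker_isPGroup_ZD {K : Subgroup (MulAut G)} {D : Subgroup G} (hp2 : p ≠ 2)
    (hG : IsPGroup p G) (hD : ∀ x : G, x ^ p = 1 → x ∈ D) (hDexp : ∀ x ∈ D, x ^ p = 1)
    (hcard : Nat.card D = p ^ 3) (hna : ¬ ∀ a b : ↥D, a * b = b * a) (hq : QInv K D (ZD D)) :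
    IsPGroup p (quotAct hq).ker := by
  have hfinM : Finite (MulAut G) := Finite.of_injective (fun α : MulAut G => (α : G → G))
    (fun α β h => by ext x; exact congrFun h x)
  obtain ⟨-, hcomm, -⟩ := Cfsg.Agent.Lib.Helper86.nonabelian_basic p hcard hna
  apply isPGroup_of_pprime_trivial
  intro α hα m hm hαm
  rw [mem_ker_quotAct] at hα
  have hαm' : (α : MulAut G) ^ m = 1 := by
    have := congrArg Subtype.val hαm
    simpa using this
  apply Subtype.ext
  apply aut_eq_one_of_fix hp2 hG hD (α : MulAut G) m hm hαm'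
  -- `α` fixes the centre of `D`
  have hcen : ∀ a : ↥D, (a⁻¹ * resHom hq α a) ∈ Subgroup.center ↥D := by
    intro a
    rw [← ZD_subgroupOf, Subgroup.mem_subgroupOf]
    exact hα a a.2
  have hfixc : ∀ c ∈ commutator ↥D, resHom hq α c = c := by
    intro c hc
    rw [commutator_eq_closure] at hc
    induction hc using Subgroup.closure_induction with
    | mem c hc =>
      obtain ⟨a, b, rfl⟩ := hc
      have ha : resHom hq α a = a * (a⁻¹ * resHom hq α a) := by rw [mul_inv_cancel_left]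
      have hb : resHom hq α b = b * (b⁻¹ * resHom hq α b) := by rw [mul_inv_cancel_left]
      rw [map_commutatorElement, ha, hb]
      have c1 := Subgroup.mem_center_iff.mp (hcen a)
      have c2 := Subgroup.mem_center_iff.mp (hcen b)
      generalize a⁻¹ * resHom hq α a = u at c1 c2
      generalize b⁻¹ * resHom hq α b = v at c2
      rw [commutatorElement_def, commutatorElement_def]
      have h1 : u * (b * v) = (b * v) * u := (c1 (b * v)).symm
      have h2 : v * a⁻¹ = a⁻¹ * v := (c2 a⁻¹).symm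
      calc a * u * (b * v) * (a * u)⁻¹ * (b * v)⁻¹
          = a * (u * (b * v)) * (a * u)⁻¹ * (b * v)⁻¹ := by group
        _ = a * ((b * v) * u) * (a * u)⁻¹ * (b * v)⁻¹ := by rw [h1]
        _ = a * b * (v * a⁻¹) * v⁻¹ * b⁻¹ := by group
        _ = a * b * (a⁻¹ * v) * v⁻¹ * b⁻¹ := by rw [h2]
        _ = a * b * a⁻¹ * b⁻¹ := by group
    | one => exact map_one _
    | mul a b _ _ ha hb => rw [map_mul, ha, hb]
    | inv a _ ha => rw [map_inv, ha]
  have hfixZ : ∀ ζ ∈ ZD D, (α : MulAut G) ζ = ζ := by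
    intro ζ hζ
    have h1 : (⟨ζ, ZD_le D hζ⟩ : ↥D) ∈ Subgroup.center ↥D := by
      rw [← ZD_subgroupOf, Subgroup.mem_subgroupOf]
      exact hζ
    rw [← hcomm] at h1
    have := hfixc _ h1
    exact congrArg Subtype.val this
  intro x hx
  have hζ := hα x hx
  have h1 : (α : MulAut G) x = x * (x⁻¹ * (α : MulAut G) x) := by rw [mul_inv_cancel_left]
  have h2 : ((α : MulAut G) ^ p) x = x := by
    rw [pow_apply_mul (α : MulAut G) h1 (hfixZ _ hζ), hDexp _ (ZD_le D hζ), mul_one]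
  -- combine with `α ^ m = 1`
  by_cases hm1 : m = 1
  · rw [hm1, pow_one] at hαm'
    rw [hαm']
    rfl
  have hp : p.Prime := Fact.out
  have hm0 : m ≠ 0 := by
    intro h0
    rw [h0, Nat.coprime_zero_left] at hm
    exact hp.one_lt.ne' hm
  obtain ⟨a, -, ha⟩ := Nat.exists_mul_mod_eq_one_of_coprime hm.symm (by omega : 1 < m)
  have h3 : (α : MulAut G) ^ (p * a) = (α : MulAut G) := by
    rw [← Nat.mod_add_div (p * a) m, ha, pow_add, pow_one, pow_mul, hαm', one_pow, mul_one]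
  have h4 : ((α : MulAut G) ^ (p * a)) x = x := by
    rw [pow_mul]
    exact pow_apply_fixed _ h2 a
  rw [h3] at h4
  exact h4

/-- an automorphism of order two inverting the elements of order `p` forces commutativity. -/
theorem abelian_of_inverting (hG : IsPGroup p G) (hp2 : p ≠ 2) (ι : MulAut G) (hι2 : ι * ι = 1)
    (hinv : ∀ x : G, x ^ p = 1 → ι x = x⁻¹) : ∀ a b : G, a * b = b * a := by
  have hp : p.Prime := Fact.out
  have hιι : ∀ x : G, ι (ι x) = x := by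
    intro x
    have := congrArg (fun f : MulAut G => f x) hι2
    exact this
  have hfix : ∀ x : G, ι x = x → x = 1 := by
    intro x hx
    by_contra hx1
    obtain ⟨k, hk⟩ := (IsPGroup.iff_orderOf.mp hG) x
    have hk0 : k ≠ 0 := by
      intro h0
      rw [h0, pow_zero, orderOf_eq_one_iff] at hk
      exact hx1 hk
    obtain ⟨k', rfl⟩ := Nat.exists_eq_succ_of_ne_zero hk0
    have hyp : (x ^ p ^ k') ^ p = 1 := by
      rw [← pow_mul, ← pow_succ, ← hk, pow_orderOf_eq_one]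
    have hy1 : x ^ p ^ k' ≠ 1 := by
      intro h
      have := orderOf_dvd_of_pow_eq_one h
      rw [hk] at this
      have := Nat.le_of_dvd (pow_pos hp.pos k') this
      exact absurd this (not_le.mpr (Nat.pow_lt_pow_right hp.one_lt (Nat.lt_succ_self k')))
    have h1 : ι (x ^ p ^ k') = x ^ p ^ k' := by rw [map_pow, hx]
    rw [hinv _ hyp] at h1
    have h2 : (x ^ p ^ k') ^ 2 = 1 := by
      rw [pow_two]
      nth_rewrite 1 [← h1]
      exact inv_mul_cancel _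
    have h3 : orderOf (x ^ p ^ k') ∣ Nat.gcd 2 p :=
      Nat.dvd_gcd (orderOf_dvd_of_pow_eq_one h2) (orderOf_dvd_of_pow_eq_one hyp)
    have h4 : Nat.gcd 2 p = 1 := by
      rw [Nat.gcd_comm]
      exact (Nat.coprime_primes hp Nat.prime_two).mpr hp2
    rw [h4, Nat.dvd_one, orderOf_eq_one_iff] at h3
    exact hy1 h3
  have hinj : Function.Injective (fun x : G => x⁻¹ * ι x) := by
    intro x y hxy
    have hxy' : x⁻¹ * ι x = y⁻¹ * ι y := hxy
    have h1 : ι (y * x⁻¹) = y * x⁻¹ := by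
      rw [map_mul, map_inv]
      have : ι y = y * (x⁻¹ * ι x) := by rw [hxy', mul_inv_cancel_left]
      rw [this]
      group
    have h2 := hfix _ h1
    exact (mul_inv_eq_one.mp h2).symm
  have hsurj : Function.Surjective (fun x : G => x⁻¹ * ι x) :=
    Finite.injective_iff_surjective.mp hinj
  have hall : ∀ g : G, ι g = g⁻¹ := by
    intro g
    obtain ⟨x, rfl⟩ := hsurj g
    show ι (x⁻¹ * ι x) = (x⁻¹ * ι x)⁻¹
    rw [map_mul, map_inv, hιι, mul_inv_rev, inv_inv]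
  intro a b
  have h1 := hall (a * b)
  rw [map_mul, hall a, hall b, mul_inv_rev] at h1
  have h2 := congrArg (fun g => g⁻¹) h1
  simp only [mul_inv_rev, inv_inv] at h2
  exact h2.symm

/-- abelian case: `G = Ω₁(G)` (via the rank two lemma of helper84). -/
theorem card_of_abelian {H : Type*} [CommGroup H] [Finite H] (hP : IsPGroup p H) (hp5 : 5 ≤ p)
    (𝔸 : Subgroup (MulAut H)) (hdvd : p ∣ Nat.card 𝔸)
    (hcore : ∀ N : Subgroup 𝔸, N.Normal → IsPGroup p N → N = ⊥) (D : Subgroup H)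
    (hD : ∀ x : H, x ∈ D ↔ x ^ p = 1) (hcard : Nat.card D = p ^ 2) :
    (∀ a : H, a ^ p = 1) ∧ Nat.card H = p ^ 2 := by
  have hker : (powMonoidHom p : H →* H).ker = D := by
    ext x
    rw [MonoidHom.mem_ker, hD]
    rfl
  have hidx : (Cfsg.Agent.Lib.Helper84.AR.nA (Additive H) p).index ≤ p ^ 2 := by
    have h1 : (Cfsg.Agent.Lib.Helper84.AR.nA (Additive H) p) =
        Subgroup.toAddSubgroup (powMonoidHom p : H →* H).range := by
      ext x
      constructor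
      · rintro ⟨y, hy⟩
        exact ⟨Additive.toMul y, congrArg Additive.toMul hy⟩
      · rintro ⟨y, hy⟩
        exact ⟨Additive.ofMul y, congrArg Additive.ofMul hy⟩
    rw [h1, Subgroup.index_toAddSubgroup, Subgroup.index_range, hker, hcard]
  rcases Cfsg.Agent.Lib.Helper84.AR.main_comm p hP 𝔸 hdvd hcore hidx with h | h
  · exact h
  · omega

theorem inn_normal_subgroupOf (K : Subgroup (MulAut G)) :
    ((Cfsg.Inn G).subgroupOf K).Normal := by
  constructor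
  rintro ⟨n, hnK⟩ hn ⟨k, hk⟩
  rw [Subgroup.mem_subgroupOf] at hn ⊢
  obtain ⟨g, hg⟩ := hn
  refine ⟨k g, ?_⟩
  show MulAut.conj (k g) = k * n * k⁻¹
  have hg' : MulAut.conj g = n := hg
  rw [← hg']
  ext x
  simp only [MulAut.conj_apply, MulAut.mul_apply, map_mul, map_inv, MulAut.apply_inv_self]

theorem inn_isPGroup_subgroupOf (hG : IsPGroup p G) (K : Subgroup (MulAut G)) :
    IsPGroup p ((Cfsg.Inn G).subgroupOf K) := by
  have h1 : IsPGroup p (Cfsg.Inn G) :=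
    hG.of_surjective (MulAut.conj : G →* MulAut G).rangeRestrict
      (MonoidHom.rangeRestrict_surjective _)
  exact h1.comap_of_injective K.subtype K.subtype_injective

/-- the local analysis when `Ω₁(G)` has order `p²`. -/
theorem locA (hp5 : 5 ≤ p) (hG : IsPGroup p G) {K : Subgroup (MulAut G)} {D : Subgroup G}
    (hD : ∀ x : G, x ∈ D ↔ x ^ p = 1) (hcard : Nat.card D = p ^ 2)
    (hInn : ∀ g : G, MulAut.conj g ∈ K)
    (hrad : ∀ N : Subgroup K, N.Normal → IsPGroup p N → ∀ n ∈ N, (n : MulAut G) ∈ Cfsg.Inn G)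
    (U : Sylow p K) (hU : ¬ (U : Subgroup K).Normal) :
    (∀ x : G, x ^ p = 1) ∧ Nat.card G = p ^ 2 ∧ (∀ a b : G, a * b = b * a) ∧
    ∃ (h : K) (x₁ x₂ : G) (t t' : ℕ), (t * t' : ZMod p) = 1 ∧ (t : ZMod p) ^ 2 ≠ 1 ∧
      (t : ZMod p) ^ 3 ≠ 1 ∧ x₁ ≠ 1 ∧ (∀ k : ℕ, x₂ ≠ x₁ ^ k) ∧
      (∀ u ∈ U, (u : MulAut G) x₁ = x₁ ∧ ∀ w : G, ∃ k : ℕ, (u : MulAut G) w = w * x₁ ^ k) ∧
      (h : MulAut G) x₁ = x₁ ^ t ∧ (h : MulAut G) x₂ = x₂ ^ t' ∧ (∀ u ∈ U, h * u * h⁻¹ ∈ U) ∧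
      (∀ w : G, ∃ i j : ℕ, w = x₁ ^ i * x₂ ^ j) := by
  classical
  have hp : p.Prime := Fact.out
  have hp2 : p ≠ 2 := by omega
  have hfinM : Finite (MulAut G) := Finite.of_injective (fun α : MulAut G => (α : G → G))
    (fun α β h => by ext x; exact congrFun h x)
  have hDinv : ∀ k : MulAut G, ∀ x ∈ D, k x ∈ D := by
    intro k x hx
    rw [hD] at hx ⊢
    rw [← map_pow, hx, map_one]
  have hq : QInv K D ⊥ :=
    ⟨fun k _ x hx => hDinv k x hx, fun k _ x hx => by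
      rw [Subgroup.mem_bot] at hx ⊢
      rw [hx, map_one]⟩
  have hDcomm : ∀ a ∈ D, ∀ b ∈ D, a * b = b * a := by
    intro a ha b hb
    have h := IsPGroup.isMulCommutative_of_card_eq_prime_sq hcard
    have := (isMulCommutative_iff.mp h) ⟨a, ha⟩ ⟨b, hb⟩
    exact congrArg Subtype.val this
  have hcardW : Nat.card (↥D ⧸ (⊥ : Subgroup G).subgroupOf D) = p ^ 2 := by
    have h1 := Subgroup.card_eq_card_quotient_mul_card_subgroup ((⊥ : Subgroup G).subgroupOf D)
    have h2 : Nat.card ((⊥ : Subgroup G).subgroupOf D) = 1 :=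
      Subgroup.card_eq_one.mpr (by simp)
    rw [h2, mul_one, hcard] at h1
    exact h1.symm
  have hker := ker_isPGroup_bot hp2 hG (fun x hx => (hD x).mpr hx) hq
  obtain ⟨h, x₁, x₂, t, t', hx₁D, hx₂D, htt', ht2, ht3, hx₁, hx₂, hUu, hh1, hh2, hhU, hgen, hN,
    ι, hι⟩ := section_torus hp5 hq
      (fun a ha b hb => by
        rw [Subgroup.mem_bot, inv_mul_eq_one]
        exact hDcomm b hb a ha)
      (fun a ha => by
        rw [Subgroup.mem_bot]
        exact (hD a).mp ha) hcardW hker U hU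
  -- `D` is central
  have hDcen : ∀ g : G, ∀ w ∈ D, g * w * g⁻¹ = w := by
    intro g w hw
    have hNn := inn_normal_subgroupOf K
    have hNp := inn_isPGroup_subgroupOf hG K
    have hNU : (Cfsg.Inn G).subgroupOf K ≤ U := hNp.le_sylow_of_normal U
    have h1 := hN _ hNn hNU ⟨MulAut.conj g, hInn g⟩
      (by rw [Subgroup.mem_subgroupOf]; exact ⟨g, rfl⟩) w hw
    rw [Subgroup.mem_bot, inv_mul_eq_one] at h1
    exact h1.symm
  -- the involution
  have hιD : ∀ w ∈ D, (ι : MulAut G) w = w⁻¹ := by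
    intro w hw
    have := hι w hw
    rw [Subgroup.mem_bot] at this
    exact (eq_inv_of_mul_eq_one_right this)
  have hιι : ι * ι ∈ (quotAct hq).ker := by
    rw [mem_ker_quotAct]
    intro x hx
    rw [Subgroup.mem_bot, inv_mul_eq_one]
    show x = (ι : MulAut G) ((ι : MulAut G) x)
    rw [hιD x hx, hιD _ (inv_mem hx), inv_inv]
  obtain ⟨k, hk⟩ := hker ⟨ι * ι, hιι⟩
  have hk' : (ι * ι) ^ p ^ k = 1 := by
    have := congrArg Subtype.val hk
    simpa using this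
  obtain ⟨m, hm⟩ : ∃ m, p ^ k = 2 * m + 1 := by
    have hodd : Odd (p ^ k) := (hp.odd_of_ne_two hp2).pow
    obtain ⟨m, hm⟩ := hodd
    exact ⟨m, hm⟩
  have hι'2 : ((ι : MulAut G) ^ p ^ k) * ((ι : MulAut G) ^ p ^ k) = 1 := by
    have h1 := congrArg Subtype.val hk'
    simp only [SubgroupClass.coe_pow, Subgroup.coe_mul, OneMemClass.coe_one] at h1
    rw [(Commute.refl (ι : MulAut G)).mul_pow] at h1
    exact h1
  have hι'D : ∀ w ∈ D, ((ι : MulAut G) ^ p ^ k) w = w⁻¹ := by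
    intro w hw
    have h2 : ((ι : MulAut G) * (ι : MulAut G)) w⁻¹ = w⁻¹ := by
      show (ι : MulAut G) ((ι : MulAut G) w⁻¹) = w⁻¹
      rw [hιD _ (inv_mem hw), hιD _ (inv_mem (inv_mem hw)), inv_inv]
    rw [hm, pow_succ, pow_mul, MulAut.mul_apply, hιD w hw, pow_two]
    exact pow_apply_fixed _ h2 m
  have hab : ∀ a b : G, a * b = b * a :=
    abelian_of_inverting hG hp2 ((ι : MulAut G) ^ p ^ k) hι'2
      (fun x hx => hι'D x ((hD x).mpr hx))
  -- `G = D`
  have hGD : (∀ a : G, a ^ p = 1) ∧ Nat.card G = p ^ 2 := by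
    let _ : CommGroup G := { ‹Group G› with mul_comm := hab }
    have hUne : (U : Subgroup K) ≠ ⊥ := by
      intro h
      apply hU
      rw [h]
      infer_instance
    have hdvd : p ∣ Nat.card K := by
      obtain ⟨n, hn⟩ := IsPGroup.iff_card.mp U.isPGroup'
      have hn0 : n ≠ 0 := by
        intro h0
        rw [h0, pow_zero] at hn
        exact hUne (Subgroup.card_eq_one.mp hn)
      have h1 : p ∣ Nat.card (U : Subgroup K) := by
        rw [hn]
        exact dvd_pow_self p hn0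
      exact h1.trans (Subgroup.card_subgroup_dvd_card _)
    have hcore : ∀ N : Subgroup K, N.Normal → IsPGroup p N → N = ⊥ := by
      intro N hNn hNp
      rw [eq_bot_iff]
      intro n hn
      obtain ⟨g, hg⟩ := hrad N hNn hNp n hn
      rw [Subgroup.mem_bot]
      apply Subtype.ext
      have hg' : MulAut.conj g = (n : MulAut G) := hg
      rw [← hg']
      ext x
      show g * x * g⁻¹ = x
      rw [hab g x, mul_inv_cancel_right]
    exact card_of_abelian hG hp5 K hdvd hcore D hD hcard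
  have hDtop : ∀ w : G, w ∈ D := fun w => (hD w).mpr (hGD.1 w)
  refine ⟨hGD.1, hGD.2, hab, h, x₁, x₂, t, t', htt', ht2, ht3, ?_, ?_, ?_, ?_, ?_, hhU, ?_⟩
  · intro h1
    apply hx₁
    rw [h1]
    exact one_mem _
  · intro k hk
    apply hx₂ k
    rw [Subgroup.mem_bot, inv_mul_eq_one]
    exact hk.symm
  · intro u hu
    obtain ⟨h1, h2⟩ := hUu u hu
    constructor
    · rw [Subgroup.mem_bot, inv_mul_eq_one] at h1
      exact h1.symm
    · intro w
      obtain ⟨k, hk⟩ := h2 w (hDtop w)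
      refine ⟨k, ?_⟩
      rw [Subgroup.mem_bot, inv_mul_eq_one] at hk
      exact hk.symm
  · rw [Subgroup.mem_bot, inv_mul_eq_one] at hh1
    exact hh1.symm
  · rw [Subgroup.mem_bot, inv_mul_eq_one] at hh2
    exact hh2.symm
  · intro w
    obtain ⟨i, j, hij⟩ := hgen w (hDtop w)
    refine ⟨i, j, ?_⟩
    rw [Subgroup.mem_bot, inv_mul_eq_one] at hij
    exact hij.symm

/-- the local analysis when `Ω₁(G)` is nonabelian of order `p³`. -/
theorem locB (hp5 : 5 ≤ p) (hG : IsPGroup p G) {K : Subgroup (MulAut G)} {D : Subgroup G}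
    (hD : ∀ x : G, x ∈ D ↔ x ^ p = 1) (hcard : Nat.card D = p ^ 3)
    (hna : ¬ ∀ a b : ↥D, a * b = b * a)
    (U : Sylow p K) (hU : ¬ (U : Subgroup K).Normal) :
    Nat.card (ZD D) = p ∧
    (∀ a ∈ D, ∀ b ∈ D, (b * a)⁻¹ * (a * b) ∈ ZD D) ∧
    (∃ u ∈ U, ∃ w ∈ D, w⁻¹ * (u : MulAut G) w ∉ ZD D) ∧
    ∃ (h : K) (x₁ x₂ : G) (t t' : ℕ), x₁ ∈ D ∧ x₂ ∈ D ∧ (t * t' : ZMod p) = 1 ∧
      (t : ZMod p) ^ 2 ≠ 1 ∧ (t : ZMod p) ^ 3 ≠ 1 ∧
      x₁ ∉ ZD D ∧ (∀ k : ℕ, (x₁ ^ k)⁻¹ * x₂ ∉ ZD D) ∧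
      (∀ u ∈ U, (x₁)⁻¹ * (u : MulAut G) x₁ ∈ ZD D ∧
        ∀ w ∈ D, ∃ k : ℕ, (w * x₁ ^ k)⁻¹ * (u : MulAut G) w ∈ ZD D) ∧
      (x₁ ^ t)⁻¹ * (h : MulAut G) x₁ ∈ ZD D ∧ (x₂ ^ t')⁻¹ * (h : MulAut G) x₂ ∈ ZD D ∧
      (∀ u ∈ U, h * u * h⁻¹ ∈ U) ∧
      (∀ w ∈ D, ∃ i j : ℕ, (x₁ ^ i * x₂ ^ j)⁻¹ * w ∈ ZD D) := by
  classical
  have hp : p.Prime := Fact.out
  have hp2 : p ≠ 2 := by omega
  have hfinM : Finite (MulAut G) := Finite.of_injective (fun α : MulAut G => (α : G → G))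
    (fun α β h => by ext x; exact congrFun h x)
  have hDinv : ∀ k : MulAut G, ∀ x ∈ D, k x ∈ D := by
    intro k x hx
    rw [hD] at hx ⊢
    rw [← map_pow, hx, map_one]
  have hq : QInv K D (ZD D) :=
    qinv_ZD (fun k _ x hx => hDinv k x hx) (fun k _ x hx => hDinv k⁻¹ x hx)
  obtain ⟨hZcard, hcomm, -⟩ := Cfsg.Agent.Lib.Helper86.nonabelian_basic p hcard hna
  have hZcard' : Nat.card ((ZD D).subgroupOf D) = p := by
    rw [ZD_subgroupOf]
    exact hZcard
  have hcardW : Nat.card (↥D ⧸ (ZD D).subgroupOf D) = p ^ 2 := by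
    have h1 := Subgroup.card_eq_card_quotient_mul_card_subgroup ((ZD D).subgroupOf D)
    rw [hZcard', hcard] at h1
    have h2 : p ^ 2 * p = Nat.card (↥D ⧸ (ZD D).subgroupOf D) * p := by
      rw [← h1]
      ring
    exact (Nat.eq_of_mul_eq_mul_right hp.pos h2).symm
  have hker := ker_isPGroup_ZD hp2 hG (fun x hx => (hD x).mpr hx) (fun x hx => (hD x).mp hx)
    hcard hna hq
  have hZD1 : Nat.card (ZD D) = p := by
    unfold ZD
    rw [Subgroup.card_map_of_injective (Subgroup.subtype_injective _)]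
    exact hZcard
  have hcommD : ∀ a ∈ D, ∀ b ∈ D, (b * a)⁻¹ * (a * b) ∈ ZD D := by
    intro a ha b hb
    have h1 : (⁅(⟨a, ha⟩ : ↥D)⁻¹, (⟨b, hb⟩ : ↥D)⁻¹⁆) ∈ commutator ↥D :=
      Subgroup.commutator_mem_commutator (Subgroup.mem_top _) (Subgroup.mem_top _)
    rw [hcomm, ← ZD_subgroupOf, Subgroup.mem_subgroupOf] at h1
    have e : (b * a)⁻¹ * (a * b) = ((⁅(⟨a, ha⟩ : ↥D)⁻¹, (⟨b, hb⟩ : ↥D)⁻¹⁆ : ↥D) : G) := by
      simp only [commutatorElement_def, Subgroup.coe_mul, Subgroup.coe_inv, inv_inv]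
      group
    rw [e]
    exact h1
  refine ⟨hZD1, hcommD, ?_, ?_⟩
  · by_contra hcon
    push Not at hcon
    apply hU
    have hle : (U : Subgroup K) ≤ (quotAct hq).ker := by
      intro u hu
      rw [mem_ker_quotAct]
      intro w hw
      exact hcon u hu w hw
    have := U.is_maximal' hker hle
    rw [← this]
    exact MonoidHom.normal_ker _
  · obtain ⟨h, x₁, x₂, t, t', hx₁D, hx₂D, htt', ht2, ht3, hx₁, hx₂, hUu, hh1, hh2, hhU, hgen, -,
      -⟩ := section_torus hp5 hq hcommD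
        (fun a ha => by
          rw [(hD a).mp ha]
          exact one_mem _) hcardW hker U hU
    exact ⟨h, x₁, x₂, t, t', hx₁D, hx₂D, htt', ht2, ht3, hx₁, hx₂, hUu, hh1, hh2, hhU, hgen⟩

end Cfsg.Agent.Lib.Helper31.R2
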