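import Mathlib
import Cfsg.Agent.Lib.Helper31.R2Local
import Cfsg.Agent.Lib.Helper87.CyclicFactor

set_option autoImplicit false
set_option linter.unusedSectionVars false

/-!
Rank two resistant groups (S5289): further local lemmas (cyclic `Ω₁`, unipotent action of a
`p`-group on a section of order `p²`).
-/

namespace Cfsg.Agent.Lib.Helper31.R2

open Subgroup

/-- abelian image and `p`-group kernel force a normal Sylow `p`-subgroup. -/
theorem sylow_normal_of_abelian_image {K A : Type*} [Group K] [Group A] {p : ℕ} [Fact p.Prime]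
    (ρ : K →* A) (hcomm : ∀ a b : K, ρ a * ρ b = ρ b * ρ a) (hker : IsPGroup p ρ.ker)
    (U : Sylow p K) : (U : Subgroup K).Normal := by
  let M : Subgroup K :=
    { carrier := {k | ∃ n : ℕ, ρ k ^ p ^ n = 1}
      one_mem' := ⟨0, by rw [map_one, one_pow]⟩
      mul_mem' := by
        rintro a b ⟨n, hn⟩ ⟨m, hm⟩
        refine ⟨n + m, ?_⟩
        have hc : Commute (ρ a) (ρ b) := hcomm a b
        rw [map_mul, hc.mul_pow, pow_add, pow_mul, hn, one_pow, one_mul, mul_comm (p ^ n),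
          pow_mul, hm, one_pow]
      inv_mem' := by
        rintro a ⟨n, hn⟩
        exact ⟨n, by rw [map_inv, inv_pow, hn, inv_one]⟩ }
  have hMp : IsPGroup p M := by
    rintro ⟨k, n, hn⟩
    have hk : k ^ p ^ n ∈ ρ.ker := by
      rw [MonoidHom.mem_ker, map_pow]
      exact hn
    obtain ⟨m, hm⟩ := hker ⟨_, hk⟩
    refine ⟨n + m, ?_⟩
    apply Subtype.ext
    have := congrArg Subtype.val hm
    simp only [Subgroup.coe_pow, Subgroup.coe_one] at this ⊢
    rw [pow_add, pow_mul]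
    exact this
  have hUM : (U : Subgroup K) ≤ M := by
    intro u hu
    obtain ⟨n, hn⟩ := U.isPGroup' ⟨u, hu⟩
    refine ⟨n, ?_⟩
    have := congrArg Subtype.val hn
    simp only [Subgroup.coe_pow, Subgroup.coe_one] at this
    rw [← map_pow, this, map_one]
  have hMU := U.is_maximal' hMp hUM
  rw [← hMU]
  constructor
  rintro k ⟨n, hn⟩ g
  refine ⟨n, ?_⟩
  have e : ρ (g * k * g⁻¹) = ρ k := by
    rw [map_mul, map_mul, hcomm g k, map_inv, mul_inv_cancel_right]
  rw [e]
  exact hn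

variable {G : Type*} [Group G] [Finite G] {p : ℕ} [Fact p.Prime]

/-- the local analysis when `Ω₁(G)` has order at most `p`. -/
theorem locC (hp2 : p ≠ 2) (hG : IsPGroup p G) {K : Subgroup (MulAut G)} {D : Subgroup G}
    (hD : ∀ x : G, x ∈ D ↔ x ^ p = 1) (hcard : Nat.card D ≤ p) (U : Sylow p K) :
    (U : Subgroup K).Normal := by
  classical
  have hp : p.Prime := Fact.out
  have hDinv : ∀ k : MulAut G, ∀ x ∈ D, k x ∈ D := by
    intro k x hx
    rw [hD] at hx ⊢
    rw [← map_pow, hx, map_one]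
  have hq : QInv K D ⊥ :=
    ⟨fun k _ x hx => hDinv k x hx, fun k _ x hx => by
      rw [Subgroup.mem_bot] at hx ⊢
      rw [hx, map_one]⟩
  have hker := ker_isPGroup_bot hp2 hG (fun x hx => (hD x).mpr hx) hq
  have hcardW : Nat.card (↥D ⧸ (⊥ : Subgroup G).subgroupOf D) = Nat.card D := by
    have h1 := Subgroup.card_eq_card_quotient_mul_card_subgroup ((⊥ : Subgroup G).subgroupOf D)
    have h2 : Nat.card ((⊥ : Subgroup G).subgroupOf D) = 1 := by
      rw [Subgroup.bot_subgroupOf]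
      exact Subgroup.card_bot
    rw [h2, mul_one] at h1
    exact h1.symm
  have hcyc : IsCyclic (↥D ⧸ (⊥ : Subgroup G).subgroupOf D) := by
    obtain ⟨k, hk⟩ := (hG.to_subgroup D).exists_card_eq
    have hk1 : k ≤ 1 := by
      by_contra hcon
      have h2 : 2 ≤ k := by omega
      have : p ^ 2 ≤ p ^ k := Nat.pow_le_pow_right hp.pos h2
      have h3 : p < p ^ 2 := by
        have := hp.two_le
        nlinarith
      omega
    rcases Nat.le_one_iff_eq_zero_or_eq_one.mp hk1 with rfl | rfl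
    · rw [pow_zero] at hk
      have : Subsingleton (↥D ⧸ (⊥ : Subgroup G).subgroupOf D) := by
        rw [← Finite.card_le_one_iff_subsingleton, hcardW, hk]
      exact isCyclic_of_subsingleton
    · rw [pow_one] at hk
      exact isCyclic_of_prime_card (hcardW.trans hk)
  exact sylow_normal_of_abelian_image (quotAct hq)
    (fun a b => by
      rw [← map_mul, ← map_mul]
      have := Cfsg.Agent.Lib.Helper87.mulAut_comm_of_isCyclic (quotAct hq a) (quotAct hq b)
      rw [map_mul, map_mul]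
      exact this) hker U

/-- a `p`-group of automorphisms acts unipotently on an invariant section of order `p²`. -/
theorem section_unip {K : Subgroup (MulAut G)} {D Z : Subgroup G}
    [hn : (Z.subgroupOf D).Normal] (hq : QInv K D Z) (hK : IsPGroup p K)
    (hcomm : ∀ a ∈ D, ∀ b ∈ D, (b * a)⁻¹ * (a * b) ∈ Z) (hexp : ∀ a ∈ D, a ^ p ∈ Z)
    (hcard : Nat.card (↥D ⧸ Z.subgroupOf D) = p ^ 2) :
    ∃ y ∈ D, y ∉ Z ∧
      (∀ k ∈ K, y⁻¹ * k y ∈ Z ∧ ∀ w ∈ D, ∃ i : ℕ, (w * y ^ i)⁻¹ * k w ∈ Z) ∧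
      (∀ x ∈ D, (∀ i : ℕ, (y ^ i)⁻¹ * x ∉ Z) →
        ∀ w ∈ D, ∃ i j : ℕ, (y ^ i * x ^ j)⁻¹ * w ∈ Z) := by
  classical
  have hp : p.Prime := Fact.out
  have hfinM : Finite (MulAut G) := Finite.of_injective (fun α : MulAut G => (α : G → G))
    (fun α β h => by ext x; exact congrFun h x)
  have hcommW : ∀ a b : ↥D ⧸ Z.subgroupOf D, a * b = b * a := by
    intro a b
    induction a using QuotientGroup.induction_on with
    | H a =>
      induction b using QuotientGroup.induction_on with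
      | H b =>
        rw [← QuotientGroup.mk_mul, ← QuotientGroup.mk_mul, eq_comm, mk_eq_mk_iff]
        exact hcomm a a.2 b b.2
  let _ : CommGroup (↥D ⧸ Z.subgroupOf D) :=
    { (inferInstance : Group (↥D ⧸ Z.subgroupOf D)) with mul_comm := hcommW }
  have hexpW : ∀ w : ↥D ⧸ Z.subgroupOf D, w ^ p = 1 := by
    intro w
    induction w using QuotientGroup.induction_on with
    | H a =>
      rw [← QuotientGroup.mk_pow, QuotientGroup.eq_one_iff]
      exact hexp a a.2
  -- a fixed point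
  obtain ⟨e, he, hfix⟩ : ∃ e : ↥D ⧸ Z.subgroupOf D, e ≠ 1 ∧ ∀ a : K, quotAct hq a e = e := by
    let _ : MulAction K (↥D ⧸ Z.subgroupOf D) := MulAction.compHom _ (quotAct hq)
    have hdvd : p ∣ Nat.card (↥D ⧸ Z.subgroupOf D) := by
      rw [hcard]; exact dvd_pow_self p two_ne_zero
    have h1 : (1 : ↥D ⧸ Z.subgroupOf D) ∈ MulAction.fixedPoints K (↥D ⧸ Z.subgroupOf D) := by
      intro a
      show (quotAct hq a) 1 = 1
      exact map_one _
    obtain ⟨b, hb, hne⟩ :=
      hK.exists_fixed_point_of_prime_dvd_card_of_fixed_point _ hdvd h1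
    exact ⟨b, hne.symm, fun a => hb a⟩
  have hunip : ∀ a : K, a ∈ unip (quotAct hq) e := by
    intro a
    obtain ⟨j, hj⟩ := hK a
    exact mem_unip_of_pow hexpW hcard (quotAct hq) he hj (hfix a)
  obtain ⟨y, rfl⟩ := QuotientGroup.mk_surjective e
  refine ⟨y, y.2, ?_, ?_, ?_⟩
  · intro hy
    apply he
    rw [QuotientGroup.eq_one_iff]
    exact hy
  · intro k hk
    obtain ⟨hu1, hu2⟩ := hunip ⟨k, hk⟩
    constructor
    · rw [quotAct_mk, eq_comm, mk_eq_mk_iff] at hu1
      exact hu1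
    · intro w hw
      have h1 := hu2 (QuotientGroup.mk ⟨w, hw⟩)
      obtain ⟨i, hi⟩ := mem_powers_iff_mem_zpowers.mpr h1
      refine ⟨i, ?_⟩
      have hi' : (QuotientGroup.mk y : ↥D ⧸ Z.subgroupOf D) ^ i =
          (QuotientGroup.mk ⟨w, hw⟩)⁻¹ * quotAct hq ⟨k, hk⟩ (QuotientGroup.mk ⟨w, hw⟩) := hi
      rw [quotAct_mk, ← QuotientGroup.mk_pow, ← QuotientGroup.mk_inv, ← QuotientGroup.mk_mul,
        mk_eq_mk_iff] at hi'
      have e : (w * (y : G) ^ i)⁻¹ * k w =
          (((y ^ i : ↥D) : G))⁻¹ *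
            (((⟨w, hw⟩ : ↥D)⁻¹ * resHom hq ⟨k, hk⟩ ⟨w, hw⟩ : ↥D) : G) := by
        simp only [Subgroup.coe_mul, Subgroup.coe_inv, Subgroup.coe_pow, resHom_coe, mul_inv_rev]
        group
      rw [e]
      exact hi'
  · intro x hx hxy w hw
    have he₂ : (QuotientGroup.mk ⟨x, hx⟩ : ↥D ⧸ Z.subgroupOf D) ∉ zpowers (QuotientGroup.mk y) := by
      intro hmem
      obtain ⟨i, hi⟩ := mem_powers_iff_mem_zpowers.mpr hmem
      have hi' : (QuotientGroup.mk y : ↥D ⧸ Z.subgroupOf D) ^ i = QuotientGroup.mk ⟨x, hx⟩ := hi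
      rw [← QuotientGroup.mk_pow, mk_eq_mk_iff] at hi'
      exact hxy i hi'
    obtain ⟨i, j, hij⟩ := span_two hexpW hcard he he₂ (QuotientGroup.mk ⟨w, hw⟩)
    refine ⟨i, j, ?_⟩
    rw [← QuotientGroup.mk_pow, ← QuotientGroup.mk_pow, ← QuotientGroup.mk_mul, eq_comm,
      mk_eq_mk_iff] at hij
    exact hij

end Cfsg.Agent.Lib.Helper31.R2
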