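import Mathlib
import Cfsg.Agent.Lib.Helper31.R2Local2
import Cfsg.Agent.Lib.Helper31.R2CoreB

set_option autoImplicit false
set_option linter.unusedSectionVars false

/-!
Rank two resistant groups (S5289): the normalized group-level data feeding the final contradiction.
-/

namespace Cfsg.Agent.Lib.Helper31.R2

open Subgroup
open scoped commutatorElement

/-- the group-level configuration: `K` a group of automorphisms of `G`, `U` a `p`-subgroup,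
`D = Ω₁(G)`, `h` a torus element. -/
structure GData {G : Type*} [Group G] (p : ℕ) (K : Subgroup (MulAut G)) (U : Subgroup K)
    (D : Subgroup G) (h : K) (z y x : G) (κ μ : ℕ) : Prop where
  hzD : z ∈ D
  hyD : y ∈ D
  hxD : x ∈ D
  hUz : ∀ u ∈ U, (u : MulAut G) z = z
  hgen : ∀ w ∈ D, ∃ (i j : ℕ), ∃ ζ ∈ zpowers z, w = y ^ i * x ^ j * ζ
  hUy : ∀ u ∈ U, ∃ ζ ∈ zpowers z, (u : MulAut G) y = ζ * y
  hUx : ∀ u ∈ U, ∃ (i : ℕ), ∃ ζ ∈ zpowers z, (u : MulAut G) x = y ^ i * ζ * x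
  hnc : x * y ≠ y * x
  hu₀ : ∃ u ∈ U, ∀ ζ ∈ zpowers z, (u : MulAut G) x ≠ ζ * x
  hhz : (h : MulAut G) z = z ^ κ
  hhx : ∃ ζ ∈ zpowers z, (h : MulAut G) x = x ^ μ * ζ
  h1 : (κ : ZMod p) ≠ (μ : ZMod p) ^ 2
  h2 : (μ : ZMod p) ^ 2 ≠ 1
  hhU : ∀ u ∈ U, h * u * h⁻¹ ∈ U

variable {G : Type*} [Group G] [Finite G] {p : ℕ} [Fact p.Prime]

/-- an automorphism of `p`-power order normalizing a subgroup of order `p` centralizes it. -/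
theorem fix_of_ppow {z : G} (hz : z ^ p = 1) (α : MulAut G) {j : ℕ}
    (hα : α ^ p ^ j = 1) (hαz : α z ∈ zpowers z) : α z = z := by
  obtain ⟨k, hk⟩ := mem_powers_iff_mem_zpowers.mpr hαz
  have hk' : z ^ k = α z := hk
  have hiter : ∀ n : ℕ, (α ^ n) z = z ^ (k ^ n) := by
    intro n
    induction n with
    | zero => simp
    | succ n ih =>
      rw [pow_succ', MulAut.mul_apply, ih, map_pow, ← hk', ← pow_mul, ← pow_succ']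
  have h1 := hiter (p ^ j)
  rw [hα] at h1
  have h2 : z ^ (k ^ p ^ j) = z ^ k := by
    apply pow_eq_of_zmod hz
    push_cast
    exact ZMod.pow_card_pow _
  rw [h2] at h1
  rw [← hk', ← h1]
  rfl

/-- a nontrivial element of a subgroup of order `p` generates it. -/
theorem mem_zpowers_of_card {Z : Subgroup G} (hZ : Nat.card Z = p) {c : G} (hc : c ∈ Z)
    (hc1 : c ≠ 1) {ζ : G} (hζ : ζ ∈ Z) : ζ ∈ zpowers c := by
  have h1 : (⟨ζ, hζ⟩ : ↥Z) ∈ zpowers (⟨c, hc⟩ : ↥Z) :=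
    mem_zpowers_of_prime_card hZ (fun h => hc1 (congrArg Subtype.val h))
  obtain ⟨k, hk⟩ := mem_zpowers_iff.mp h1
  rw [mem_zpowers_iff]
  refine ⟨k, ?_⟩
  have := congrArg Subtype.val hk
  simpa using this

/-- basic facts on `D` nonabelian of order `p³` and its centre. -/
theorem ZD_basic {D : Subgroup G} (hcard : Nat.card D = p ^ 3)
    (hna : ¬ ∀ a b : ↥D, a * b = b * a) :
    Nat.card (ZD D) = p ∧ (∀ a ∈ D, ∀ b ∈ D, (b * a)⁻¹ * (a * b) ∈ ZD D) ∧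
      Nat.card (↥D ⧸ (ZD D).subgroupOf D) = p ^ 2 := by
  have hp : p.Prime := Fact.out
  obtain ⟨hZcard, hcomm, -⟩ := Cfsg.Agent.Lib.Helper86.nonabelian_basic p hcard hna
  have hZcard' : Nat.card ((ZD D).subgroupOf D) = p := by
    rw [ZD_subgroupOf]
    exact hZcard
  refine ⟨?_, ?_, ?_⟩
  · unfold ZD
    rw [Subgroup.card_map_of_injective (Subgroup.subtype_injective _)]
    exact hZcard
  · intro a ha b hb
    have h1 : (⁅(⟨a, ha⟩ : ↥D)⁻¹, (⟨b, hb⟩ : ↥D)⁻¹⁆) ∈ commutator ↥D :=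
      Subgroup.commutator_mem_commutator (Subgroup.mem_top _) (Subgroup.mem_top _)
    rw [hcomm, ← ZD_subgroupOf, Subgroup.mem_subgroupOf] at h1
    have e : (b * a)⁻¹ * (a * b) = ((⁅(⟨a, ha⟩ : ↥D)⁻¹, (⟨b, hb⟩ : ↥D)⁻¹⁆ : ↥D) : G) := by
      simp only [commutatorElement_def, Subgroup.coe_mul, Subgroup.coe_inv, inv_inv]
      group
    rw [e]
    exact h1
  · have h1 := Subgroup.card_eq_card_quotient_mul_card_subgroup ((ZD D).subgroupOf D)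
    rw [hZcard', hcard] at h1
    have h2 : p ^ 2 * p = Nat.card (↥D ⧸ (ZD D).subgroupOf D) * p := by
      rw [← h1]
      ring
    exact (Nat.eq_of_mul_eq_mul_right hp.pos h2).symm

/-- `D` is abelian as soon as two elements generating it modulo its centre commute. -/
theorem abelian_of_gen {D : Subgroup G} {y x : G} (hyD : y ∈ D) (hxD : x ∈ D)
    (hgen : ∀ w ∈ D, ∃ (i j : ℕ), ∃ ζ ∈ ZD D, w = y ^ i * x ^ j * ζ)
    (hxy : x * y = y * x) : ∀ a b : ↥D, a * b = b * a := by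
  have hZc : ∀ ζ ∈ ZD D, ∀ w ∈ D, Commute w ζ := fun ζ hζ w hw => (mem_ZD.mp hζ).2 w hw
  have cxy : Commute x y := hxy
  have hA : ∀ w ∈ D, Commute y w := by
    intro w hw
    obtain ⟨i, j, ζ, hζ, rfl⟩ := hgen w hw
    exact ((Commute.refl y).pow_right i |>.mul_right (cxy.symm.pow_right j)).mul_right
      (hZc ζ hζ y hyD)
  have hB : ∀ w ∈ D, Commute x w := by
    intro w hw
    obtain ⟨i, j, ζ, hζ, rfl⟩ := hgen w hw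
    exact ((cxy.pow_right i).mul_right ((Commute.refl x).pow_right j)).mul_right
      (hZc ζ hζ x hxD)
  intro a b
  apply Subtype.ext
  obtain ⟨i, j, ζ, hζ, ha⟩ := hgen a a.2
  show (a : G) * (b : G) = (b : G) * (a : G)
  rw [ha]
  exact ((((hA b b.2).pow_left i).mul_left ((hB b b.2).pow_left j)).mul_left
    (hZc ζ hζ b b.2).symm).eq

/-- the normalized data, when `Ω₁(G)` is nonabelian of order `p³` and `U` is not normal. -/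
theorem locB2 (hp5 : 5 ≤ p) (hG : IsPGroup p G) {K : Subgroup (MulAut G)} {D : Subgroup G}
    (hD : ∀ x : G, x ∈ D ↔ x ^ p = 1) (hcard : Nat.card D = p ^ 3)
    (hna : ¬ ∀ a b : ↥D, a * b = b * a)
    (U : Sylow p K) (hU : ¬ (U : Subgroup K).Normal) :
    ∃ (h : K) (z y x : G) (μ : ℕ), GData p K (U : Subgroup K) D h z y x 1 μ := by
  classical
  have hp : p.Prime := Fact.out
  obtain ⟨hZcard, hcomm, ⟨u₀, hu₀U, w₀, hw₀D, hw₀⟩, h, x₁, x₂, t, t', hx₁D, hx₂D, htt', ht2, ht3,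
    hx₁, hx₂, hUu, hh1, hh2, hhU, hgen⟩ := locB hp5 hG hD hcard hna U hU
  have hZc : ∀ ζ ∈ ZD D, ∀ w ∈ D, Commute w ζ := fun ζ hζ w hw => (mem_ZD.mp hζ).2 w hw
  have hZD : ZD D ≤ D := ZD_le D
  have hDinv : ∀ k : MulAut G, ∀ x ∈ D, k x ∈ D := by
    intro k x hx
    rw [hD] at hx ⊢
    rw [← map_pow, hx, map_one]
  have hq : QInv K D (ZD D) :=
    qinv_ZD (fun k _ x hx => hDinv k x hx) (fun k _ x hx => hDinv k⁻¹ x hx)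
  obtain ⟨c, hcdef⟩ : ∃ c, c = x₁ * x₂ * x₁⁻¹ * x₂⁻¹ := ⟨_, rfl⟩
  have hcZ : c ∈ ZD D := by
    have := hcomm x₁⁻¹ (inv_mem hx₁D) x₂⁻¹ (inv_mem hx₂D)
    have e : (x₂⁻¹ * x₁⁻¹)⁻¹ * (x₁⁻¹ * x₂⁻¹) = c := by rw [hcdef]; group
    rwa [e] at this
  have hconj : x₁ * x₂ * x₁⁻¹ = c * x₂ := by rw [hcdef]; group
  have hgenZ : ∀ w ∈ D, ∃ (i j : ℕ), ∃ ζ ∈ ZD D, w = x₁ ^ i * x₂ ^ j * ζ := by
    intro w hw
    obtain ⟨i, j, hij⟩ := hgen w hw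
    exact ⟨i, j, _, hij, by rw [mul_inv_cancel_left]⟩
  have hnc : x₂ * x₁ ≠ x₁ * x₂ := by
    intro hc12
    exact hna (abelian_of_gen hx₁D hx₂D hgenZ hc12)
  have hc1 : c ≠ 1 := by
    intro h1
    apply hnc
    rw [h1, one_mul] at hconj
    exact (mul_inv_eq_iff_eq_mul.mp hconj).symm
  have hZgen : ∀ ζ ∈ ZD D, ζ ∈ zpowers c := fun ζ hζ => mem_zpowers_of_card hZcard hcZ hc1 hζ
  have hcp : c ^ p = 1 := (hD c).mp (hZD hcZ)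
  have hUz : ∀ u ∈ U, (u : MulAut G) c = c := by
    intro u hu
    obtain ⟨j, hj⟩ := U.isPGroup' ⟨u, hu⟩
    have hj' : (u : MulAut G) ^ p ^ j = 1 := by
      have := congrArg (fun a : (U : Subgroup K) => ((a : K) : MulAut G)) hj
      simpa using this
    exact fix_of_ppow hcp _ hj' (hZgen _ (hq.hZ u u.2 c hcZ))
  have hUZ : ∀ u ∈ U, ∀ ζ ∈ ZD D, (u : MulAut G) ζ = ζ := by
    intro u hu ζ hζ
    obtain ⟨k, rfl⟩ := mem_zpowers_iff.mp (hZgen ζ hζ)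
    rw [map_zpow, hUz u hu]
  have hgen' : ∀ w ∈ D, ∃ (i j : ℕ), ∃ ζ ∈ zpowers c, w = x₁ ^ i * x₂ ^ j * ζ := by
    intro w hw
    obtain ⟨i, j, ζ, hζ, e⟩ := hgenZ w hw
    exact ⟨i, j, ζ, hZgen ζ hζ, e⟩
  have hzpZ : ∀ ζ ∈ zpowers c, ζ ∈ ZD D := fun ζ hζ => (zpowers_le.mpr hcZ) hζ
  have hUy : ∀ u ∈ U, ∃ ζ ∈ zpowers c, (u : MulAut G) x₁ = ζ * x₁ := by
    intro u hu
    have h1 := (hUu u hu).1
    refine ⟨_, hZgen _ h1, ?_⟩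
    rw [← (hZc _ h1 x₁ hx₁D).eq, mul_inv_cancel_left]
  have hUx : ∀ u ∈ U, ∃ (i : ℕ), ∃ ζ ∈ zpowers c, (u : MulAut G) x₂ = x₁ ^ i * ζ * x₂ := by
    intro u hu
    obtain ⟨k, hk⟩ := (hUu u hu).2 x₂ hx₂D
    have h2 := hcomm x₂ hx₂D (x₁ ^ k) (pow_mem hx₁D k)
    refine ⟨k, _, hZgen _ (mul_mem h2 hk), ?_⟩
    have hc2 := hZc _ (mul_mem h2 hk) x₂ hx₂D
    rw [mul_assoc, ← hc2.eq]
    group
  have hu₀' : ∃ u ∈ U, ∀ ζ ∈ zpowers c, (u : MulAut G) x₂ ≠ ζ * x₂ := by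
    refine ⟨u₀, hu₀U, fun ζ hζ heq => hw₀ ?_⟩
    obtain ⟨i, j, ζw, hζw, hw⟩ := hgenZ w₀ hw₀D
    obtain ⟨ζ₁, hζ₁, h1⟩ := hUy u₀ hu₀U
    have hζZ := hzpZ ζ hζ
    have hζ₁Z := hzpZ ζ₁ hζ₁
    have e : (u₀ : MulAut G) w₀ = (ζ₁ ^ i * ζ ^ j) * w₀ := by
      rw [hw, map_mul, map_mul, map_pow, map_pow, h1, heq, hUZ u₀ hu₀U ζw hζw,
        (hZc ζ₁ hζ₁Z x₁ hx₁D).symm.mul_pow, (hZc ζ hζZ x₂ hx₂D).symm.mul_pow]
      have hc3 : Commute (x₁ ^ i) (ζ ^ j) := hZc _ (pow_mem hζZ j) _ (pow_mem hx₁D i)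
      calc ζ₁ ^ i * x₁ ^ i * (ζ ^ j * x₂ ^ j) * ζw
          = ζ₁ ^ i * (x₁ ^ i * ζ ^ j) * x₂ ^ j * ζw := by group
        _ = ζ₁ ^ i * (ζ ^ j * x₁ ^ i) * x₂ ^ j * ζw := by rw [hc3.eq]
        _ = ζ₁ ^ i * ζ ^ j * (x₁ ^ i * x₂ ^ j * ζw) := by group
    rw [e]
    have hζζ : ζ₁ ^ i * ζ ^ j ∈ ZD D := mul_mem (pow_mem hζ₁Z i) (pow_mem hζZ j)
    rw [← (hZc _ hζζ w₀ hw₀D).eq, inv_mul_cancel_left]
    exact hζζ
  -- the torus fixes `c`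
  obtain ⟨A, hA⟩ : ∃ A, A = x₁ ^ t := ⟨_, rfl⟩
  obtain ⟨B, hB⟩ : ∃ B, B = x₂ ^ t' := ⟨_, rfl⟩
  have hAD : A ∈ D := hA ▸ pow_mem hx₁D t
  have hBD : B ∈ D := hB ▸ pow_mem hx₂D t'
  have hABA : A * B * A⁻¹ = c * B := by
    have hcx₂ : Commute c x₂ := (hZc c hcZ x₂ hx₂D).symm
    have e1 := conj_pow_right hconj hcx₂ t'
    have hx₁c : Commute x₁ (c ^ t') := hZc _ (pow_mem hcZ t') x₁ hx₁D
    have e2 := conj_pow_left e1 hx₁c t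
    rw [hA, hB, e2, ← pow_mul]
    congr 1
    have : c ^ (t' * t) = c ^ 1 := by
      apply pow_eq_of_zmod hcp
      push_cast
      rw [mul_comm]
      exact htt'
    rw [this, pow_one]
  obtain ⟨ζ₁, hζ₁def⟩ : ∃ ζ₁, ζ₁ = A⁻¹ * (h : MulAut G) x₁ := ⟨_, rfl⟩
  obtain ⟨ζ₂, hζ₂def⟩ : ∃ ζ₂, ζ₂ = B⁻¹ * (h : MulAut G) x₂ := ⟨_, rfl⟩
  have hζ₁ : ζ₁ ∈ ZD D := by rw [hζ₁def, hA]; exact hh1
  have hζ₂ : ζ₂ ∈ ZD D := by rw [hζ₂def, hB]; exact hh2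
  have hhx₁ : (h : MulAut G) x₁ = A * ζ₁ := by rw [hζ₁def, mul_inv_cancel_left]
  have hhx₂ : (h : MulAut G) x₂ = B * ζ₂ := by rw [hζ₂def, mul_inv_cancel_left]
  have hhc : (h : MulAut G) c = c := by
    have hc1' : Commute ζ₁ (B * ζ₂) := (hZc ζ₁ hζ₁ (B * ζ₂) (mul_mem hBD (hZD hζ₂))).symm
    have hc2 : Commute ζ₂ A := (hZc ζ₂ hζ₂ A hAD).symm
    have key : A * ζ₁ * (B * ζ₂) * (A * ζ₁)⁻¹ = c * (B * ζ₂) := by
      calc A * ζ₁ * (B * ζ₂) * (A * ζ₁)⁻¹ = A * (ζ₁ * (B * ζ₂)) * ζ₁⁻¹ * A⁻¹ := by group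
        _ = A * ((B * ζ₂) * ζ₁) * ζ₁⁻¹ * A⁻¹ := by rw [hc1'.eq]
        _ = (A * B * A⁻¹) * (A * ζ₂ * A⁻¹) := by group
        _ = c * B * ζ₂ := by rw [hABA, ← hc2.eq, mul_inv_cancel_right]
        _ = c * (B * ζ₂) := mul_assoc _ _ _
    rw [hcdef, map_mul, map_mul, map_mul, map_inv, map_inv, hhx₁, hhx₂, key, mul_inv_cancel_right,
      ← hcdef]
  refine ⟨h, c, x₁, x₂, t', ⟨hZD hcZ, hx₁D, hx₂D, hUz, hgen', hUy, hUx, hnc, hu₀', ?_, ?_, ?_, ?_,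
    hhU⟩⟩
  · rw [pow_one]; exact hhc
  · exact ⟨ζ₂, hZgen ζ₂ hζ₂, by rw [hhx₂, hB]⟩
  · intro e
    apply ht2
    have e' : (t' : ZMod p) ^ 2 = 1 := by rw [← e]; simp
    calc (t : ZMod p) ^ 2 = (t : ZMod p) ^ 2 * (t' : ZMod p) ^ 2 := by rw [e', mul_one]
      _ = 1 := by rw [← mul_pow, htt', one_pow]
  · intro e'
    apply ht2
    calc (t : ZMod p) ^ 2 = (t : ZMod p) ^ 2 * (t' : ZMod p) ^ 2 := by rw [e', mul_one]
      _ = 1 := by rw [← mul_pow, htt', one_pow]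

/-- the normalized data, when `G = Ω₁(G)`-part is nonabelian of order `p³`, `U` acts as a
`p`-group and the torus acts diagonally on `z` and `x`. -/
theorem locA2 {K : Subgroup (MulAut G)} {D : Subgroup G}
    (hD : ∀ x : G, x ∈ D ↔ x ^ p = 1) (hcard : Nat.card D = p ^ 3)
    (hna : ¬ ∀ a b : ↥D, a * b = b * a)
    (U : Sylow p K) (h : K) (z x : G) (t t' : ℕ)
    (hzZ : z ∈ ZD D) (hz1 : z ≠ 1) (hxD : x ∈ D)
    (hxU : ∃ u ∈ U, ∀ ζ ∈ ZD D, (u : MulAut G) x ≠ ζ * x)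
    (hhz : (h : MulAut G) z = z ^ t) (hhx : (h : MulAut G) x = x ^ t')
    (htt' : (t * t' : ZMod p) = 1) (ht2 : (t : ZMod p) ^ 2 ≠ 1) (ht3 : (t : ZMod p) ^ 3 ≠ 1)
    (hhU : ∀ u ∈ U, h * u * h⁻¹ ∈ U) :
    ∃ y : G, GData p K (U : Subgroup K) D h z y x t t' := by
  classical
  have hp : p.Prime := Fact.out
  obtain ⟨hZcard, hcomm, hcardW⟩ := ZD_basic hcard hna
  have hZc : ∀ ζ ∈ ZD D, ∀ w ∈ D, Commute w ζ := fun ζ hζ w hw => (mem_ZD.mp hζ).2 w hw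
  have hZD : ZD D ≤ D := ZD_le D
  have hDinv : ∀ k : MulAut G, ∀ x ∈ D, k x ∈ D := by
    intro k x hx
    rw [hD] at hx ⊢
    rw [← map_pow, hx, map_one]
  have hq : QInv K D (ZD D) :=
    qinv_ZD (fun k _ x hx => hDinv k x hx) (fun k _ x hx => hDinv k⁻¹ x hx)
  obtain ⟨KU, hKUdef⟩ : ∃ KU : Subgroup (MulAut G), KU = (U : Subgroup K).map K.subtype :=
    ⟨_, rfl⟩
  have hKU : IsPGroup p KU := hKUdef ▸ U.isPGroup'.map _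
  have hmemKU : ∀ u ∈ U, (u : MulAut G) ∈ KU := by
    intro u hu
    rw [hKUdef]
    exact ⟨u, hu, rfl⟩
  have hqU : QInv KU D (ZD D) :=
    qinv_ZD (fun k _ x hx => hDinv k x hx) (fun k _ x hx => hDinv k⁻¹ x hx)
  have hexp : ∀ a ∈ D, a ^ p ∈ ZD D := by
    intro a ha
    rw [(hD a).mp ha]
    exact one_mem _
  obtain ⟨y, hyD, hyZ, hKy, hspan⟩ := section_unip hqU hKU hcomm hexp hcardW
  have hZgen : ∀ ζ ∈ ZD D, ζ ∈ zpowers z := fun ζ hζ => mem_zpowers_of_card hZcard hzZ hz1 hζ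
  have hzpZ : ∀ ζ ∈ zpowers z, ζ ∈ ZD D := fun ζ hζ => (zpowers_le.mpr hzZ) hζ
  have hzp : z ^ p = 1 := (hD z).mp (hZD hzZ)
  have hUz : ∀ u ∈ U, (u : MulAut G) z = z := by
    intro u hu
    obtain ⟨j, hj⟩ := U.isPGroup' ⟨u, hu⟩
    have hj' : (u : MulAut G) ^ p ^ j = 1 := by
      have := congrArg (fun a : (U : Subgroup K) => ((a : K) : MulAut G)) hj
      simpa using this
    exact fix_of_ppow hzp _ hj' (hZgen _ (hq.hZ u u.2 z hzZ))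
  have hUZ : ∀ u ∈ U, ∀ ζ ∈ ZD D, (u : MulAut G) ζ = ζ := by
    intro u hu ζ hζ
    obtain ⟨k, rfl⟩ := mem_zpowers_iff.mp (hZgen ζ hζ)
    rw [map_zpow, hUz u hu]
  have hUy : ∀ u ∈ U, ∃ ζ ∈ zpowers z, (u : MulAut G) y = ζ * y := by
    intro u hu
    have h1 := (hKy _ (hmemKU u hu)).1
    refine ⟨_, hZgen _ h1, ?_⟩
    rw [← (hZc _ h1 y hyD).eq, mul_inv_cancel_left]
  have hUx : ∀ u ∈ U, ∃ (i : ℕ), ∃ ζ ∈ zpowers z, (u : MulAut G) x = y ^ i * ζ * x := by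
    intro u hu
    obtain ⟨k, hk⟩ := (hKy _ (hmemKU u hu)).2 x hxD
    have h2 := hcomm x hxD (y ^ k) (pow_mem hyD k)
    refine ⟨k, _, hZgen _ (mul_mem h2 hk), ?_⟩
    have hc2 := hZc _ (mul_mem h2 hk) x hxD
    rw [mul_assoc, ← hc2.eq]
    group
  have hxy : ∀ i : ℕ, (y ^ i)⁻¹ * x ∉ ZD D := by
    intro i hi
    obtain ⟨u, hu, hux⟩ := hxU
    obtain ⟨ζ₁, hζ₁, h1⟩ := hUy u hu
    have hζ₁Z := hzpZ ζ₁ hζ₁
    apply hux (ζ₁ ^ i) (pow_mem hζ₁Z i)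
    have ex : x = y ^ i * ((y ^ i)⁻¹ * x) := by rw [mul_inv_cancel_left]
    conv_lhs => rw [ex]
    rw [map_mul, map_pow, h1, hUZ u hu _ hi, (hZc ζ₁ hζ₁Z y hyD).symm.mul_pow, mul_assoc,
      mul_inv_cancel_left]
  have hgenZ : ∀ w ∈ D, ∃ (i j : ℕ), ∃ ζ ∈ ZD D, w = y ^ i * x ^ j * ζ := by
    intro w hw
    obtain ⟨i, j, hij⟩ := hspan x hxD hxy w hw
    exact ⟨i, j, _, hij, by rw [mul_inv_cancel_left]⟩
  have hgen' : ∀ w ∈ D, ∃ (i j : ℕ), ∃ ζ ∈ zpowers z, w = y ^ i * x ^ j * ζ := by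
    intro w hw
    obtain ⟨i, j, ζ, hζ, e⟩ := hgenZ w hw
    exact ⟨i, j, ζ, hZgen ζ hζ, e⟩
  have hnc : x * y ≠ y * x := by
    intro hc12
    exact hna (abelian_of_gen hyD hxD hgenZ hc12)
  have hu₀' : ∃ u ∈ U, ∀ ζ ∈ zpowers z, (u : MulAut G) x ≠ ζ * x := by
    obtain ⟨u, hu, hux⟩ := hxU
    exact ⟨u, hu, fun ζ hζ => hux ζ (hzpZ ζ hζ)⟩
  refine ⟨y, ⟨hZD hzZ, hyD, hxD, hUz, hgen', hUy, hUx, hnc, hu₀', hhz, ⟨1, one_mem _, ?_⟩, ?_, ?_,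
    hhU⟩⟩
  · rw [mul_one]; exact hhx
  · intro e
    apply ht3
    calc (t : ZMod p) ^ 3 = (t : ZMod p) * (t : ZMod p) ^ 2 := by ring
      _ = (t' : ZMod p) ^ 2 * (t : ZMod p) ^ 2 := by rw [e]
      _ = ((t : ZMod p) * (t' : ZMod p)) ^ 2 := by ring
      _ = 1 := by rw [htt', one_pow]
  · intro e'
    apply ht2
    calc (t : ZMod p) ^ 2 = (t : ZMod p) ^ 2 * (t' : ZMod p) ^ 2 := by rw [e', mul_one]
      _ = 1 := by rw [← mul_pow, htt', one_pow]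

end Cfsg.Agent.Lib.Helper31.R2
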