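import Mathlib
import Cfsg.Agent.S0128
import Cfsg.Agent.S3771

set_option autoImplicit false
set_option linter.unusedSectionVars false

/-!
Rank two resistant groups (S5289): the subgroup `Ω₁(S)` of a `p`-group of rank two, `p ≥ 5`.
-/

namespace Cfsg.Agent.Lib.Helper31.R2

open Subgroup

variable {Ω : Type*} [Group Ω]

/-- `Ω₁(S)`, inside the ambient group. -/
def omegaS (p : ℕ) (S : Subgroup Ω) : Subgroup Ω :=
  (Subgroup.closure {y : ↥S | y ^ p = 1}).map S.subtype

theorem omegaS_le (p : ℕ) (S : Subgroup Ω) : omegaS p S ≤ S := by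
  rintro _ ⟨y, -, rfl⟩
  exact y.2

theorem mem_omegaS_of_pow {p : ℕ} {S : Subgroup Ω} {x : Ω} (hx : x ∈ S) (hxp : x ^ p = 1) :
    x ∈ omegaS p S := by
  refine ⟨⟨x, hx⟩, Subgroup.subset_closure ?_, rfl⟩
  show (⟨x, hx⟩ : ↥S) ^ p = 1
  apply Subtype.ext
  exact hxp

theorem rank_transport {p : ℕ} {S : Subgroup Ω}
    (hrank3 : ∀ E : Subgroup Ω, E ≤ S → Cfsg.IsElementaryAbelian p E → Nat.card E ≤ p ^ 2)
    (E : Subgroup ↥S) (hE : Cfsg.IsElementaryAbelian p E) : Nat.card E ≤ p ^ 2 := by
  have h1 : Nat.card (E.map S.subtype) = Nat.card E :=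
    Subgroup.card_map_of_injective (Subgroup.subtype_injective _)
  rw [← h1]
  apply hrank3
  · rintro _ ⟨y, -, rfl⟩
    exact y.2
  · obtain ⟨hc, he⟩ := hE
    refine ⟨?_, ?_⟩
    · haveI := hc
      exact Subgroup.map_isMulCommutative E S.subtype
    · rintro _ ⟨y, hy, rfl⟩
      have := he y hy
      have h2 := congrArg Subtype.val this
      simpa using h2

theorem omegaS_pow {p : ℕ} [Fact p.Prime] {S : Subgroup Ω} [Finite S] (hp : 3 < p)
    (hS : IsPGroup p S)
    (hrank3 : ∀ E : Subgroup Ω, E ≤ S → Cfsg.IsElementaryAbelian p E → Nat.card E ≤ p ^ 2)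
    (x : Ω) (hx : x ∈ omegaS p S) : x ^ p = 1 := by
  obtain ⟨y, hy, rfl⟩ := hx
  have := Cfsg.Agent.S0128.result hp hS (rank_transport hrank3) y hy
  have h2 := congrArg Subtype.val this
  simpa using h2

theorem omegaS_card_le {p : ℕ} [Fact p.Prime] {S : Subgroup Ω} [Finite S] (hp : 3 < p)
    (hS : IsPGroup p S)
    (hrank3 : ∀ E : Subgroup Ω, E ≤ S → Cfsg.IsElementaryAbelian p E → Nat.card E ≤ p ^ 2) :
    Nat.card (omegaS p S) ≤ p ^ 3 := by
  have hfin : Finite (omegaS p S) :=
    Finite.of_injective _ (Subgroup.inclusion_injective (omegaS_le p S))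
  have hP : IsPGroup p (omegaS p S) :=
    hS.of_injective (Subgroup.inclusion (omegaS_le p S)) (Subgroup.inclusion_injective _)
  apply Cfsg.Agent.S3771.result hP
  · intro A hc he
    have h1 : Nat.card (A.map (omegaS p S).subtype) = Nat.card A :=
      Subgroup.card_map_of_injective (Subgroup.subtype_injective _)
    rw [← h1]
    apply hrank3
    · rintro _ ⟨y, -, rfl⟩
      exact omegaS_le p S y.2
    · refine ⟨?_, ?_⟩
      · haveI := hc
        exact Subgroup.map_isMulCommutative A (omegaS p S).subtype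
      · rintro _ ⟨y, hy, rfl⟩
        have := he y hy
        have h2 := congrArg Subtype.val this
        simpa using h2
  · intro x
    apply Subtype.ext
    have := omegaS_pow hp hS hrank3 x x.2
    simpa using this

end Cfsg.Agent.Lib.Helper31.R2
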