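import Mathlib
import Cfsg.Agent.Lib.Helper31.R2Local3
import Cfsg.Agent.Lib.Helper31.R2Amb
import Cfsg.Agent.Lib.Helper31.R2Omega
import Cfsg.Agent.Lib.Helper87.ExtendAut
import Cfsg.Agent.Lib.Helper87.GroupFusion
import Cfsg.Agent.Lib.Helper88.EssOut

set_option autoImplicit false
set_option linter.unusedSectionVars false

/-!
Rank two resistant groups (S5289): the fusion-system level, case `Ω₁(S) ≤ P` of order `p³`.
-/

namespace Cfsg.Agent.Lib.Helper31.R2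

open Cfsg Cfsg.FusionSystem Cfsg.Agent.Lib.Helper87 Subgroup

variable {Ω : Type*} [Group Ω] {S : Subgroup Ω}

/-- a torus element normalizing `Aut_S(P)` extends to `N_S(P)`, mapping it into itself. -/
theorem extend_aut [Finite S] {p : ℕ} [Fact p.Prime] (hS : IsPGroup p S) (F : FusionSystem S)
    (hF : F.IsSaturated p) {P : Subgroup Ω} (hfn : F.IsFullyNormalized P)
    (U : Sylow p (F.autGroup P))
    (hUeq : (U : Subgroup (F.autGroup P)) = (autInducedBy S P).subgroupOf (F.autGroup P))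
    (h : F.autGroup P) (hhU : ∀ u ∈ (U : Subgroup (F.autGroup P)), h * u * h⁻¹ ∈ U) :
    ∃ ψ : ↥(normalizerIn S P) →* Ω, ψ ∈ F.Hom (normalizerIn S P) ∧
      (∀ n, ψ n ∈ normalizerIn S P) ∧
      ∀ (y : P) (hy : (y : Ω) ∈ normalizerIn S P), ψ ⟨y, hy⟩ = ((h : MulAut P) y : P) := by
  have hPS : P ≤ S := hfn.1
  have hfinP : Finite P := finite_of_le hPS
  have hN : ∀ c ∈ autInducedBy S P,
      (h : MulAut P) * c * (h : MulAut P)⁻¹ ∈ autInducedBy S P := by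
    intro c hc
    have hcK : c ∈ F.autGroup P := autInducedBy_le_autGroup F hPS hc
    have hcU : (⟨c, hcK⟩ : F.autGroup P) ∈ (U : Subgroup (F.autGroup P)) := by
      rw [hUeq, mem_subgroupOf]
      exact hc
    have h2 : h * ⟨c, hcK⟩ * h⁻¹ ∈ (U : Subgroup (F.autGroup P)) := hhU _ hcU
    rw [hUeq, mem_subgroupOf] at h2
    exact h2
  obtain ⟨ψ, hψ, hψe⟩ := extend_of_normalizes hS F hF hfn h.2 hN
  refine ⟨ψ, hψ, ?_, hψe⟩
  intro n
  refine ⟨hom_mem_S F hψ n, ?_⟩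
  apply Cfsg.Agent.Lib.Helper88.mem_normalizer_of_conj_mem_finite
  intro x hx
  have hPN : P ≤ normalizerIn S P := le_normalizerIn hPS
  obtain ⟨x', hx'⟩ : ∃ x' : P, (h : MulAut P) x' = ⟨x, hx⟩ :=
    ⟨(h : MulAut P)⁻¹ ⟨x, hx⟩, MulAut.apply_inv_self _ _ _⟩
  have e1 : ψ ⟨x', hPN x'.2⟩ = x := by rw [hψe x' _, hx']
  have hnx : (n : Ω) * x' * (n : Ω)⁻¹ ∈ P := (Subgroup.mem_normalizer_iff.mp n.2.2 _).mp x'.2
  have e2 : ψ n * x * (ψ n)⁻¹ = ψ ⟨(n : Ω) * x' * (n : Ω)⁻¹, hPN hnx⟩ := by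
    rw [← e1, ← map_inv, ← map_mul, ← map_mul]
    rfl
  rw [e2, hψe ⟨_, hnx⟩ _]
  exact SetLike.coe_mem _

/-- the final contradiction from group-level data on a fully normalized subgroup. -/
theorem fusion_lemmaB [Finite S] {p : ℕ} [Fact p.Prime] (hp2 : p ≠ 2) (hS : IsPGroup p S)
    (F : FusionSystem S) (hF : F.IsSaturated p) {P : Subgroup Ω} (hfn : F.IsFullyNormalized P)
    (U : Sylow p (F.autGroup P))
    (hUeq : (U : Subgroup (F.autGroup P)) = (autInducedBy S P).subgroupOf (F.autGroup P))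
    (D : Subgroup ↥P) (hD : ∀ x : ↥P, x ∈ D ↔ x ^ p = 1)
    (hNP : ∀ w ∈ normalizerIn S P, w ^ p = 1 → w ∈ P)
    {h : F.autGroup P} {z y x : ↥P} {κ μ : ℕ}
    (hdata : GData p (F.autGroup P) (U : Subgroup (F.autGroup P)) D h z y x κ μ) : False := by
  have hPS : P ≤ S := hfn.1
  have hPN : P ≤ normalizerIn S P := le_normalizerIn hPS
  have hNS : normalizerIn S P ≤ S := normalizerIn_le S P
  have hfinN : Finite (normalizerIn S P) := finite_of_le hNS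
  have hNp : IsPGroup p (normalizerIn S P) :=
    hS.of_injective (Subgroup.inclusion hNS) (Subgroup.inclusion_injective _)
  obtain ⟨ψ, hψ, hψN, hψe⟩ := extend_aut hS F hF hfn U hUeq h hdata.hhU
  have hconjK : ∀ g (hg : g ∈ normalizerIn S P), conjAut P g hg.2 ∈ F.autGroup P :=
    fun g hg => autInducedBy_le_autGroup F hPS (conjAut_mem_autInducedBy hg.1 hg.2)
  have hconjU : ∀ g (hg : g ∈ normalizerIn S P),
      (⟨conjAut P g hg.2, hconjK g hg⟩ : F.autGroup P) ∈ (U : Subgroup (F.autGroup P)) := by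
    intro g hg
    rw [hUeq, mem_subgroupOf]
    exact conjAut_mem_autInducedBy hg.1 hg.2
  have hUconj : ∀ u ∈ (U : Subgroup (F.autGroup P)), ∃ g ∈ normalizerIn S P,
      ∀ w : P, (((u : MulAut P) w : P) : Ω) = g * w * g⁻¹ := by
    intro u hu
    rw [hUeq, mem_subgroupOf] at hu
    obtain ⟨g, hgS, hg⟩ := (mem_autInducedBy_iff S P _).mp hu
    exact ⟨g, ⟨hgS, mem_normalizer_of_aut P _ g hg⟩, hg⟩
  obtain ⟨u₀, hu₀U, hu₀⟩ := hdata.hu₀
  obtain ⟨g₀, hg₀N, hg₀⟩ := hUconj u₀ hu₀U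
  obtain ⟨Os, hOs⟩ : ∃ Os : Subgroup Ω, Os = D.map P.subtype := ⟨_, rfl⟩
  have hmemOs : ∀ w : ↥P, w ∈ D → (w : Ω) ∈ Os := fun w hw => hOs ▸ ⟨w, hw, rfl⟩
  have hON : Os ≤ normalizerIn S P := by
    rw [hOs]
    rintro _ ⟨w, -, rfl⟩
    exact hPN w.2
  refine lemmaB_amb hp2 (normalizerIn S P) hNp Os hON ?_ ?_ ψ (F.injective_of_mem hψ) hψN
    (z : Ω) (y : Ω) (x : Ω) g₀ (hmemOs z hdata.hzD) (hmemOs y hdata.hyD) (hmemOs x hdata.hxD)
    hg₀N ?_ ?_ ?_ ?_ ?_ ?_ κ μ ?_ ?_ hdata.h1 hdata.h2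
  · intro w hw hwp
    have hwP := hNP w hw hwp
    rw [hOs]
    exact ⟨⟨w, hwP⟩, (hD _).mpr (Subtype.ext hwp), rfl⟩
  · rw [hOs]
    rintro _ ⟨w, hw, rfl⟩
    have := congrArg Subtype.val ((hD w).mp hw)
    simpa using this
  · intro g hg
    have h1 := hdata.hUz _ (hconjU g hg)
    have h2 : g * (z : Ω) * g⁻¹ = (z : Ω) := congrArg Subtype.val h1
    exact mul_inv_eq_iff_eq_mul.mp h2
  · rw [hOs]
    rintro _ ⟨w, hw, rfl⟩
    obtain ⟨i, j, ζ, hζ, e⟩ := hdata.hgen w hw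
    refine ⟨i, j, (ζ : Ω), mem_zpowers_coe P hζ, ?_⟩
    rw [e]
    simp
  · intro g hg
    obtain ⟨ζ, hζ, e⟩ := hdata.hUy _ (hconjU g hg)
    refine ⟨(ζ : Ω), mem_zpowers_coe P hζ, ?_⟩
    exact congrArg Subtype.val e
  · intro g hg
    obtain ⟨i, ζ, hζ, e⟩ := hdata.hUx _ (hconjU g hg)
    refine ⟨i, (ζ : Ω), mem_zpowers_coe P hζ, ?_⟩
    have := congrArg Subtype.val e
    simp only [Subgroup.coe_mul, Subgroup.coe_pow] at this
    exact this
  · intro e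
    exact hdata.hnc (Subtype.ext e)
  · intro ζ hζ e
    obtain ⟨hζP, hζ'⟩ := mem_zpowers_sub P z.2 hζ
    apply hu₀ ⟨ζ, hζP⟩ hζ'
    apply Subtype.ext
    rw [hg₀ x]
    exact e
  · rw [hψe z _, hdata.hhz]
    simp
  · obtain ⟨ζ, hζ, e⟩ := hdata.hhx
    refine ⟨(ζ : Ω), mem_zpowers_coe P hζ, ?_⟩
    rw [hψe x _, e]
    simp

/-- `Aut_S(P)` is normal in `Aut_F(P)` when `P` contains `Ω₁(S)`, of order `p³`. -/
theorem thmB [Finite S] {p : ℕ} [Fact p.Prime] (hp5 : 5 ≤ p) (hS : IsPGroup p S)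
    (F : FusionSystem S) (hF : F.IsSaturated p)
    (hexp : ∀ x ∈ omegaS p S, x ^ p = 1) (hcard : Nat.card (omegaS p S) = p ^ 3)
    (hna : ¬ ∀ a ∈ omegaS p S, ∀ b ∈ omegaS p S, a * b = b * a)
    {P : Subgroup Ω} (hfn : F.IsFullyNormalized P) (hΩP : omegaS p S ≤ P)
    (U : Sylow p (F.autGroup P))
    (hUeq : (U : Subgroup (F.autGroup P)) = (autInducedBy S P).subgroupOf (F.autGroup P)) :
    (U : Subgroup (F.autGroup P)).Normal := by
  by_contra hU
  have hPS : P ≤ S := hfn.1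
  have hfinP : Finite P := finite_of_le hPS
  have hPp : IsPGroup p P :=
    hS.of_injective (Subgroup.inclusion hPS) (Subgroup.inclusion_injective _)
  obtain ⟨D, hDdef⟩ : ∃ D : Subgroup ↥P, D = (omegaS p S).subgroupOf P := ⟨_, rfl⟩
  have hD : ∀ x : ↥P, x ∈ D ↔ x ^ p = 1 := by
    intro x
    rw [hDdef, mem_subgroupOf]
    constructor
    · intro hx
      apply Subtype.ext
      have := hexp _ hx
      simpa using this
    · intro hx
      apply mem_omegaS_of_pow (hPS x.2)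
      have := congrArg Subtype.val hx
      simpa using this
  have hcardD : Nat.card D = p ^ 3 := by
    rw [← hcard, hDdef]
    exact Nat.card_congr (Subgroup.subgroupOfEquivOfLe hΩP).toEquiv
  have hnaD : ¬ ∀ a b : ↥D, a * b = b * a := by
    intro hc
    apply hna
    intro a ha b hb
    have haD : (⟨a, hΩP ha⟩ : ↥P) ∈ D := by rw [hDdef, mem_subgroupOf]; exact ha
    have hbD : (⟨b, hΩP hb⟩ : ↥P) ∈ D := by rw [hDdef, mem_subgroupOf]; exact hb
    have := hc ⟨_, haD⟩ ⟨_, hbD⟩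
    have := congrArg (fun w : ↥D => ((w : ↥P) : Ω)) this
    simpa using this
  have hp2 : p ≠ 2 := by omega
  obtain ⟨h, z, y, x, μ, hdata⟩ := locB2 hp5 hPp hD hcardD hnaD U hU
  exact fusion_lemmaB hp2 hS F hF hfn U hUeq D hD
    (fun w hw hwp => hΩP (mem_omegaS_of_pow (normalizerIn_le S P hw) hwp)) hdata

end Cfsg.Agent.Lib.Helper31.R2
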