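import Mathlib
import Cfsg.Agent.Lib.Helper31.R2Fus
import Cfsg.Agent.Lib.Helper31.R2A1

set_option autoImplicit false
set_option linter.unusedSectionVars false

/-!
Rank two resistant groups (S5289): the fusion-system level, case `Ω₁(P)` of order `p²`.
-/

namespace Cfsg.Agent.Lib.Helper31.R2

open Cfsg Cfsg.FusionSystem Cfsg.Agent.Lib.Helper87 Subgroup

variable {Ω : Type*} [Group Ω] {S : Subgroup Ω}

/-- sub-case: `N_S(P) = Ω₁(S)` of order `p³`. -/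
theorem thmA2 [Finite S] {p : ℕ} [Fact p.Prime] (hp5 : 5 ≤ p) (hS : IsPGroup p S)
    (F : FusionSystem S) (hF : F.IsSaturated p)
    (hnotE : ¬ (Nat.card S = p ^ 3 ∧ Monoid.exponent ↥S = p))
    {P N : Subgroup Ω} (hPS : P ≤ S) (hPN : P ≤ N) (hcenP : centralizerIn S P ≤ P)
    (hNnorm : normalizerIn S P = N) (hNomega : omegaS p S = N)
    (hNexp : ∀ x ∈ N, x ^ p = 1) (hNcard : Nat.card N = p ^ 3)
    (ψ : ↥N →* Ω) (hψ : ψ ∈ F.Hom N) (hψN : ∀ n, ψ n ∈ N)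
    (a₁ a₂ : Ω) (t t' : ℕ) (ha₁ : a₁ ∈ P) (ha₂ : a₂ ∈ P) (ha₁1 : a₁ ≠ 1)
    (hgenP : ∀ w ∈ P, ∃ i j : ℕ, w = a₁ ^ i * a₂ ^ j)
    (hN1 : ∀ n ∈ N, n * a₁ * n⁻¹ = a₁)
    (hna : ∃ g ∈ N, g * a₂ * g⁻¹ ≠ a₂)
    (hψ1 : ψ ⟨a₁, hPN ha₁⟩ = a₁ ^ t) (hψ2 : ψ ⟨a₂, hPN ha₂⟩ = a₂ ^ t')
    (htt' : (t * t' : ZMod p) = 1) (ht2 : (t : ZMod p) ^ 2 ≠ 1) (ht3 : (t : ZMod p) ^ 3 ≠ 1) :
    False := by
  classical
  have hp : p.Prime := Fact.out
  have hp2 : p ≠ 2 := by omega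
  have hNS : N ≤ S := hNnorm ▸ normalizerIn_le S P
  have hfinN : Finite N := finite_of_le hNS
  have hfinP : Finite P := finite_of_le hPS
  have hNp : IsPGroup p N :=
    hS.of_injective (Subgroup.inclusion hNS) (Subgroup.inclusion_injective _)
  -- `N` is fully normalized
  have hfnN : F.IsFullyNormalized N := by
    refine ⟨hNS, fun Q hQ => ?_⟩
    have hQN : Q ≤ N := by
      obtain ⟨φ, hφ, hr⟩ := hQ
      rw [← hr]
      rintro _ ⟨w, rfl⟩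
      have hmem : ∀ v : Ω, v ∈ omegaS p S → v ∈ N := fun v hv => hNomega ▸ hv
      apply hmem
      apply mem_omegaS_of_pow (hom_mem_S F hφ w)
      rw [← map_pow]
      have : w ^ p = 1 := by
        apply Subtype.ext
        simpa using hNexp w w.2
      rw [this, map_one]
    have hcardQ : Nat.card N = Nat.card Q := card_eq_of_isConj F hQ
    have : Q = N := Subgroup.eq_of_le_of_card_ge hQN hcardQ.le
    rw [this]
  obtain ⟨-, U', hU'eq⟩ := (fc_fa_of_fullyNormalized hS F hF hfnN).2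
  have hnaΩ : ¬ ∀ a ∈ omegaS p S, ∀ b ∈ omegaS p S, a * b = b * a := by
    rw [hNomega]
    intro hc
    obtain ⟨g, hg, hne⟩ := hna
    apply hne
    rw [hc g hg a₂ (hPN ha₂), mul_inv_cancel_right]
  have hU'n : (U' : Subgroup (F.autGroup N)).Normal :=
    thmB hp5 hS F hF (by rw [hNomega]; exact hNexp) (by rw [hNomega]; exact hNcard) hnaΩ hfnN
      hNomega.le U' hU'eq
  -- the automorphism of `N`
  obtain ⟨ψ', hψ'⟩ : ∃ ψ' : ↥N →* ↥N, ψ' = ψ.codRestrict N hψN := ⟨_, rfl⟩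
  have hψ'coe : ∀ n : ↥N, ((ψ' n : ↥N) : Ω) = ψ n := by
    intro n
    rw [hψ']
    rfl
  have hinj : Function.Injective ψ' := fun a b hab =>
    F.injective_of_mem hψ (by rw [← hψ'coe, ← hψ'coe, hab])
  have hbij : Function.Bijective ψ' := Finite.injective_iff_bijective.mp hinj
  obtain ⟨ν, hν⟩ : ∃ ν : MulAut ↥N, ν = MulEquiv.ofBijective ψ' hbij := ⟨_, rfl⟩
  have hνcoe : ∀ n : ↥N, ((ν n : ↥N) : Ω) = ψ n := by
    intro n
    rw [hν]
    exact hψ'coe n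
  have hνK : ν ∈ F.autGroup N := by
    rw [mem_autGroup_iff F hNS ν]
    have e : N.subtype.comp ν.toMonoidHom = ψ := by
      ext n
      exact hνcoe n
    rw [e]
    exact hψ
  -- group-level data
  have hD' : ∀ x : ↥N, x ∈ (⊤ : Subgroup ↥N) ↔ x ^ p = 1 := by
    intro x
    refine ⟨fun _ => ?_, fun _ => mem_top _⟩
    apply Subtype.ext
    simpa using hNexp x x.2
  have hcardD' : Nat.card (⊤ : Subgroup ↥N) = p ^ 3 := by
    rw [Subgroup.card_top]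
    exact hNcard
  have hnaD' : ¬ ∀ a b : ↥(⊤ : Subgroup ↥N), a * b = b * a := by
    intro hc
    obtain ⟨g, hg, hne⟩ := hna
    apply hne
    have := hc ⟨⟨g, hg⟩, mem_top _⟩ ⟨⟨a₂, hPN ha₂⟩, mem_top _⟩
    have h2 : g * a₂ = a₂ * g := congrArg (fun w : ↥(⊤ : Subgroup ↥N) => ((w : ↥N) : Ω)) this
    rw [h2, mul_inv_cancel_right]
  have hzZ : (⟨a₁, hPN ha₁⟩ : ↥N) ∈ ZD (⊤ : Subgroup ↥N) := by
    rw [mem_ZD]
    refine ⟨mem_top _, fun y _ => ?_⟩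
    apply Subtype.ext
    exact mul_inv_eq_iff_eq_mul.mp (hN1 y y.2)
  have hz1 : (⟨a₁, hPN ha₁⟩ : ↥N) ≠ 1 := fun h => ha₁1 (congrArg Subtype.val h)
  -- an element of `N_S(N)` outside `N`
  have hNneS : N ≠ S := by
    intro h
    apply hnotE
    refine ⟨by rw [← h]; exact hNcard, ?_⟩
    have hdvd : Monoid.exponent ↥S ∣ p := by
      apply Monoid.exponent_dvd_of_forall_pow_eq_one
      intro x
      apply Subtype.ext
      have hx : (x : Ω) ∈ N := by rw [h]; exact x.2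
      simpa using hNexp x hx
    rcases (Nat.dvd_prime hp).mp hdvd with h1 | h1
    · exfalso
      have hsub : Subsingleton ↥S := Monoid.exp_eq_one_iff.mp h1
      have hc1 : Nat.card ↥S = 1 := Nat.card_eq_one_iff_unique.mpr ⟨hsub, ⟨1⟩⟩
      have hc3 : Nat.card ↥S = p ^ 3 := by rw [← h]; exact hNcard
      rw [hc1] at hc3
      have : 1 < p ^ 3 := Nat.one_lt_pow (by norm_num) hp.one_lt
      omega
    · exact h1
  have hlt := card_lt_card_normalizerIn hS hNS hNneS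
  have hTS : normalizerIn S N ≤ S := normalizerIn_le S N
  have hfinT : Finite (normalizerIn S N) := finite_of_le hTS
  obtain ⟨g₀, hg₀T, hg₀N⟩ : ∃ g₀ ∈ normalizerIn S N, g₀ ∉ N := by
    by_contra hcon
    push Not at hcon
    have hle : normalizerIn S N ≤ N := fun g hg => hcon g hg
    have := Subgroup.card_le_of_le hle
    omega
  have hcentralP : ∀ ζ ∈ N, (∀ n ∈ N, n * ζ = ζ * n) → ζ ∈ P := by
    intro ζ hζ hc
    apply hcenP
    refine ⟨hNS hζ, ?_⟩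
    show ζ ∈ Subgroup.centralizer (P : Set Ω)
    rw [Subgroup.mem_centralizer_iff]
    intro w hw
    exact hc w (hPN hw)
  have hconjK : conjAut N g₀ hg₀T.2 ∈ F.autGroup N :=
    autInducedBy_le_autGroup F hNS (conjAut_mem_autInducedBy hg₀T.1 hg₀T.2)
  have hu₀U : (⟨conjAut N g₀ hg₀T.2, hconjK⟩ : F.autGroup N) ∈ (U' : Subgroup (F.autGroup N)) := by
    rw [hU'eq, mem_subgroupOf]
    exact conjAut_mem_autInducedBy hg₀T.1 hg₀T.2
  have hg₀norm : ∀ n ∈ N, g₀ * n * g₀⁻¹ ∈ N := fun n hn =>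
    (Subgroup.mem_normalizer_iff.mp hg₀T.2 n).mp hn
  have hg₀norm' : ∀ n ∈ N, g₀⁻¹ * n * g₀ ∈ N := by
    intro n hn
    have := (Subgroup.mem_normalizer_iff.mp (inv_mem hg₀T.2) n).mp hn
    rwa [inv_inv] at this
  have hconj_central : ∀ ζ ∈ N, (∀ n ∈ N, n * ζ = ζ * n) →
      ∀ n ∈ N, n * (g₀ * ζ * g₀⁻¹) = (g₀ * ζ * g₀⁻¹) * n := by
    intro ζ _ hc n hn
    have h1 := hc _ (hg₀norm' n hn)
    calc n * (g₀ * ζ * g₀⁻¹) = g₀ * ((g₀⁻¹ * n * g₀) * ζ) * g₀⁻¹ := by group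
      _ = g₀ * (ζ * (g₀⁻¹ * n * g₀)) * g₀⁻¹ := by rw [h1]
      _ = (g₀ * ζ * g₀⁻¹) * n := by group
  have ha₁c : ∀ n ∈ N, n * a₁ = a₁ * n := fun n hn => mul_inv_eq_iff_eq_mul.mp (hN1 n hn)
  have hxU : ∃ u ∈ U', ∀ ζ ∈ ZD (⊤ : Subgroup ↥N),
      ((u : F.autGroup N) : MulAut ↥N) ⟨a₂, hPN ha₂⟩ ≠ ζ * ⟨a₂, hPN ha₂⟩ := by
    refine ⟨_, hu₀U, fun ζ hζ heq => hg₀N ?_⟩
    have heq' : g₀ * a₂ * g₀⁻¹ = (ζ : Ω) * a₂ := congrArg Subtype.val heq
    have hζc : ∀ n ∈ N, n * (ζ : Ω) = (ζ : Ω) * n := by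
      intro n hn
      have := (mem_ZD.mp hζ).2 ⟨n, hn⟩ (mem_top _)
      exact congrArg Subtype.val this
    have hζP : (ζ : Ω) ∈ P := hcentralP _ ζ.2 hζc
    have h1P : g₀ * a₁ * g₀⁻¹ ∈ P :=
      hcentralP _ (hg₀norm a₁ (hPN ha₁)) (hconj_central a₁ (hPN ha₁) ha₁c)
    have h2P : g₀ * a₂ * g₀⁻¹ ∈ P := by
      rw [heq']
      exact mul_mem hζP ha₂
    rw [← hNnorm]
    refine ⟨hg₀T.1, ?_⟩
    apply Cfsg.Agent.Lib.Helper88.mem_normalizer_of_conj_mem_finite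
    intro w hw
    obtain ⟨i, j, rfl⟩ := hgenP w hw
    have e : g₀ * (a₁ ^ i * a₂ ^ j) * g₀⁻¹ = (g₀ * a₁ * g₀⁻¹) ^ i * (g₀ * a₂ * g₀⁻¹) ^ j := by
      rw [conj_pow, conj_pow]
      group
    rw [e]
    exact mul_mem (pow_mem h1P i) (pow_mem h2P j)
  have hhz : ((⟨ν, hνK⟩ : F.autGroup N) : MulAut ↥N) ⟨a₁, hPN ha₁⟩ = (⟨a₁, hPN ha₁⟩ : ↥N) ^ t := by
    apply Subtype.ext
    rw [Subgroup.coe_pow]
    show ((ν ⟨a₁, hPN ha₁⟩ : ↥N) : Ω) = a₁ ^ t
    rw [hνcoe, hψ1]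
  have hhx : ((⟨ν, hνK⟩ : F.autGroup N) : MulAut ↥N) ⟨a₂, hPN ha₂⟩ = (⟨a₂, hPN ha₂⟩ : ↥N) ^ t' := by
    apply Subtype.ext
    rw [Subgroup.coe_pow]
    show ((ν ⟨a₂, hPN ha₂⟩ : ↥N) : Ω) = a₂ ^ t'
    rw [hνcoe, hψ2]
  have hhU' : ∀ u ∈ U', (⟨ν, hνK⟩ : F.autGroup N) * u * (⟨ν, hνK⟩ : F.autGroup N)⁻¹ ∈ U' :=
    fun u hu => hU'n.conj_mem u hu _
  obtain ⟨y, hdata⟩ := locA2 hD' hcardD' hnaD' U' ⟨ν, hνK⟩ ⟨a₁, hPN ha₁⟩ ⟨a₂, hPN ha₂⟩ t t' hzZ hz1
    (mem_top _) hxU hhz hhx htt' ht2 ht3 hhU'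
  exact fusion_lemmaB hp2 hS F hF hfnN U' hU'eq ⊤ hD'
    (fun w hw hwp => hNomega ▸ mem_omegaS_of_pow (normalizerIn_le S N hw) hwp) hdata

/-- `Aut_S(P)` is normal in `Aut_F(P)` when `Ω₁(P)` has order `p²`. -/
theorem thmA [Finite S] {p : ℕ} [Fact p.Prime] (hp5 : 5 ≤ p) (hS : IsPGroup p S)
    (F : FusionSystem S) (hF : F.IsSaturated p)
    (hcardΩ : Nat.card (omegaS p S) ≤ p ^ 3)
    (hnotE : ¬ (Nat.card S = p ^ 3 ∧ Monoid.exponent ↥S = p))
    {P : Subgroup Ω} (hfn : F.IsFullyNormalized P) (hcen : F.IsCentric P)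
    (hrad : F.IsRadical p P)
    (D : Subgroup ↥P) (hD : ∀ x : ↥P, x ∈ D ↔ x ^ p = 1) (hcardD : Nat.card D = p ^ 2)
    (U : Sylow p (F.autGroup P))
    (hUeq : (U : Subgroup (F.autGroup P)) = (autInducedBy S P).subgroupOf (F.autGroup P)) :
    (U : Subgroup (F.autGroup P)).Normal := by
  classical
  by_contra hU
  have hp : p.Prime := Fact.out
  have hp2 : p ≠ 2 := by omega
  have hPS : P ≤ S := hfn.1
  have hfinP : Finite P := finite_of_le hPS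
  have hPp : IsPGroup p P :=
    hS.of_injective (Subgroup.inclusion hPS) (Subgroup.inclusion_injective _)
  have hcenP : centralizerIn S P ≤ P := hcen.2 P (isConj_refl F hPS)
  have hInn : ∀ g : ↥P, MulAut.conj g ∈ F.autGroup P := fun g =>
    autInducedBy_le_autGroup F hPS (inn_le_autInducedBy hPS ⟨g, rfl⟩)
  have hradK : ∀ N : Subgroup (F.autGroup P), N.Normal → IsPGroup p N → ∀ n ∈ N,
      (n : MulAut P) ∈ Cfsg.Inn P := by
    intro N hN hNp n hn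
    have h1 : n ∈ pCore p (F.autGroup P) := le_pCore hN hNp hn
    rw [← hrad.2]
    exact ⟨n, h1, rfl⟩
  obtain ⟨hPexp, hcardP, hPab, h, x₁, x₂, t, t', htt', ht2, ht3, hx₁1, hx₂, hUu, hh1, hh2, hhU,
    hgen⟩ := locA hp5 hPp hD hcardD hInn hradK U hU
  obtain ⟨ψ, hψ, hψN, hψe⟩ := extend_aut hS F hF hfn U hUeq h hhU
  have hPN : P ≤ normalizerIn S P := le_normalizerIn hPS
  have hNS : normalizerIn S P ≤ S := normalizerIn_le S P
  have hfinN : Finite (normalizerIn S P) := finite_of_le hNS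
  have hNp : IsPGroup p (normalizerIn S P) :=
    hS.of_injective (Subgroup.inclusion hNS) (Subgroup.inclusion_injective _)
  have hconjK : ∀ g (hg : g ∈ normalizerIn S P), conjAut P g hg.2 ∈ F.autGroup P :=
    fun g hg => autInducedBy_le_autGroup F hPS (conjAut_mem_autInducedBy hg.1 hg.2)
  have hconjU : ∀ g (hg : g ∈ normalizerIn S P),
      (⟨conjAut P g hg.2, hconjK g hg⟩ : F.autGroup P) ∈ (U : Subgroup (F.autGroup P)) := by
    intro g hg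
    rw [hUeq, mem_subgroupOf]
    exact conjAut_mem_autInducedBy hg.1 hg.2
  have hPabΩ : ∀ a ∈ P, ∀ b ∈ P, a * b = b * a := fun a ha b hb =>
    congrArg Subtype.val (hPab ⟨a, ha⟩ ⟨b, hb⟩)
  have hPexpΩ : ∀ a ∈ P, a ^ p = 1 := by
    intro a ha
    have := congrArg Subtype.val (hPexp ⟨a, ha⟩)
    simpa using this
  have hN1 : ∀ n ∈ normalizerIn S P, n * (x₁ : Ω) * n⁻¹ = (x₁ : Ω) := by
    intro n hn
    exact congrArg Subtype.val (hUu _ (hconjU n hn)).1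
  have hN2 : ∀ n ∈ normalizerIn S P, ∃ k : ℕ, n * (x₂ : Ω) * n⁻¹ = (x₁ : Ω) ^ k * (x₂ : Ω) := by
    intro n hn
    obtain ⟨k, hk⟩ := (hUu _ (hconjU n hn)).2 x₂
    refine ⟨k, ?_⟩
    have h1 : n * (x₂ : Ω) * n⁻¹ = (x₂ : Ω) * (x₁ : Ω) ^ k := by
      have := congrArg Subtype.val hk
      simp only [Subgroup.coe_mul, Subgroup.coe_pow] at this
      exact this
    rw [h1]
    exact hPabΩ _ x₂.2 _ (pow_mem x₁.2 k)
  have hgenP : ∀ w ∈ P, ∃ i j : ℕ, w = (x₁ : Ω) ^ i * (x₂ : Ω) ^ j := by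
    intro w hw
    obtain ⟨i, j, e⟩ := hgen ⟨w, hw⟩
    refine ⟨i, j, ?_⟩
    have := congrArg Subtype.val e
    simpa using this
  have hcenN : ∀ n ∈ normalizerIn S P, n * (x₂ : Ω) * n⁻¹ = (x₂ : Ω) → n ∈ P := by
    intro n hn h2
    apply hcenP
    refine ⟨hNS hn, ?_⟩
    show n ∈ Subgroup.centralizer (P : Set Ω)
    rw [Subgroup.mem_centralizer_iff]
    intro w hw
    obtain ⟨i, j, rfl⟩ := hgenP w hw
    have c1 : Commute n (x₁ : Ω) := mul_inv_eq_iff_eq_mul.mp (hN1 n hn)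
    have c2 : Commute n (x₂ : Ω) := mul_inv_eq_iff_eq_mul.mp h2
    exact ((c1.pow_right i).mul_right (c2.pow_right j)).eq.symm
  have hψ1 : ψ ⟨(x₁ : Ω), hPN x₁.2⟩ = (x₁ : Ω) ^ t := by
    rw [hψe x₁ _, hh1]
    simp
  have hψ2 : ψ ⟨(x₂ : Ω), hPN x₂.2⟩ = (x₂ : Ω) ^ t' := by
    rw [hψe x₂ _, hh2]
    simp
  have ha₁1 : (x₁ : Ω) ≠ 1 := fun h => hx₁1 (Subtype.ext h)
  by_cases hA1 : ∃ g ∈ normalizerIn S P, g ^ p ≠ 1
  · obtain ⟨g, hgN, hgp⟩ := hA1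
    apply ht2
    have key := lemmaA1 (G := ↥(normalizerIn S P)) hp2 (P.subgroupOf (normalizerIn S P))
      (ψ.codRestrict (normalizerIn S P) hψN) ⟨(x₁ : Ω), hPN x₁.2⟩ ⟨(x₂ : Ω), hPN x₂.2⟩ ⟨g, hgN⟩ t t'
      (mem_subgroupOf.mpr x₁.2) (mem_subgroupOf.mpr x₂.2)
      (fun h => ha₁1 (congrArg Subtype.val h))
      (fun a ha b hb => Subtype.ext (hPabΩ _ (mem_subgroupOf.mp ha) _ (mem_subgroupOf.mp hb)))
      (fun a ha => Subtype.ext (by simpa using hPexpΩ _ (mem_subgroupOf.mp ha)))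
      (fun w hw => by
        obtain ⟨i, j, e⟩ := hgenP _ (mem_subgroupOf.mp hw)
        exact ⟨i, j, Subtype.ext (by simpa using e)⟩)
      (fun n => Subtype.ext (by simpa using hN1 n n.2))
      (fun n => by
        obtain ⟨k, hk⟩ := hN2 n n.2
        exact ⟨k, Subtype.ext (by simpa using hk)⟩)
      (fun n hn => mem_subgroupOf.mpr (hcenN n n.2 (by simpa using congrArg Subtype.val hn)))
      (fun h => hgp (by simpa using congrArg Subtype.val h))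
      (Subtype.ext (by simpa using hψ1)) (Subtype.ext (by simpa using hψ2)) htt'
    rw [key, one_pow]
  · push Not at hA1
    -- an element of the normalizer outside `P`
    have hex : ∃ g ∈ normalizerIn S P, g ∉ P := by
      by_contra hcon
      push Not at hcon
      apply hU
      have hone : ∀ n ∈ (U : Subgroup (F.autGroup P)), n = 1 := by
        intro n hn
        rw [hUeq, mem_subgroupOf] at hn
        obtain ⟨g', hg'S, hg'⟩ := (mem_autInducedBy_iff S P _).mp hn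
        have hg'N : g' ∈ normalizerIn S P := ⟨hg'S, mem_normalizer_of_aut P _ g' hg'⟩
        have hg'P := hcon g' hg'N
        apply Subtype.ext
        ext w
        show (((n : MulAut P) w : P) : Ω) = (w : Ω)
        rw [hg' w, hPabΩ g' hg'P w w.2, mul_inv_cancel_right]
      constructor
      intro n hn g
      rw [hone n hn, mul_one, mul_inv_cancel]
      exact one_mem _
    obtain ⟨g, hgN, hgP⟩ := hex
    have hna : ∃ g ∈ normalizerIn S P, g * (x₂ : Ω) * g⁻¹ ≠ (x₂ : Ω) :=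
      ⟨g, hgN, fun h2 => hgP (hcenN g hgN h2)⟩
    have hNΩ : normalizerIn S P ≤ omegaS p S := fun n hn =>
      mem_omegaS_of_pow (hNS hn) (hA1 n hn)
    have hfinΩ : Finite (omegaS p S) := finite_of_le (omegaS_le p S)
    have hlt : Nat.card P < Nat.card (normalizerIn S P) := by
      by_contra hcon
      push Not at hcon
      have : P = normalizerIn S P := Subgroup.eq_of_le_of_card_ge hPN hcon
      apply hgP
      rw [this]
      exact hgN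
    obtain ⟨k, hk⟩ := hNp.exists_card_eq
    have h3 : p ^ k ≤ p ^ 3 := by
      rw [← hk]
      exact (Subgroup.card_le_of_le hNΩ).trans hcardΩ
    have h2 : p ^ 2 < p ^ k := by
      rw [← hk, ← hcardP]
      exact hlt
    have hk3 : k = 3 := by
      have e1 := (Nat.pow_le_pow_iff_right hp.one_lt).mp h3
      have e2 := (Nat.pow_lt_pow_iff_right hp.one_lt).mp h2
      omega
    have hNcard : Nat.card (normalizerIn S P) = p ^ 3 := by rw [hk, hk3]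
    have hNomega : omegaS p S = normalizerIn S P :=
      (Subgroup.eq_of_le_of_card_ge hNΩ (by rw [hNcard]; exact hcardΩ)).symm
    exact thmA2 hp5 hS F hF hnotE hPS hPN hcenP rfl hNomega hA1 hNcard ψ hψ hψN (x₁ : Ω) (x₂ : Ω)
      t t' x₁.2 x₂.2 ha₁1 hgenP hN1 hna hψ1 hψ2 htt' ht2 ht3

end Cfsg.Agent.Lib.Helper31.R2
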