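import Cfsg.Agent.Lib.Helper65.SF.Defs
import Cfsg.Agent.Lib.Helper97.RUL3

/-! # SF-DS (helper31, for helper65's S2459 hive): `det A = A 0 0 * det (schurG A)` -/

set_option autoImplicit false

namespace Cfsg.Agent.Lib.Helper65.SF

open Matrix

variable {K : Type*} [Field K]

/-- (SF-DS) determinant of the Schur complement: `det A = A 0 0 * det (schurG A)`. -/
theorem det_schurG {m : ℕ} (A : Matrix (Fin (m + 1)) (Fin (m + 1)) K) (h00 : A 0 0 ≠ 0) :
    A.det = A 0 0 * (schurG A).det := by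
  set B : Matrix (Fin (m + 1)) (Fin (m + 1)) K := A.updateRow 0 ((A 0 0)⁻¹ • A 0) with hB
  have hB00 : B 0 0 = 1 := by
    simp [hB, Matrix.updateRow_self, inv_mul_cancel₀ h00]
  have hdetB : B.det = (A 0 0)⁻¹ * A.det := by
    rw [hB, Matrix.det_updateRow_smul, Matrix.updateRow_eq_self]
  have hS : Cfsg.Agent.Lib.Helper65.RU.schur B = schurG A := by
    ext i j
    have h1 : B i.succ j.succ = A i.succ j.succ := by
      rw [hB, Matrix.updateRow_ne (Fin.succ_ne_zero i)]
    have h2 : B i.succ 0 = A i.succ 0 := by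
      rw [hB, Matrix.updateRow_ne (Fin.succ_ne_zero i)]
    have h3 : B 0 j.succ = (A 0 0)⁻¹ * A 0 j.succ := by
      simp [hB, Matrix.updateRow_self]
    simp only [Cfsg.Agent.Lib.Helper65.RU.schur, schurG, h1, h2, h3]
    ring
  have := Cfsg.Agent.Lib.Helper65.RU.l3_det_schur B hB00
  rw [hS, hdetB] at this
  rw [this, ← mul_assoc, mul_inv_cancel₀ h00, one_mul]

end Cfsg.Agent.Lib.Helper65.SF
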