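import Cfsg.Agent.Lib.Helper80.St_SW1

/-! # Steinberg hive (helper6), leaf ST-SC4: multiplicativity along reduced products
(by helper31). -/

set_option autoImplicit false

namespace Cfsg.Agent.Lib.Helper6.St

open Cfsg.Agent.Lib.Helper6 Cfsg.Agent.Lib.Helper6.Exch

section W
variable {W : Type*} [Group W] {ι : Type*} {σ : ι → W}

/-- SC4: multiplicativity along reduced products -/
theorem mul_of_step (h : ExSys σ) (f : W → ℕ) (h1 : f 1 = 1)
    (hstep : ∀ (i : ι) (w : W), ell σ w < ell σ (σ i * w) → f (σ i * w) = f (σ i) * f w)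
    {a b : W} (hab : ell σ (a * b) = ell σ a + ell σ b) : f (a * b) = f a * f b := by
  suffices key : ∀ (n : ℕ) (a : W), ell σ a = n → ell σ (a * b) = ell σ a + ell σ b →
      f (a * b) = f a * f b from key _ a rfl hab
  intro n
  induction n with
  | zero =>
    intro a ha _
    have : a = 1 := (ell_eq_zero_iff h).mp ha
    rw [this, one_mul, h1, one_mul]
  | succ n ih =>
    intro a ha hab
    obtain ⟨L, hLred, hLw, hLlen⟩ := exists_isRed_eq h a
    cases L with
    | nil =>
      rw [List.length_nil, ha] at hLlen
      omega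
    | cons i L' =>
      have hL'red : IsRed σ L' := hLred.tail
      have hL'len : ell σ (wp σ L') = n := by
        rw [IsRed.ell_eq hL'red]
        rw [List.length_cons, ha] at hLlen
        omega
      have haw : a = σ i * wp σ L' := by rw [← hLw, wp_cons]
      have hle1 : ell σ (wp σ L' * b) ≤ ell σ (wp σ L') + ell σ b := ell_mul_le h _ _
      have hle2 : ell σ (σ i * (wp σ L' * b)) ≤ ell σ (σ i) + ell σ (wp σ L' * b) :=
        ell_mul_le h _ _
      rw [ell_gen h] at hle2
      have hab' : ell σ (σ i * (wp σ L' * b)) = (n + 1) + ell σ b := by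
        rw [← mul_assoc, ← haw, hab, ha]
      have hadd : ell σ (wp σ L' * b) = ell σ (wp σ L') + ell σ b := by omega
      have hlt : ell σ (wp σ L' * b) < ell σ (σ i * (wp σ L' * b)) := by omega
      have hlt2 : ell σ (wp σ L') < ell σ (σ i * wp σ L') := by
        rw [← haw, ha, hL'len]; omega
      have e1 : f (a * b) = f (σ i) * f (wp σ L' * b) := by
        rw [haw, mul_assoc]
        exact hstep i _ hlt
      have e2 : f a = f (σ i) * f (wp σ L') := by
        rw [haw]
        exact hstep i _ hlt2
      rw [e1, e2, ih (wp σ L') hL'len hadd, mul_assoc]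

end W

end Cfsg.Agent.Lib.Helper6.St
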