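import Cfsg.Agent.Lib.Helper31.TiDefs

/-! # The Tits group (S1074): the colouring check, cut into slices (helper31) -/

set_option autoImplicit false

namespace Cfsg.Agent.Lib.Helper31.Ti

/-- the slice `a` of the check `chk` -/
def chkA (R : List ℕ) (Ta Tb : Tab3) (a : ℕ) : Bool :=
  (Ta.getD a []).all fun l2 => l2.all fun b => b.all fun v => look Tb (rmul v R 0)

theorem chk_of_chkA (R : List ℕ) (Ta Tb : Tab3) (h : ∀ a < Ta.length, chkA R Ta Tb a = true) :
    chk R Ta Tb = true := by
  unfold chk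
  rw [List.all_eq_true]
  intro l1 hl1
  obtain ⟨a, ha, rfl⟩ := List.getElem_of_mem hl1
  have h1 := h a ha
  unfold chkA at h1
  rwa [List.getD_eq_getElem _ _ ha] at h1

end Cfsg.Agent.Lib.Helper31.Ti
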