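import Cfsg.Agent.Lib.Helper31.TiTab0
import Cfsg.Agent.Lib.Helper31.TiTab1
import Cfsg.Agent.Lib.Helper31.TiChkDefs

/-! # The Tits group (S1074): kernel check of the colouring, element C01 (word [28, 30]), colour 0 (helper31, generated) -/

set_option autoImplicit false

namespace Cfsg.Agent.Lib.Helper31.Ti

/-- the rows of the matrix of the word [28, 30] -/
def tiR_C01_0 : List ℕ := [1, 10485762, 2097156, 8, 16, 32, 64, 160, 288, 608, 1024, 2048, 4096, 10240, 16384, 38912, 65536, 147456, 344064, 524288, 1048576, 2097152, 4718592, 8388608, 18874368, 34078720, 67108864, 135790592, 268435456, 538968064, 1073741824, 2222981120, 4322230285, 8858370048, 17249075208, 34628173824, 70061654016, 137438953472, 274877906944, 687194767360, 1099511627776, 2611340115968, 4398046511104, 9895604649984, 23089744183296, 35184372088832, 70368744177664, 140737488355328, 351843720888320, 633318697598976, 1337006139375616, 2251799813685248]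

theorem tiChk_C01_0_0 : chkA tiR_C01_0 tiT0 tiT0 0 = true := by decide +kernel

theorem tiChk_C01_0_1 : chkA tiR_C01_0 tiT0 tiT0 1 = true := by decide +kernel

theorem tiChk_C01_0_2 : chkA tiR_C01_0 tiT0 tiT0 2 = true := by decide +kernel

theorem tiChk_C01_0_3 : chkA tiR_C01_0 tiT0 tiT0 3 = true := by decide +kernel

theorem tiChk_C01_0_4 : chkA tiR_C01_0 tiT0 tiT0 4 = true := by decide +kernel

theorem tiChk_C01_0_5 : chkA tiR_C01_0 tiT0 tiT0 5 = true := by decide +kernel

theorem tiChk_C01_0_6 : chkA tiR_C01_0 tiT0 tiT0 6 = true := by decide +kernel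

theorem tiChk_C01_0_7 : chkA tiR_C01_0 tiT0 tiT0 7 = true := by decide +kernel

theorem tiChk_C01_0_8 : chkA tiR_C01_0 tiT0 tiT0 8 = true := by decide +kernel

theorem tiChk_C01_0_9 : chkA tiR_C01_0 tiT0 tiT0 9 = true := by decide +kernel

theorem tiChk_C01_0_10 : chkA tiR_C01_0 tiT0 tiT0 10 = true := by decide +kernel

theorem tiChk_C01_0_11 : chkA tiR_C01_0 tiT0 tiT0 11 = true := by decide +kernel

theorem tiChk_C01_0_12 : chkA tiR_C01_0 tiT0 tiT0 12 = true := by decide +kernel

theorem tiChk_C01_0_13 : chkA tiR_C01_0 tiT0 tiT0 13 = true := by decide +kernel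

theorem tiChk_C01_0_14 : chkA tiR_C01_0 tiT0 tiT0 14 = true := by decide +kernel

theorem tiChk_C01_0_15 : chkA tiR_C01_0 tiT0 tiT0 15 = true := by decide +kernel

theorem tiChk_C01_0 : chk tiR_C01_0 tiT0 tiT0 = true := by
  apply chk_of_chkA
  intro a ha
  have hl : tiT0.length = 16 := rfl
  rw [hl] at ha
  interval_cases a
  · exact tiChk_C01_0_0
  · exact tiChk_C01_0_1
  · exact tiChk_C01_0_2
  · exact tiChk_C01_0_3
  · exact tiChk_C01_0_4
  · exact tiChk_C01_0_5
  · exact tiChk_C01_0_6
  · exact tiChk_C01_0_7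
  · exact tiChk_C01_0_8
  · exact tiChk_C01_0_9
  · exact tiChk_C01_0_10
  · exact tiChk_C01_0_11
  · exact tiChk_C01_0_12
  · exact tiChk_C01_0_13
  · exact tiChk_C01_0_14
  · exact tiChk_C01_0_15

end Cfsg.Agent.Lib.Helper31.Ti
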