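import Cfsg.Agent.Lib.Helper31.TiTab0
import Cfsg.Agent.Lib.Helper31.TiTab1
import Cfsg.Agent.Lib.Helper31.TiChkDefs

/-! # The Tits group (S1074): kernel check of the colouring, element C10 (word [27, 25, 28]), colour 0 (helper31, generated) -/

set_option autoImplicit false

namespace Cfsg.Agent.Lib.Helper31.Ti

/-- the rows of the matrix of the word [27, 25, 28] -/
def tiR_C10_0 : List ℕ := [1, 18874370, 67108868, 8, 16, 32, 96, 192, 352, 800, 1024, 2048, 6144, 14336, 16384, 43008, 81920, 212992, 409600, 524288, 1572864, 2097152, 5242880, 10485760, 27262976, 35127296, 69206016, 168296448, 268435456, 606076936, 1342177280, 2174746629, 6989807621, 9663676416, 17718837256, 35701915648, 103347650560, 137438953472, 412316860416, 962072674304, 1099511627776, 2886218022912, 5497558138880, 14293651161088, 27487790694400, 35184372088832, 70368744177664, 211106232532992, 422212465065984, 774056185954304, 1759218604441600, 2251799813685248]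

theorem tiChk_C10_0_0 : chkA tiR_C10_0 tiT0 tiT1 0 = true := by decide +kernel

theorem tiChk_C10_0_1 : chkA tiR_C10_0 tiT0 tiT1 1 = true := by decide +kernel

theorem tiChk_C10_0_2 : chkA tiR_C10_0 tiT0 tiT1 2 = true := by decide +kernel

theorem tiChk_C10_0_3 : chkA tiR_C10_0 tiT0 tiT1 3 = true := by decide +kernel

theorem tiChk_C10_0_4 : chkA tiR_C10_0 tiT0 tiT1 4 = true := by decide +kernel

theorem tiChk_C10_0_5 : chkA tiR_C10_0 tiT0 tiT1 5 = true := by decide +kernel

theorem tiChk_C10_0_6 : chkA tiR_C10_0 tiT0 tiT1 6 = true := by decide +kernel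

theorem tiChk_C10_0_7 : chkA tiR_C10_0 tiT0 tiT1 7 = true := by decide +kernel

theorem tiChk_C10_0_8 : chkA tiR_C10_0 tiT0 tiT1 8 = true := by decide +kernel

theorem tiChk_C10_0_9 : chkA tiR_C10_0 tiT0 tiT1 9 = true := by decide +kernel

theorem tiChk_C10_0_10 : chkA tiR_C10_0 tiT0 tiT1 10 = true := by decide +kernel

theorem tiChk_C10_0_11 : chkA tiR_C10_0 tiT0 tiT1 11 = true := by decide +kernel

theorem tiChk_C10_0_12 : chkA tiR_C10_0 tiT0 tiT1 12 = true := by decide +kernel

theorem tiChk_C10_0_13 : chkA tiR_C10_0 tiT0 tiT1 13 = true := by decide +kernel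

theorem tiChk_C10_0_14 : chkA tiR_C10_0 tiT0 tiT1 14 = true := by decide +kernel

theorem tiChk_C10_0_15 : chkA tiR_C10_0 tiT0 tiT1 15 = true := by decide +kernel

theorem tiChk_C10_0 : chk tiR_C10_0 tiT0 tiT1 = true := by
  apply chk_of_chkA
  intro a ha
  have hl : tiT0.length = 16 := rfl
  rw [hl] at ha
  interval_cases a
  · exact tiChk_C10_0_0
  · exact tiChk_C10_0_1
  · exact tiChk_C10_0_2
  · exact tiChk_C10_0_3
  · exact tiChk_C10_0_4
  · exact tiChk_C10_0_5
  · exact tiChk_C10_0_6
  · exact tiChk_C10_0_7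
  · exact tiChk_C10_0_8
  · exact tiChk_C10_0_9
  · exact tiChk_C10_0_10
  · exact tiChk_C10_0_11
  · exact tiChk_C10_0_12
  · exact tiChk_C10_0_13
  · exact tiChk_C10_0_14
  · exact tiChk_C10_0_15

end Cfsg.Agent.Lib.Helper31.Ti
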