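import Cfsg.Agent.Lib.Helper31.TiTab0
import Cfsg.Agent.Lib.Helper31.TiTab1
import Cfsg.Agent.Lib.Helper31.TiChkDefs

/-! # The Tits group (S1074): kernel check of the colouring, element C10i (word [28, 25, 27]), colour 1 (helper31, generated) -/

set_option autoImplicit false

namespace Cfsg.Agent.Lib.Helper31.Ti

/-- the rows of the matrix of the word [28, 25, 27] -/
def tiR_C10i_1 : List ℕ := [1, 27262978, 69206020, 8, 16, 32, 96, 224, 320, 864, 1024, 2048, 6144, 12288, 16384, 47104, 81920, 196608, 475136, 524288, 1572864, 2097152, 5767168, 10485760, 25165824, 34603008, 69206016, 169345024, 268435456, 603979784, 1342177280, 2233466885, 7071596552, 9932111872, 17785946112, 35433480192, 104421392384, 137438953472, 412316860416, 824633720832, 1099511627776, 3161095929856, 5497558138880, 13194139533312, 31885837205504, 35184372088832, 70368744177664, 211106232532992, 492581209243648, 703687441776640, 1899956092796928, 2251799813685248]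

theorem tiChk_C10i_1_0 : chkA tiR_C10i_1 tiT1 tiT0 0 = true := by decide +kernel

theorem tiChk_C10i_1_1 : chkA tiR_C10i_1 tiT1 tiT0 1 = true := by decide +kernel

theorem tiChk_C10i_1_2 : chkA tiR_C10i_1 tiT1 tiT0 2 = true := by decide +kernel

theorem tiChk_C10i_1_3 : chkA tiR_C10i_1 tiT1 tiT0 3 = true := by decide +kernel

theorem tiChk_C10i_1_4 : chkA tiR_C10i_1 tiT1 tiT0 4 = true := by decide +kernel

theorem tiChk_C10i_1_5 : chkA tiR_C10i_1 tiT1 tiT0 5 = true := by decide +kernel

theorem tiChk_C10i_1_6 : chkA tiR_C10i_1 tiT1 tiT0 6 = true := by decide +kernel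

theorem tiChk_C10i_1_7 : chkA tiR_C10i_1 tiT1 tiT0 7 = true := by decide +kernel

theorem tiChk_C10i_1_8 : chkA tiR_C10i_1 tiT1 tiT0 8 = true := by decide +kernel

theorem tiChk_C10i_1_9 : chkA tiR_C10i_1 tiT1 tiT0 9 = true := by decide +kernel

theorem tiChk_C10i_1_10 : chkA tiR_C10i_1 tiT1 tiT0 10 = true := by decide +kernel

theorem tiChk_C10i_1_11 : chkA tiR_C10i_1 tiT1 tiT0 11 = true := by decide +kernel

theorem tiChk_C10i_1_12 : chkA tiR_C10i_1 tiT1 tiT0 12 = true := by decide +kernel

theorem tiChk_C10i_1_13 : chkA tiR_C10i_1 tiT1 tiT0 13 = true := by decide +kernel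

theorem tiChk_C10i_1_14 : chkA tiR_C10i_1 tiT1 tiT0 14 = true := by decide +kernel

theorem tiChk_C10i_1_15 : chkA tiR_C10i_1 tiT1 tiT0 15 = true := by decide +kernel

theorem tiChk_C10i_1 : chk tiR_C10i_1 tiT1 tiT0 = true := by
  apply chk_of_chkA
  intro a ha
  have hl : tiT1.length = 16 := rfl
  rw [hl] at ha
  interval_cases a
  · exact tiChk_C10i_1_0
  · exact tiChk_C10i_1_1
  · exact tiChk_C10i_1_2
  · exact tiChk_C10i_1_3
  · exact tiChk_C10i_1_4
  · exact tiChk_C10i_1_5
  · exact tiChk_C10i_1_6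
  · exact tiChk_C10i_1_7
  · exact tiChk_C10i_1_8
  · exact tiChk_C10i_1_9
  · exact tiChk_C10i_1_10
  · exact tiChk_C10i_1_11
  · exact tiChk_C10i_1_12
  · exact tiChk_C10i_1_13
  · exact tiChk_C10i_1_14
  · exact tiChk_C10i_1_15

end Cfsg.Agent.Lib.Helper31.Ti
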