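import Cfsg.Agent.Lib.Helper31.TiTab0
import Cfsg.Agent.Lib.Helper31.TiTab1
import Cfsg.Agent.Lib.Helper31.TiChkDefs

/-! # The Tits group (S1074): kernel check of the colouring, element D01 (word [19, 17]), colour 1 (helper31, generated) -/

set_option autoImplicit false

namespace Cfsg.Agent.Lib.Helper31.Ti

/-- the rows of the matrix of the word [19, 17] -/
def tiR_D01_1 : List ℕ := [1, 21474836482, 17179869188, 8, 16, 800, 576, 640, 256, 512, 1024, 43008, 36864, 8192, 409600, 32768, 327680, 131072, 262144, 168296448, 135266304, 17718837256, 138412032, 23630708749, 4848615424, 33554432, 17246978048, 134217728, 103347650560, 536870912, 69793218560, 19327352832, 4294967296, 77309411328, 17179869184, 34359738368, 68719476736, 2886218022912, 2473901162496, 549755813888, 27487790694400, 2199023255552, 21990232555520, 8796093022208, 17592186044416, 35184372088832, 1759218604441600, 1266637395197952, 1407374883553280, 562949953421312, 1125899906842624, 2251799813685248]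

theorem tiChk_D01_1_0 : chkA tiR_D01_1 tiT1 tiT1 0 = true := by decide +kernel

theorem tiChk_D01_1_1 : chkA tiR_D01_1 tiT1 tiT1 1 = true := by decide +kernel

theorem tiChk_D01_1_2 : chkA tiR_D01_1 tiT1 tiT1 2 = true := by decide +kernel

theorem tiChk_D01_1_3 : chkA tiR_D01_1 tiT1 tiT1 3 = true := by decide +kernel

theorem tiChk_D01_1_4 : chkA tiR_D01_1 tiT1 tiT1 4 = true := by decide +kernel

theorem tiChk_D01_1_5 : chkA tiR_D01_1 tiT1 tiT1 5 = true := by decide +kernel

theorem tiChk_D01_1_6 : chkA tiR_D01_1 tiT1 tiT1 6 = true := by decide +kernel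

theorem tiChk_D01_1_7 : chkA tiR_D01_1 tiT1 tiT1 7 = true := by decide +kernel

theorem tiChk_D01_1_8 : chkA tiR_D01_1 tiT1 tiT1 8 = true := by decide +kernel

theorem tiChk_D01_1_9 : chkA tiR_D01_1 tiT1 tiT1 9 = true := by decide +kernel

theorem tiChk_D01_1_10 : chkA tiR_D01_1 tiT1 tiT1 10 = true := by decide +kernel

theorem tiChk_D01_1_11 : chkA tiR_D01_1 tiT1 tiT1 11 = true := by decide +kernel

theorem tiChk_D01_1_12 : chkA tiR_D01_1 tiT1 tiT1 12 = true := by decide +kernel

theorem tiChk_D01_1_13 : chkA tiR_D01_1 tiT1 tiT1 13 = true := by decide +kernel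

theorem tiChk_D01_1_14 : chkA tiR_D01_1 tiT1 tiT1 14 = true := by decide +kernel

theorem tiChk_D01_1_15 : chkA tiR_D01_1 tiT1 tiT1 15 = true := by decide +kernel

theorem tiChk_D01_1 : chk tiR_D01_1 tiT1 tiT1 = true := by
  apply chk_of_chkA
  intro a ha
  have hl : tiT1.length = 16 := rfl
  rw [hl] at ha
  interval_cases a
  · exact tiChk_D01_1_0
  · exact tiChk_D01_1_1
  · exact tiChk_D01_1_2
  · exact tiChk_D01_1_3
  · exact tiChk_D01_1_4
  · exact tiChk_D01_1_5
  · exact tiChk_D01_1_6
  · exact tiChk_D01_1_7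
  · exact tiChk_D01_1_8
  · exact tiChk_D01_1_9
  · exact tiChk_D01_1_10
  · exact tiChk_D01_1_11
  · exact tiChk_D01_1_12
  · exact tiChk_D01_1_13
  · exact tiChk_D01_1_14
  · exact tiChk_D01_1_15

end Cfsg.Agent.Lib.Helper31.Ti
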