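import Cfsg.Agent.Lib.Helper31.TiTab0
import Cfsg.Agent.Lib.Helper31.TiTab1
import Cfsg.Agent.Lib.Helper31.TiChkDefs

/-! # The Tits group (S1074): kernel check of the colouring, element D11 (word [20, 22, 17]), colour 0 (helper31, generated) -/

set_option autoImplicit false

namespace Cfsg.Agent.Lib.Helper31.Ti

/-- the rows of the matrix of the word [20, 22, 17] -/
def tiR_D11_0 : List ℕ := [1, 23622320130, 17716740100, 8, 16, 864, 320, 896, 768, 512, 1024, 47104, 12288, 40960, 475136, 32768, 196608, 393216, 262144, 169345024, 34603008, 17785946112, 171966464, 7071596552, 19881000965, 167772160, 603979784, 134217728, 104421392384, 17716740096, 35433480192, 6442450944, 21474836480, 111669149696, 17179869184, 103079215104, 68719476736, 3161095929856, 824633720832, 2748779069440, 31885837205504, 2199023255552, 13194139533312, 26388279066624, 17592186044416, 35184372088832, 1899956092796928, 703687441776640, 1970324836974592, 1688849860263936, 1125899906842624, 2251799813685248]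

theorem tiChk_D11_0_0 : chkA tiR_D11_0 tiT0 tiT1 0 = true := by decide +kernel

theorem tiChk_D11_0_1 : chkA tiR_D11_0 tiT0 tiT1 1 = true := by decide +kernel

theorem tiChk_D11_0_2 : chkA tiR_D11_0 tiT0 tiT1 2 = true := by decide +kernel

theorem tiChk_D11_0_3 : chkA tiR_D11_0 tiT0 tiT1 3 = true := by decide +kernel

theorem tiChk_D11_0_4 : chkA tiR_D11_0 tiT0 tiT1 4 = true := by decide +kernel

theorem tiChk_D11_0_5 : chkA tiR_D11_0 tiT0 tiT1 5 = true := by decide +kernel

theorem tiChk_D11_0_6 : chkA tiR_D11_0 tiT0 tiT1 6 = true := by decide +kernel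

theorem tiChk_D11_0_7 : chkA tiR_D11_0 tiT0 tiT1 7 = true := by decide +kernel

theorem tiChk_D11_0_8 : chkA tiR_D11_0 tiT0 tiT1 8 = true := by decide +kernel

theorem tiChk_D11_0_9 : chkA tiR_D11_0 tiT0 tiT1 9 = true := by decide +kernel

theorem tiChk_D11_0_10 : chkA tiR_D11_0 tiT0 tiT1 10 = true := by decide +kernel

theorem tiChk_D11_0_11 : chkA tiR_D11_0 tiT0 tiT1 11 = true := by decide +kernel

theorem tiChk_D11_0_12 : chkA tiR_D11_0 tiT0 tiT1 12 = true := by decide +kernel

theorem tiChk_D11_0_13 : chkA tiR_D11_0 tiT0 tiT1 13 = true := by decide +kernel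

theorem tiChk_D11_0_14 : chkA tiR_D11_0 tiT0 tiT1 14 = true := by decide +kernel

theorem tiChk_D11_0_15 : chkA tiR_D11_0 tiT0 tiT1 15 = true := by decide +kernel

theorem tiChk_D11_0 : chk tiR_D11_0 tiT0 tiT1 = true := by
  apply chk_of_chkA
  intro a ha
  have hl : tiT0.length = 16 := rfl
  rw [hl] at ha
  interval_cases a
  · exact tiChk_D11_0_0
  · exact tiChk_D11_0_1
  · exact tiChk_D11_0_2
  · exact tiChk_D11_0_3
  · exact tiChk_D11_0_4
  · exact tiChk_D11_0_5
  · exact tiChk_D11_0_6
  · exact tiChk_D11_0_7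
  · exact tiChk_D11_0_8
  · exact tiChk_D11_0_9
  · exact tiChk_D11_0_10
  · exact tiChk_D11_0_11
  · exact tiChk_D11_0_12
  · exact tiChk_D11_0_13
  · exact tiChk_D11_0_14
  · exact tiChk_D11_0_15

end Cfsg.Agent.Lib.Helper31.Ti
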