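import Cfsg.Agent.Lib.Helper31.TiTab0
import Cfsg.Agent.Lib.Helper31.TiTab1
import Cfsg.Agent.Lib.Helper31.TiChkDefs

/-! # The Tits group (S1074): kernel check of the colouring, element D11i (word [17, 22, 20]), colour 1 (helper31, generated) -/

set_option autoImplicit false

namespace Cfsg.Agent.Lib.Helper31.Ti

/-- the rows of the matrix of the word [17, 22, 20] -/
def tiR_D11i_1 : List ℕ := [1, 19327352834, 536870916, 8, 16, 608, 832, 384, 768, 512, 1024, 38912, 45056, 40960, 344064, 32768, 458752, 393216, 262144, 135790592, 168820736, 17249075208, 37748736, 21567111173, 23639097349, 167772160, 17783848968, 134217728, 70061654016, 17716740096, 104152956928, 23622320128, 21474836480, 42949672960, 17179869184, 103079215104, 68719476736, 2611340115968, 3023656976384, 2748779069440, 23089744183296, 2199023255552, 30786325577728, 26388279066624, 17592186044416, 35184372088832, 1337006139375616, 1829587348619264, 844424930131968, 1688849860263936, 1125899906842624, 2251799813685248]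

theorem tiChk_D11i_1_0 : chkA tiR_D11i_1 tiT1 tiT0 0 = true := by decide +kernel

theorem tiChk_D11i_1_1 : chkA tiR_D11i_1 tiT1 tiT0 1 = true := by decide +kernel

theorem tiChk_D11i_1_2 : chkA tiR_D11i_1 tiT1 tiT0 2 = true := by decide +kernel

theorem tiChk_D11i_1_3 : chkA tiR_D11i_1 tiT1 tiT0 3 = true := by decide +kernel

theorem tiChk_D11i_1_4 : chkA tiR_D11i_1 tiT1 tiT0 4 = true := by decide +kernel

theorem tiChk_D11i_1_5 : chkA tiR_D11i_1 tiT1 tiT0 5 = true := by decide +kernel

theorem tiChk_D11i_1_6 : chkA tiR_D11i_1 tiT1 tiT0 6 = true := by decide +kernel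

theorem tiChk_D11i_1_7 : chkA tiR_D11i_1 tiT1 tiT0 7 = true := by decide +kernel

theorem tiChk_D11i_1_8 : chkA tiR_D11i_1 tiT1 tiT0 8 = true := by decide +kernel

theorem tiChk_D11i_1_9 : chkA tiR_D11i_1 tiT1 tiT0 9 = true := by decide +kernel

theorem tiChk_D11i_1_10 : chkA tiR_D11i_1 tiT1 tiT0 10 = true := by decide +kernel

theorem tiChk_D11i_1_11 : chkA tiR_D11i_1 tiT1 tiT0 11 = true := by decide +kernel

theorem tiChk_D11i_1_12 : chkA tiR_D11i_1 tiT1 tiT0 12 = true := by decide +kernel

theorem tiChk_D11i_1_13 : chkA tiR_D11i_1 tiT1 tiT0 13 = true := by decide +kernel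

theorem tiChk_D11i_1_14 : chkA tiR_D11i_1 tiT1 tiT0 14 = true := by decide +kernel

theorem tiChk_D11i_1_15 : chkA tiR_D11i_1 tiT1 tiT0 15 = true := by decide +kernel

theorem tiChk_D11i_1 : chk tiR_D11i_1 tiT1 tiT0 = true := by
  apply chk_of_chkA
  intro a ha
  have hl : tiT1.length = 16 := rfl
  rw [hl] at ha
  interval_cases a
  · exact tiChk_D11i_1_0
  · exact tiChk_D11i_1_1
  · exact tiChk_D11i_1_2
  · exact tiChk_D11i_1_3
  · exact tiChk_D11i_1_4
  · exact tiChk_D11i_1_5
  · exact tiChk_D11i_1_6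
  · exact tiChk_D11i_1_7
  · exact tiChk_D11i_1_8
  · exact tiChk_D11i_1_9
  · exact tiChk_D11i_1_10
  · exact tiChk_D11i_1_11
  · exact tiChk_D11i_1_12
  · exact tiChk_D11i_1_13
  · exact tiChk_D11i_1_14
  · exact tiChk_D11i_1_15

end Cfsg.Agent.Lib.Helper31.Ti
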