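import Cfsg.Agent.Lib.Helper31.TiTab0
import Cfsg.Agent.Lib.Helper31.TiTab1
import Cfsg.Agent.Lib.Helper31.TiChkDefs

/-! # The Tits group (S1074): kernel check of the colouring, element Pi (word [24, 33]), colour 1 (helper31, generated) -/

set_option autoImplicit false

namespace Cfsg.Agent.Lib.Helper31.Ti

/-- the rows of the matrix of the word [24, 33] -/
def tiR_Pi_1 : List ℕ := [262145, 2, 4, 134217736, 16, 48, 64, 128, 256, 512, 1536, 2176, 4352, 8704, 26112, 32768, 98304, 131072, 262144, 524544, 1049088, 3147264, 4227072, 12681216, 16908288, 33554432, 100663296, 134217728, 402653188, 536870912, 1610612736, 2147483648, 4294967296, 12884901888, 17179869184, 51539607552, 68719476736, 137439215618, 277025390592, 554050781184, 1662152343552, 2216203124736, 6648609374208, 8864812498944, 17592186044416, 35201551958016, 105604655874048, 140806207832064, 299067162755072, 562949953421312, 1125899906842624, 3377699720527872]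

theorem tiChk_Pi_1_0 : chkA tiR_Pi_1 tiT1 tiT1 0 = true := by decide +kernel

theorem tiChk_Pi_1_1 : chkA tiR_Pi_1 tiT1 tiT1 1 = true := by decide +kernel

theorem tiChk_Pi_1_2 : chkA tiR_Pi_1 tiT1 tiT1 2 = true := by decide +kernel

theorem tiChk_Pi_1_3 : chkA tiR_Pi_1 tiT1 tiT1 3 = true := by decide +kernel

theorem tiChk_Pi_1_4 : chkA tiR_Pi_1 tiT1 tiT1 4 = true := by decide +kernel

theorem tiChk_Pi_1_5 : chkA tiR_Pi_1 tiT1 tiT1 5 = true := by decide +kernel

theorem tiChk_Pi_1_6 : chkA tiR_Pi_1 tiT1 tiT1 6 = true := by decide +kernel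

theorem tiChk_Pi_1_7 : chkA tiR_Pi_1 tiT1 tiT1 7 = true := by decide +kernel

theorem tiChk_Pi_1_8 : chkA tiR_Pi_1 tiT1 tiT1 8 = true := by decide +kernel

theorem tiChk_Pi_1_9 : chkA tiR_Pi_1 tiT1 tiT1 9 = true := by decide +kernel

theorem tiChk_Pi_1_10 : chkA tiR_Pi_1 tiT1 tiT1 10 = true := by decide +kernel

theorem tiChk_Pi_1_11 : chkA tiR_Pi_1 tiT1 tiT1 11 = true := by decide +kernel

theorem tiChk_Pi_1_12 : chkA tiR_Pi_1 tiT1 tiT1 12 = true := by decide +kernel

theorem tiChk_Pi_1_13 : chkA tiR_Pi_1 tiT1 tiT1 13 = true := by decide +kernel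

theorem tiChk_Pi_1_14 : chkA tiR_Pi_1 tiT1 tiT1 14 = true := by decide +kernel

theorem tiChk_Pi_1_15 : chkA tiR_Pi_1 tiT1 tiT1 15 = true := by decide +kernel

theorem tiChk_Pi_1 : chk tiR_Pi_1 tiT1 tiT1 = true := by
  apply chk_of_chkA
  intro a ha
  have hl : tiT1.length = 16 := rfl
  rw [hl] at ha
  interval_cases a
  · exact tiChk_Pi_1_0
  · exact tiChk_Pi_1_1
  · exact tiChk_Pi_1_2
  · exact tiChk_Pi_1_3
  · exact tiChk_Pi_1_4
  · exact tiChk_Pi_1_5
  · exact tiChk_Pi_1_6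
  · exact tiChk_Pi_1_7
  · exact tiChk_Pi_1_8
  · exact tiChk_Pi_1_9
  · exact tiChk_Pi_1_10
  · exact tiChk_Pi_1_11
  · exact tiChk_Pi_1_12
  · exact tiChk_Pi_1_13
  · exact tiChk_Pi_1_14
  · exact tiChk_Pi_1_15

end Cfsg.Agent.Lib.Helper31.Ti
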