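import Cfsg.Agent.Lib.Helper31.TiTab0
import Cfsg.Agent.Lib.Helper31.TiTab1
import Cfsg.Agent.Lib.Helper31.TiChkDefs

/-! # The Tits group (S1074): kernel check of the colouring, element Pmi (word [23, 14]), colour 0 (helper31, generated) -/

set_option autoImplicit false

namespace Cfsg.Agent.Lib.Helper31.Ti

/-- the rows of the matrix of the word [23, 14] -/
def tiR_Pmi_0 : List ℕ := [137438953473, 2, 4, 268435464, 48, 32, 64, 2176, 524544, 3147264, 2098176, 2048, 528384, 3170304, 2113536, 12681216, 8454144, 16908288, 137439215618, 524288, 3145728, 2097152, 12582912, 8388608, 16777216, 100663296, 67108864, 402653188, 268435456, 1610612736, 1073741824, 277025390592, 1662152343552, 1108101562368, 105604655874048, 70403103916032, 140806207832064, 137438953472, 274877906944, 1649267441664, 1099511627776, 112150186033152, 74766790688768, 149533581377536, 299067162755072, 105553116266496, 70368744177664, 140737488355328, 281474976710656, 562949953421312,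 3377699720527872, 2251799813685248]

theorem tiChk_Pmi_0_0 : chkA tiR_Pmi_0 tiT0 tiT0 0 = true := by decide +kernel

theorem tiChk_Pmi_0_1 : chkA tiR_Pmi_0 tiT0 tiT0 1 = true := by decide +kernel

theorem tiChk_Pmi_0_2 : chkA tiR_Pmi_0 tiT0 tiT0 2 = true := by decide +kernel

theorem tiChk_Pmi_0_3 : chkA tiR_Pmi_0 tiT0 tiT0 3 = true := by decide +kernel

theorem tiChk_Pmi_0_4 : chkA tiR_Pmi_0 tiT0 tiT0 4 = true := by decide +kernel

theorem tiChk_Pmi_0_5 : chkA tiR_Pmi_0 tiT0 tiT0 5 = true := by decide +kernel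

theorem tiChk_Pmi_0_6 : chkA tiR_Pmi_0 tiT0 tiT0 6 = true := by decide +kernel

theorem tiChk_Pmi_0_7 : chkA tiR_Pmi_0 tiT0 tiT0 7 = true := by decide +kernel

theorem tiChk_Pmi_0_8 : chkA tiR_Pmi_0 tiT0 tiT0 8 = true := by decide +kernel

theorem tiChk_Pmi_0_9 : chkA tiR_Pmi_0 tiT0 tiT0 9 = true := by decide +kernel

theorem tiChk_Pmi_0_10 : chkA tiR_Pmi_0 tiT0 tiT0 10 = true := by decide +kernel

theorem tiChk_Pmi_0_11 : chkA tiR_Pmi_0 tiT0 tiT0 11 = true := by decide +kernel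

theorem tiChk_Pmi_0_12 : chkA tiR_Pmi_0 tiT0 tiT0 12 = true := by decide +kernel

theorem tiChk_Pmi_0_13 : chkA tiR_Pmi_0 tiT0 tiT0 13 = true := by decide +kernel

theorem tiChk_Pmi_0_14 : chkA tiR_Pmi_0 tiT0 tiT0 14 = true := by decide +kernel

theorem tiChk_Pmi_0_15 : chkA tiR_Pmi_0 tiT0 tiT0 15 = true := by decide +kernel

theorem tiChk_Pmi_0 : chk tiR_Pmi_0 tiT0 tiT0 = true := by
  apply chk_of_chkA
  intro a ha
  have hl : tiT0.length = 16 := rfl
  rw [hl] at ha
  interval_cases a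
  · exact tiChk_Pmi_0_0
  · exact tiChk_Pmi_0_1
  · exact tiChk_Pmi_0_2
  · exact tiChk_Pmi_0_3
  · exact tiChk_Pmi_0_4
  · exact tiChk_Pmi_0_5
  · exact tiChk_Pmi_0_6
  · exact tiChk_Pmi_0_7
  · exact tiChk_Pmi_0_8
  · exact tiChk_Pmi_0_9
  · exact tiChk_Pmi_0_10
  · exact tiChk_Pmi_0_11
  · exact tiChk_Pmi_0_12
  · exact tiChk_Pmi_0_13
  · exact tiChk_Pmi_0_14
  · exact tiChk_Pmi_0_15

end Cfsg.Agent.Lib.Helper31.Ti
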