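import Cfsg.Agent.Lib.Helper36.F4Lit

/-! # The Tits group (S1074): definitions of the colouring engine (helper31)

Row vectors of `𝔽₂⁵²` are packed as natural numbers (bit `f4Num j` = coordinate `j`); a table of vectors is a
three-level list of buckets, addressed by `w % 8191`. -/

set_option autoImplicit false

namespace Cfsg.Agent.Lib.Helper31.Ti

open Cfsg Cfsg.Lie Cfsg.Agent.Lib.Helper36

/-- the row vector with the bits of `v` -/
def vecB (v : ℕ) : chevF4.Idx → ZMod 2 := fun j => bitZ (v.testBit (f4Num j))

/-- the product of the packed row vector `v` with the bit matrix of rows `R`, added to `acc` -/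
def rmul : ℕ → List ℕ → ℕ → ℕ
  | _, [], acc => acc
  | v, r :: rs, acc => rmul (v / 2) rs (if v % 2 = 1 then acc ^^^ r else acc)

/-- a three-level table of packed vectors -/
abbrev Tab3 : Type := List (List (List (List ℕ)))

/-- membership in a table -/
def MemT (T : Tab3) (v : ℕ) : Prop := ∃ l1 ∈ T, ∃ l2 ∈ l1, ∃ b ∈ l2, v ∈ b

/-- the bucket lookup -/
def look (T : Tab3) (w : ℕ) : Bool :=
  (((T.getD (w % 8191 % 16) []).getD (w % 8191 / 16 % 16) []).getD (w % 8191 / 256) []).contains w

/-- all the vectors of the table `Ta` are mapped into the table `Tb` by the matrix of rows `R` -/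
def chk (R : List ℕ) (Ta Tb : Tab3) : Bool :=
  Ta.all fun l1 => l1.all fun l2 => l2.all fun b => b.all fun v => look Tb (rmul v R 0)

/-- no vector of the table is congruent to `x` modulo `2 ^ 52` -/
def chkNot (x : ℕ) (T : Tab3) : Bool :=
  T.all fun l1 => l1.all fun l2 => l2.all fun b => b.all fun v => v % 2 ^ 52 != x % 2 ^ 52

/-- the set of row vectors of a table -/
def Om (T : Tab3) : Set (chevF4.Idx → ZMod 2) := {x | ∃ v, MemT T v ∧ x = vecB v}

end Cfsg.Agent.Lib.Helper31.Ti
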