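import Cfsg.Agent.Lib.Helper31.TiChk_P_0
import Cfsg.Agent.Lib.Helper31.TiChk_P_1
import Cfsg.Agent.Lib.Helper31.TiChk_Pi_0
import Cfsg.Agent.Lib.Helper31.TiChk_Pi_1
import Cfsg.Agent.Lib.Helper31.TiChk_Pm_0
import Cfsg.Agent.Lib.Helper31.TiChk_Pm_1
import Cfsg.Agent.Lib.Helper31.TiChk_Pmi_0
import Cfsg.Agent.Lib.Helper31.TiChk_Pmi_1
import Cfsg.Agent.Lib.Helper31.TiChk_C10_0
import Cfsg.Agent.Lib.Helper31.TiChk_C10_1
import Cfsg.Agent.Lib.Helper31.TiChk_C10i_0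
import Cfsg.Agent.Lib.Helper31.TiChk_C10i_1
import Cfsg.Agent.Lib.Helper31.TiChk_C01_0
import Cfsg.Agent.Lib.Helper31.TiChk_C01_1
import Cfsg.Agent.Lib.Helper31.TiChk_C01i_0
import Cfsg.Agent.Lib.Helper31.TiChk_C01i_1
import Cfsg.Agent.Lib.Helper31.TiChk_C11_0
import Cfsg.Agent.Lib.Helper31.TiChk_C11_1
import Cfsg.Agent.Lib.Helper31.TiChk_C11i_0
import Cfsg.Agent.Lib.Helper31.TiChk_C11i_1
import Cfsg.Agent.Lib.Helper31.TiChk_D10_0
import Cfsg.Agent.Lib.Helper31.TiChk_D10_1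
import Cfsg.Agent.Lib.Helper31.TiChk_D10i_0
import Cfsg.Agent.Lib.Helper31.TiChk_D10i_1
import Cfsg.Agent.Lib.Helper31.TiChk_D01_0
import Cfsg.Agent.Lib.Helper31.TiChk_D01_1
import Cfsg.Agent.Lib.Helper31.TiChk_D01i_0
import Cfsg.Agent.Lib.Helper31.TiChk_D01i_1
import Cfsg.Agent.Lib.Helper31.TiChk_D11_0
import Cfsg.Agent.Lib.Helper31.TiChk_D11_1
import Cfsg.Agent.Lib.Helper31.TiChk_D11i_0
import Cfsg.Agent.Lib.Helper31.TiChk_D11i_1
import Cfsg.Agent.Lib.Helper31.TiSigCore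

/-! # The Tits group (S1074): `²F₄(2)` is not perfect (helper31; the colouring of 24960 vectors) -/

set_option autoImplicit false

namespace Cfsg.Agent.Lib.Helper31.Ti

open Cfsg Cfsg.Lie Cfsg.Agent.Lib.Helper18 Cfsg.Agent.Lib.Helper36 Cfsg.Agent.Lib.Helper31.F4P
  Cfsg.Agent.Lib.Helper31.F4Two

/-- an element preserves or swaps the two colour classes -/
def EOp (g : GL chevF4.Idx (ZMod 2)) : Prop :=
  ((∀ x ∈ Om tiT0, act x g ∈ Om tiT0) ∧ ∀ x ∈ Om tiT1, act x g ∈ Om tiT1) ∨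
    ((∀ x ∈ Om tiT0, act x g ∈ Om tiT1) ∧ ∀ x ∈ Om tiT1, act x g ∈ Om tiT0)

theorem tiR_P_0_eq : prodBits ([33, 24].map xL) = tiR_P_0 := by decide +kernel

theorem tiR_P_1_eq : prodBits ([33, 24].map xL) = tiR_P_1 := by decide +kernel

theorem eo_P : EOp (wordG [33, 24]) :=
  Or.inl ⟨shift_of_chk [33, 24] (by decide) _ tiR_P_0_eq rfl tiT0 tiT0 tiChk_P_0,
    shift_of_chk [33, 24] (by decide) _ tiR_P_1_eq rfl tiT1 tiT1 tiChk_P_1⟩

theorem tiR_Pi_0_eq : prodBits ([24, 33].map xL) = tiR_Pi_0 := by decide +kernel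

theorem tiR_Pi_1_eq : prodBits ([24, 33].map xL) = tiR_Pi_1 := by decide +kernel

theorem eo_Pi : EOp (wordG [24, 33]) :=
  Or.inl ⟨shift_of_chk [24, 33] (by decide) _ tiR_Pi_0_eq rfl tiT0 tiT0 tiChk_Pi_0,
    shift_of_chk [24, 33] (by decide) _ tiR_Pi_1_eq rfl tiT1 tiT1 tiChk_Pi_1⟩

theorem tiR_Pm_0_eq : prodBits ([14, 23].map xL) = tiR_Pm_0 := by decide +kernel

theorem tiR_Pm_1_eq : prodBits ([14, 23].map xL) = tiR_Pm_1 := by decide +kernel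

theorem eo_Pm : EOp (wordG [14, 23]) :=
  Or.inl ⟨shift_of_chk [14, 23] (by decide) _ tiR_Pm_0_eq rfl tiT0 tiT0 tiChk_Pm_0,
    shift_of_chk [14, 23] (by decide) _ tiR_Pm_1_eq rfl tiT1 tiT1 tiChk_Pm_1⟩

theorem tiR_Pmi_0_eq : prodBits ([23, 14].map xL) = tiR_Pmi_0 := by decide +kernel

theorem tiR_Pmi_1_eq : prodBits ([23, 14].map xL) = tiR_Pmi_1 := by decide +kernel

theorem eo_Pmi : EOp (wordG [23, 14]) :=
  Or.inl ⟨shift_of_chk [23, 14] (by decide) _ tiR_Pmi_0_eq rfl tiT0 tiT0 tiChk_Pmi_0,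
    shift_of_chk [23, 14] (by decide) _ tiR_Pmi_1_eq rfl tiT1 tiT1 tiChk_Pmi_1⟩

theorem tiR_C10_0_eq : prodBits ([27, 25, 28].map xL) = tiR_C10_0 := by decide +kernel

theorem tiR_C10_1_eq : prodBits ([27, 25, 28].map xL) = tiR_C10_1 := by decide +kernel

theorem eo_C10 : EOp (wordG [27, 25, 28]) :=
  Or.inr ⟨shift_of_chk [27, 25, 28] (by decide) _ tiR_C10_0_eq rfl tiT0 tiT1 tiChk_C10_0,
    shift_of_chk [27, 25, 28] (by decide) _ tiR_C10_1_eq rfl tiT1 tiT0 tiChk_C10_1⟩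

theorem tiR_C10i_0_eq : prodBits ([28, 25, 27].map xL) = tiR_C10i_0 := by decide +kernel

theorem tiR_C10i_1_eq : prodBits ([28, 25, 27].map xL) = tiR_C10i_1 := by decide +kernel

theorem eo_C10i : EOp (wordG [28, 25, 27]) :=
  Or.inr ⟨shift_of_chk [28, 25, 27] (by decide) _ tiR_C10i_0_eq rfl tiT0 tiT1 tiChk_C10i_0,
    shift_of_chk [28, 25, 27] (by decide) _ tiR_C10i_1_eq rfl tiT1 tiT0 tiChk_C10i_1⟩

theorem tiR_C01_0_eq : prodBits ([28, 30].map xL) = tiR_C01_0 := by decide +kernel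

theorem tiR_C01_1_eq : prodBits ([28, 30].map xL) = tiR_C01_1 := by decide +kernel

theorem eo_C01 : EOp (wordG [28, 30]) :=
  Or.inl ⟨shift_of_chk [28, 30] (by decide) _ tiR_C01_0_eq rfl tiT0 tiT0 tiChk_C01_0,
    shift_of_chk [28, 30] (by decide) _ tiR_C01_1_eq rfl tiT1 tiT1 tiChk_C01_1⟩

theorem tiR_C01i_0_eq : prodBits ([30, 28].map xL) = tiR_C01i_0 := by decide +kernel

theorem tiR_C01i_1_eq : prodBits ([30, 28].map xL) = tiR_C01i_1 := by decide +kernel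

theorem eo_C01i : EOp (wordG [30, 28]) :=
  Or.inl ⟨shift_of_chk [30, 28] (by decide) _ tiR_C01i_0_eq rfl tiT0 tiT0 tiChk_C01i_0,
    shift_of_chk [30, 28] (by decide) _ tiR_C01i_1_eq rfl tiT1 tiT1 tiChk_C01i_1⟩

theorem tiR_C11_0_eq : prodBits ([27, 25, 30].map xL) = tiR_C11_0 := by decide +kernel

theorem tiR_C11_1_eq : prodBits ([27, 25, 30].map xL) = tiR_C11_1 := by decide +kernel

theorem eo_C11 : EOp (wordG [27, 25, 30]) :=
  Or.inr ⟨shift_of_chk [27, 25, 30] (by decide) _ tiR_C11_0_eq rfl tiT0 tiT1 tiChk_C11_0,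
    shift_of_chk [27, 25, 30] (by decide) _ tiR_C11_1_eq rfl tiT1 tiT0 tiChk_C11_1⟩

theorem tiR_C11i_0_eq : prodBits ([30, 25, 27].map xL) = tiR_C11i_0 := by decide +kernel

theorem tiR_C11i_1_eq : prodBits ([30, 25, 27].map xL) = tiR_C11i_1 := by decide +kernel

theorem eo_C11i : EOp (wordG [30, 25, 27]) :=
  Or.inr ⟨shift_of_chk [30, 25, 27] (by decide) _ tiR_C11i_0_eq rfl tiT0 tiT1 tiChk_C11i_0,
    shift_of_chk [30, 25, 27] (by decide) _ tiR_C11i_1_eq rfl tiT1 tiT0 tiChk_C11i_1⟩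

theorem tiR_D10_0_eq : prodBits ([20, 22, 19].map xL) = tiR_D10_0 := by decide +kernel

theorem tiR_D10_1_eq : prodBits ([20, 22, 19].map xL) = tiR_D10_1 := by decide +kernel

theorem eo_D10 : EOp (wordG [20, 22, 19]) :=
  Or.inr ⟨shift_of_chk [20, 22, 19] (by decide) _ tiR_D10_0_eq rfl tiT0 tiT1 tiChk_D10_0,
    shift_of_chk [20, 22, 19] (by decide) _ tiR_D10_1_eq rfl tiT1 tiT0 tiChk_D10_1⟩

theorem tiR_D10i_0_eq : prodBits ([19, 22, 20].map xL) = tiR_D10i_0 := by decide +kernel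

theorem tiR_D10i_1_eq : prodBits ([19, 22, 20].map xL) = tiR_D10i_1 := by decide +kernel

theorem eo_D10i : EOp (wordG [19, 22, 20]) :=
  Or.inr ⟨shift_of_chk [19, 22, 20] (by decide) _ tiR_D10i_0_eq rfl tiT0 tiT1 tiChk_D10i_0,
    shift_of_chk [19, 22, 20] (by decide) _ tiR_D10i_1_eq rfl tiT1 tiT0 tiChk_D10i_1⟩

theorem tiR_D01_0_eq : prodBits ([19, 17].map xL) = tiR_D01_0 := by decide +kernel

theorem tiR_D01_1_eq : prodBits ([19, 17].map xL) = tiR_D01_1 := by decide +kernel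

theorem eo_D01 : EOp (wordG [19, 17]) :=
  Or.inl ⟨shift_of_chk [19, 17] (by decide) _ tiR_D01_0_eq rfl tiT0 tiT0 tiChk_D01_0,
    shift_of_chk [19, 17] (by decide) _ tiR_D01_1_eq rfl tiT1 tiT1 tiChk_D01_1⟩

theorem tiR_D01i_0_eq : prodBits ([17, 19].map xL) = tiR_D01i_0 := by decide +kernel

theorem tiR_D01i_1_eq : prodBits ([17, 19].map xL) = tiR_D01i_1 := by decide +kernel

theorem eo_D01i : EOp (wordG [17, 19]) :=
  Or.inl ⟨shift_of_chk [17, 19] (by decide) _ tiR_D01i_0_eq rfl tiT0 tiT0 tiChk_D01i_0,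
    shift_of_chk [17, 19] (by decide) _ tiR_D01i_1_eq rfl tiT1 tiT1 tiChk_D01i_1⟩

theorem tiR_D11_0_eq : prodBits ([20, 22, 17].map xL) = tiR_D11_0 := by decide +kernel

theorem tiR_D11_1_eq : prodBits ([20, 22, 17].map xL) = tiR_D11_1 := by decide +kernel

theorem eo_D11 : EOp (wordG [20, 22, 17]) :=
  Or.inr ⟨shift_of_chk [20, 22, 17] (by decide) _ tiR_D11_0_eq rfl tiT0 tiT1 tiChk_D11_0,
    shift_of_chk [20, 22, 17] (by decide) _ tiR_D11_1_eq rfl tiT1 tiT0 tiChk_D11_1⟩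

theorem tiR_D11i_0_eq : prodBits ([17, 22, 20].map xL) = tiR_D11i_0 := by decide +kernel

theorem tiR_D11i_1_eq : prodBits ([17, 22, 20].map xL) = tiR_D11i_1 := by decide +kernel

theorem eo_D11i : EOp (wordG [17, 22, 20]) :=
  Or.inr ⟨shift_of_chk [17, 22, 20] (by decide) _ tiR_D11i_0_eq rfl tiT0 tiT1 tiChk_D11i_0,
    shift_of_chk [17, 22, 20] (by decide) _ tiR_D11i_1_eq rfl tiT1 tiT0 tiChk_D11i_1⟩

theorem eo_one : EOp 1 :=
  Or.inl ⟨fun x hx => by rw [act_one]; exact hx, fun x hx => by rw [act_one]; exact hx⟩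

theorem eo_gen (g : GL chevF4.Idx (ZMod 2)) (hg : g ∈ genSet) : EOp g := by
  rcases gen_cases g hg with rfl | ⟨w, hw, rfl⟩
  · exact eo_one
  · simp only [genW, List.mem_cons, List.not_mem_nil, or_false] at hw
    rcases hw with rfl | rfl | rfl | rfl | rfl | rfl | rfl | rfl
    · exact eo_P
    · exact eo_Pm
    · exact eo_C10
    · exact eo_C01
    · exact eo_C11
    · exact eo_D10
    · exact eo_D01
    · exact eo_D11

theorem eo_gen_inv (g : GL chevF4.Idx (ZMod 2)) (hg : g ∈ genSet) : EOp g⁻¹ := by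
  rcases gen_cases g hg with rfl | ⟨w, hw, rfl⟩
  · rw [inv_one]; exact eo_one
  · rw [wordG_inv]
    simp only [genW, List.mem_cons, List.not_mem_nil, or_false] at hw
    rcases hw with rfl | rfl | rfl | rfl | rfl | rfl | rfl | rfl
    · exact eo_Pi
    · exact eo_Pmi
    · exact eo_C10i
    · exact eo_C01i
    · exact eo_C11i
    · exact eo_D10i
    · exact eo_D01i
    · exact eo_D11i

theorem x0_look : look tiT0 4 = true := by decide +kernel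

theorem x0_not : chkNot 4 tiT1 = true := by decide +kernel

/-- `²F₄(2)` is not perfect -/
theorem ti_sig : commutator ↥(twistedF4 (ZMod 2) 1) ≠ ⊤ := by
  have hx0 : vecB 4 ∈ Om tiT0 := ⟨4, look_mem tiT0 4 x0_look, rfl⟩
  have hx1 : vecB 4 ∉ Om tiT1 := by
    rintro ⟨v, hv, e⟩
    exact chkNot_sound 4 tiT1 x0_not v hv (vecB_inj 4 v e).symm
  have hodd : (∀ x ∈ Om tiT0, act x (wordG [27, 25, 28]) ∈ Om tiT1) ∧
      ∀ x ∈ Om tiT1, act x (wordG [27, 25, 28]) ∈ Om tiT0 :=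
    ⟨shift_of_chk [27, 25, 28] (by decide) _ tiR_C10_0_eq rfl tiT0 tiT1 tiChk_C10_0,
      shift_of_chk [27, 25, 28] (by decide) _ tiR_C10_1_eq rfl tiT1 tiT0 tiChk_C10_1⟩
  exact ti_eo act act_one act_mul (Om tiT0) (Om tiT1) (vecB 4) hx0 hx1 genSet eo_gen eo_gen_inv
    (wordG [27, 25, 28]) (Subgroup.subset_closure c10_mem) hodd

end Cfsg.Agent.Lib.Helper31.Ti
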