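import Cfsg.Agent.Lib.Helper31.F4TwoU
import Cfsg.Agent.Lib.Helper33.TiEO
import Cfsg.Agent.Lib.Helper33.TiLOOK
import Cfsg.Agent.Lib.Helper69.TiVEC

/-! # The Tits group (S1074): the colouring argument, generic part (helper31) -/

set_option autoImplicit false

namespace Cfsg.Agent.Lib.Helper31.Ti

open Cfsg Cfsg.Lie Cfsg.Agent.Lib.Helper18 Cfsg.Agent.Lib.Helper36 Cfsg.Agent.Lib.Helper31.F4P
  Cfsg.Agent.Lib.Helper31.F4Two

/-- the matrix of a word in the twelve root elements, in bits -/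
theorem wordG_bits : ∀ (w : List ℕ), (∀ r ∈ w, r ∈ roots12) →
    ((wordG w : GL chevF4.Idx (ZMod 2)) : Matrix chevF4.Idx chevF4.Idx (ZMod 2)) =
      bitMat (prodBits (w.map xL))
  | [], _ => by
    rw [wordG_nil, Units.val_one]
    exact bitMat_one
  | r :: w, h => by
    rw [wordG_cons, Units.val_mul, wordG_bits w (fun s hs => h s (List.mem_cons_of_mem _ hs))]
    have e : ((xg r : GL chevF4.Idx (ZMod 2)) : Matrix chevF4.Idx chevF4.Idx (ZMod 2)) = bitMat (xL r) := by
      rw [xGL_coe]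
      exact xL_spec r (h r (List.mem_cons_self ..))
    rw [e, bitMat_mul]
    rfl

/-- the right action on row vectors -/
def act (x : chevF4.Idx → ZMod 2) (g : GL chevF4.Idx (ZMod 2)) : chevF4.Idx → ZMod 2 :=
  Matrix.vecMul x (g : Matrix chevF4.Idx chevF4.Idx (ZMod 2))

theorem act_one (x : chevF4.Idx → ZMod 2) : act x 1 = x := by
  unfold act
  rw [Units.val_one, Matrix.vecMul_one]

theorem act_mul (x : chevF4.Idx → ZMod 2) (g h : GL chevF4.Idx (ZMod 2)) :
    act x (g * h) = act (act x g) h := by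
  unfold act
  rw [Units.val_mul, Matrix.vecMul_vecMul]

/-- a checked word maps the vectors of `Ta` into `Tb` -/
theorem shift_of_chk (w : List ℕ) (hw : ∀ r ∈ w, r ∈ roots12) (R : List ℕ)
    (hR : prodBits (w.map xL) = R) (hlen : R.length = 52) (Ta Tb : Tab3) (h : chk R Ta Tb = true) :
    ∀ x ∈ Om Ta, act x (wordG w) ∈ Om Tb := by
  rintro x ⟨v, hv, rfl⟩
  refine ⟨rmul v R 0, chk_sound R Ta Tb h v hv, ?_⟩
  unfold act
  rw [wordG_bits w hw, hR, vecB_mul v R hlen]

/-- the generating set of `²F₄(2)` -/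
def genSet : Set (GL chevF4.Idx (ZMod 2)) :=
  {g | ∃ w ∈ f4Words (ZMod 2) 1, (g : Matrix chevF4.Idx chevF4.Idx (ZMod 2)) = chevF4.wordMat (ZMod 2) w}

theorem twistedF4_eq : twistedF4 (ZMod 2) 1 = Subgroup.closure genSet := rfl

/-- the eight generator words -/
def genW : List (List ℕ) :=
  [[33, 24], [14, 23], [27, 25, 28], [28, 30], [27, 25, 30], [20, 22, 19], [19, 17], [20, 22, 17]]

theorem gen_cases (g : GL chevF4.Idx (ZMod 2)) (hg : g ∈ genSet) : g = 1 ∨ ∃ w ∈ genW, g = wordG w := by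
  obtain ⟨w, hw, e⟩ := hg
  have hg' : g = wordGL chevF4 hF4 (ZMod 2) w := Units.ext (by rw [e, wordGL_coe])
  subst hg'
  have hp := pair_word
  have hc := class_word
  simp only [pow_zero] at hp hc
  rcases hw with ⟨t, rfl | rfl⟩ | ⟨t, u, rfl | rfl⟩
  · rw [hp]
    rcases zmod2_cases t with rfl | rfl
    · left; simp
    · right; exact ⟨[33, 24], by decide, by simp [f4p1, f4p4]⟩
  · rw [hp]
    rcases zmod2_cases t with rfl | rfl
    · left; simp
    · right; exact ⟨[14, 23], by decide, by simp [f4m1, f4m4]⟩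
  · rw [hc]
    rcases zmod2_cases t with rfl | rfl <;> rcases zmod2_cases u with rfl | rfl
    · left; simp
    · right; exact ⟨[28, 30], by decide, by simp [f4ab, f4aab]⟩
    · right; exact ⟨[27, 25, 28], by decide, by simp [f4a, f4b, f4ab]⟩
    · right; exact ⟨[27, 25, 30], by decide, by simp [f4a, f4b, f4aab]⟩
  · rw [hc]
    rcases zmod2_cases t with rfl | rfl <;> rcases zmod2_cases u with rfl | rfl
    · left; simp
    · right; exact ⟨[19, 17], by decide, by simp [f4mab, f4maab]⟩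
    · right; exact ⟨[20, 22, 19], by decide, by simp [f4ma, f4mb, f4mab]⟩
    · right; exact ⟨[20, 22, 17], by decide, by simp [f4ma, f4mb, f4maab]⟩

/-- the element `x_a(1) x_b(1) x_{a+b}(1)` is a generator -/
theorem c10_mem : wordG [27, 25, 28] ∈ genSet := by
  have hmem : b2ClassWord 1 f4a f4b f4ab f4aab (1 : ZMod 2) 0 ∈ f4Words (ZMod 2) 1 := by
    unfold f4Words
    right
    exact ⟨1, 0, Or.inl rfl⟩
  have hc := class_word f4a f4b f4ab f4aab 1 0
  simp only [pow_zero] at hc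
  have e : ((wordG [27, 25, 28] : GL chevF4.Idx (ZMod 2)) : Matrix chevF4.Idx chevF4.Idx (ZMod 2)) =
      chevF4.wordMat (ZMod 2) (b2ClassWord 1 f4a f4b f4ab f4aab (1 : ZMod 2) 0) := by
    rw [← wordGL_coe chevF4 hF4, hc]
    simp [f4a, f4b, f4ab]
  exact ⟨_, hmem, e⟩

end Cfsg.Agent.Lib.Helper31.Ti
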