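import Cfsg.Agent.Lib.Helper1.TitsEvenA
import Cfsg.Agent.Lib.Helper1.TitsMain
import Cfsg.Agent.Lib.Helper89.Mult.T2Bound
import Cfsg.Agent.Lib.Helper89.StemSafe

/-! # The Schur multiplier of the Tits group has no `2`-torsion (helper31; S2115, the `p = 2` half)

the final glue: helper89's presentation on five elements of order three (cubes and conjugation relators only, bounded
by the coset enumerations `C₃ < L₃(3) < ²F₄(2)'`, `T2Bound.boundT2`), helper1's family `gE` in the Tits group
(`gE_pow_three`, `gE_closure`, relators checked on packed matrices), and `Helper89.SafePres.ker_eq_bot_of_safe`. -/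

set_option autoImplicit false
set_option maxRecDepth 100000
set_option maxHeartbeats 0

namespace Cfsg.Agent.Lib.Helper31.TitsEven

open Cfsg Cfsg.Lie Cfsg.Agent.Lib.Helper89.CosetCert Cfsg.Agent.Lib.Helper89.SafePres
open Cfsg.Agent.Lib.Helper89.Mult.T2Bound Cfsg.Agent.Lib.Helper1.TitsGen

/-- the `68` conjugation relators hold in the Tits group (packed matrices, in the kernel) -/
theorem even_valid_bits : (srelsT2.map SRel.word).all relOKE = true := by decide +kernel

theorem even_valid : ∀ r ∈ srelsT2, ev gE r.word = 1 := fun r hr =>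
  gE_ev_eq_one_of_all (srelsT2.map SRel.word) even_valid_bits r.word (List.mem_map_of_mem hr)

/-- a finite stem extension of the Tits group whose kernel is a `2`-group is an isomorphism -/
theorem tits_ker_bot_two (Γ : Type) [Group Γ] [Finite Γ] (σ : Γ →* TitsGroup) (hσ : Cfsg.IsStemExtension σ)
    (hpk : ∀ z ∈ σ.ker, ∃ n : ℕ, z ^ (2 ^ n) = 1) : σ.ker = ⊥ := by
  have : Fact (Nat.Prime 2) := ⟨Nat.prime_two⟩
  exact ker_eq_bot_of_safe 2 5 gE (fun _ => 3) gE_pow_three (fun _ => by decide) gE_closure srelsT2 even_valid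
    (fun L _ _ t ht hs => (boundT2 L t ht hs).trans_eq tits_card.symm) σ hσ hpk

/-- **the `p = 2` clause of S2115**: the kernel of a finite stem extension of the Tits group has no element of even
order -/
theorem tits_not_dvd_two (Γ : Type) [Group Γ] [Finite Γ] (σ : Γ →* TitsGroup) (hσ : Cfsg.IsStemExtension σ) :
    ∀ z ∈ σ.ker, ¬ 2 ∣ orderOf z :=
  tits_h2_of tits_ker_bot_two Γ σ hσ

end Cfsg.Agent.Lib.Helper31.TitsEven
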