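import Mathlib
import Cfsg.Prelude.Def_ClassicalGeometry
import Cfsg.Prelude.Def_GeometricClasses
import Cfsg.Agent.Lib.Helper59.TqDefs
import Cfsg.Agent.Lib.Helper37.TqTWODERcore
import Cfsg.Agent.Lib.Helper8.OrthFormsMinus

/-! # TWODER-MM `twoder_model_minus` (sub-leaf of TQ-TWODER, helper37; Tq hive of helper59) -/

set_option autoImplicit false

namespace Cfsg.Agent.Lib.Helper59.Tq

open Module

variable {F : Type*} [Field F]

/-- the vector `e_i + s f_i` of the hyperbolic part -/
def twodermm_vec (m : ℕ) (i : Fin m) (s : F) : (Fin m ⊕ Fin m) ⊕ Fin 2 → F :=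
  Sum.elim (Sum.elim (fun k => if k = i then 1 else 0) (fun k => if k = i then s else 0))
    (fun _ => 0)

/-- the basis vector `z_c` of the anisotropic part -/
def twodermm_z (m : ℕ) (c : Fin 2) : (Fin m ⊕ Fin m) ⊕ Fin 2 → F :=
  Sum.elim (fun _ => 0) (fun k => if k = c then 1 else 0)

theorem twodermm_polar (m : ℕ) (x y : (Fin m ⊕ Fin m) ⊕ Fin 2 → F) :
    QuadraticMap.polar (Cfsg.quadFormMinus m F 0 1) x y
      = (∑ i : Fin m, (x (Sum.inl (Sum.inl i)) * y (Sum.inl (Sum.inr i))
          + y (Sum.inl (Sum.inl i)) * x (Sum.inl (Sum.inr i))))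
        + (2 * x (Sum.inr 0) * y (Sum.inr 0) + 2 * x (Sum.inr 1) * y (Sum.inr 1)) := by
  rw [Cfsg.Agent.Lib.Helper8.minusForm_coe, Cfsg.Agent.Lib.Helper8.polar_minusForm]
  ring

theorem twodermm_Q_vec (m : ℕ) (i : Fin m) (s : F) :
    Cfsg.quadFormMinus m F 0 1 (twodermm_vec m i s) = s := by
  unfold Cfsg.quadFormMinus twodermm_vec
  simp

theorem twodermm_Q_z (m : ℕ) (c : Fin 2) :
    Cfsg.quadFormMinus m F 0 1 (twodermm_z m c) = 1 := by
  unfold Cfsg.quadFormMinus twodermm_z
  fin_cases c <;> simp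

theorem twodermm_polar_vec_vec (m : ℕ) (i i' : Fin m) (s s' : F) :
    QuadraticMap.polar (Cfsg.quadFormMinus m F 0 1) (twodermm_vec m i s) (twodermm_vec m i' s')
      = if i = i' then s + s' else 0 := by
  rw [twodermm_polar]
  simp only [twodermm_vec, Sum.elim_inl, Sum.elim_inr, mul_zero, add_zero]
  by_cases h : i = i'
  · subst h
    rw [if_pos rfl, Finset.sum_eq_single i]
    · simp
      ring
    · intro k _ hk
      simp [hk]
    · intro h
      exact absurd (Finset.mem_univ i) h
  · rw [if_neg h]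
    apply Finset.sum_eq_zero
    intro k _
    by_cases hk : k = i
    · subst hk
      simp [h]
    · simp [hk]

theorem twodermm_polar_vec_z (m : ℕ) (i : Fin m) (s : F) (c : Fin 2) :
    QuadraticMap.polar (Cfsg.quadFormMinus m F 0 1) (twodermm_vec m i s) (twodermm_z m c) = 0 := by
  rw [twodermm_polar]
  unfold twodermm_vec twodermm_z
  simp

theorem twodermm_polar_z_vec (m : ℕ) (i : Fin m) (s : F) (c : Fin 2) :
    QuadraticMap.polar (Cfsg.quadFormMinus m F 0 1) (twodermm_z m c) (twodermm_vec m i s) = 0 := by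
  rw [twodermm_polar]
  unfold twodermm_vec twodermm_z
  simp

theorem twodermm_polar_z_z (m : ℕ) :
    QuadraticMap.polar (Cfsg.quadFormMinus m F 0 1) (twodermm_z m 0) (twodermm_z m 1) = 0 := by
  rw [twodermm_polar]
  unfold twodermm_z
  simp

/-- the sign attached to a boolean -/
def twodermm_sgn (b : Bool) : F := if b then -1 else 1

theorem twodermm_sgn_ne (b : Bool) : (twodermm_sgn b : F) ≠ 0 := by
  unfold twodermm_sgn
  split_ifs <;> simp

theorem twodermm_sgn_add_of_ne {b b' : Bool} (h : b ≠ b') :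
    (twodermm_sgn b : F) + twodermm_sgn b' = 0 := by
  unfold twodermm_sgn
  cases b <;> cases b' <;> simp at h ⊢

/-- even index -/
def twodermm_i0 {d : ℕ} (t : Fin d) : Fin (2 * d) := ⟨2 * t.val, by have := t.2; omega⟩

/-- odd index -/
def twodermm_i1 {d : ℕ} (t : Fin d) : Fin (2 * d) := ⟨2 * t.val + 1, by have := t.2; omega⟩

theorem twodermm_i0_ne_i1 {d : ℕ} (t t' : Fin d) : twodermm_i0 t ≠ twodermm_i1 t' := by
  intro h
  have := congrArg Fin.val h
  simp only [twodermm_i0, twodermm_i1] at this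
  omega

theorem twodermm_i0_inj {d : ℕ} {t t' : Fin d} (h : twodermm_i0 t = twodermm_i0 t') : t = t' := by
  have := congrArg Fin.val h
  simp only [twodermm_i0] at this
  exact Fin.ext (by omega)

theorem twodermm_i1_inj {d : ℕ} {t t' : Fin d} (h : twodermm_i1 t = twodermm_i1 t') : t = t' := by
  have := congrArg Fin.val h
  simp only [twodermm_i1] at this
  exact Fin.ext (by omega)

/-- the family `v` -/
def twodermm_v (d : ℕ) : Option (Fin d × Bool) → ((Fin (2 * d) ⊕ Fin (2 * d)) ⊕ Fin 2 → F)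
  | none => twodermm_z (2 * d) 0
  | some (t, b) => twodermm_vec (2 * d) (twodermm_i0 t) (twodermm_sgn b)

/-- the family `w` -/
def twodermm_w (d : ℕ) : Option (Fin d × Bool) → ((Fin (2 * d) ⊕ Fin (2 * d)) ⊕ Fin 2 → F)
  | none => twodermm_z (2 * d) 1
  | some (t, b) => twodermm_vec (2 * d) (twodermm_i1 t) (twodermm_sgn b)

theorem twodermm_single_ll (h2 : (2 : F) ≠ 0) (m : ℕ) (i : Fin m) :
    (Pi.single (Sum.inl (Sum.inl i)) 1 : (Fin m ⊕ Fin m) ⊕ Fin 2 → F)
      = (2 : F)⁻¹ • (twodermm_vec m i 1 + twodermm_vec m i (-1)) := by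
  funext k
  rcases k with (k | k) | k
  · by_cases hk : k = i
    · subst hk
      simp [twodermm_vec]
      field_simp
      ring
    · have : (Sum.inl (Sum.inl k) : (Fin m ⊕ Fin m) ⊕ Fin 2) ≠ Sum.inl (Sum.inl i) := by
        intro e; exact hk (Sum.inl_injective (Sum.inl_injective e))
      simp [twodermm_vec, hk, Pi.single_apply, this]
  · by_cases hk : k = i <;> simp [twodermm_vec, hk]
  · simp [twodermm_vec]

theorem twodermm_single_lr (h2 : (2 : F) ≠ 0) (m : ℕ) (i : Fin m) :
    (Pi.single (Sum.inl (Sum.inr i)) 1 : (Fin m ⊕ Fin m) ⊕ Fin 2 → F)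
      = (2 : F)⁻¹ • (twodermm_vec m i 1 - twodermm_vec m i (-1)) := by
  funext k
  rcases k with (k | k) | k
  · simp [twodermm_vec, Pi.single_apply]
  · by_cases hk : k = i
    · subst hk
      simp [twodermm_vec]
      field_simp
      ring
    · have : (Sum.inl (Sum.inr k) : (Fin m ⊕ Fin m) ⊕ Fin 2) ≠ Sum.inl (Sum.inr i) := by
        intro e; exact hk (Sum.inr_injective (Sum.inl_injective e))
      simp [twodermm_vec, hk, Pi.single_apply, this]
  · simp [twodermm_vec, Pi.single_apply]

theorem twodermm_single_r (m : ℕ) (c : Fin 2) :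
    (Pi.single (Sum.inr c) 1 : (Fin m ⊕ Fin m) ⊕ Fin 2 → F) = twodermm_z m c := by
  funext k
  rcases k with k | k
  · simp [twodermm_z, Pi.single_apply]
  · by_cases hk : k = c
    · subst hk
      simp [twodermm_z]
    · have : (Sum.inr k : (Fin m ⊕ Fin m) ⊕ Fin 2) ≠ Sum.inr c := by
        intro e; exact hk (Sum.inr_injective e)
      simp [twodermm_z, hk, Pi.single_apply, this]

theorem twodermm_vec_mem (d : ℕ) (i : Fin (2 * d)) (b : Bool) :
    twodermm_vec (2 * d) i (twodermm_sgn b : F)
      ∈ Set.range (twodermm_v (F := F) d) ∪ Set.range (twodermm_w (F := F) d) := by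
  have hi := i.2
  rcases Nat.even_or_odd' i.val with ⟨k, hk | hk⟩
  · left
    refine ⟨some (⟨k, by omega⟩, b), ?_⟩
    have : twodermm_i0 (⟨k, by omega⟩ : Fin d) = i := Fin.ext (by simp [twodermm_i0, hk])
    simp [twodermm_v, this]
  · right
    refine ⟨some (⟨k, by omega⟩, b), ?_⟩
    have : twodermm_i1 (⟨k, by omega⟩ : Fin d) = i := Fin.ext (by simp [twodermm_i1, hk])
    simp [twodermm_w, this]

/-- SUB-LEAF TWODER-MM: the plane family of the minus model `∑ x_i y_i + z_1² + z_2²` -/
theorem twoder_model_minus (h2 : (2 : F) ≠ 0) (d'' : ℕ) :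
    ∃ v w : Option (Fin d'' × Bool) → ((Fin (2 * d'') ⊕ Fin (2 * d'')) ⊕ Fin 2 → F),
      twoder_Fam (Cfsg.quadFormMinus (2 * d'') F 0 1) v w := by
  refine ⟨twodermm_v d'', twodermm_w d'', ?_, ?_, ?_, ?_, ?_, ?_⟩
  · rintro (_ | ⟨t, b⟩)
    · simp only [twodermm_v, twodermm_w, twodermm_Q_z]
    · simp only [twodermm_v, twodermm_w, twodermm_Q_vec]
  · rintro (_ | ⟨t, b⟩)
    · simp only [twodermm_v, twodermm_Q_z]
      exact one_ne_zero
    · simp only [twodermm_v, twodermm_Q_vec]
      exact twodermm_sgn_ne b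
  · rintro (_ | ⟨t, b⟩) (_ | ⟨t', b'⟩)
    · exact twodermm_polar_z_z _
    · exact twodermm_polar_z_vec _ _ _ _
    · exact twodermm_polar_vec_z _ _ _ _
    · simp only [twodermm_v, twodermm_w]
      rw [twodermm_polar_vec_vec, if_neg (twodermm_i0_ne_i1 t t')]
  · rintro (_ | ⟨t, b⟩) (_ | ⟨t', b'⟩) hne
    · exact absurd rfl hne
    · exact twodermm_polar_z_vec _ _ _ _
    · exact twodermm_polar_vec_z _ _ _ _
    · simp only [twodermm_v]
      rw [twodermm_polar_vec_vec]
      split_ifs with h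
      · have ht : t = t' := twodermm_i0_inj h
        subst ht
        have hb : b ≠ b' := fun e => hne (by rw [e])
        exact twodermm_sgn_add_of_ne hb
      · rfl
  · rintro (_ | ⟨t, b⟩) (_ | ⟨t', b'⟩) hne
    · exact absurd rfl hne
    · exact twodermm_polar_z_vec _ _ _ _
    · exact twodermm_polar_vec_z _ _ _ _
    · simp only [twodermm_w]
      rw [twodermm_polar_vec_vec]
      split_ifs with h
      · have ht : t = t' := twodermm_i1_inj h
        subst ht
        have hb : b ≠ b' := fun e => hne (by rw [e])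
        exact twodermm_sgn_add_of_ne hb
      · rfl
  · rw [eq_top_iff, ← (Pi.basisFun F ((Fin (2 * d'') ⊕ Fin (2 * d'')) ⊕ Fin 2)).span_eq]
    apply Submodule.span_le.2
    rintro _ ⟨k, rfl⟩
    rw [Pi.basisFun_apply]
    have hp : ∀ i : Fin (2 * d''), twodermm_vec (2 * d'') i (1 : F)
        ∈ Submodule.span F (Set.range (twodermm_v (F := F) d'') ∪ Set.range (twodermm_w d'')) := by
      intro i
      have := twodermm_vec_mem (F := F) d'' i false
      simp only [twodermm_sgn] at this
      exact Submodule.subset_span (by simpa using this)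
    have hm : ∀ i : Fin (2 * d''), twodermm_vec (2 * d'') i (-1 : F)
        ∈ Submodule.span F (Set.range (twodermm_v (F := F) d'') ∪ Set.range (twodermm_w d'')) := by
      intro i
      have := twodermm_vec_mem (F := F) d'' i true
      simp only [twodermm_sgn] at this
      exact Submodule.subset_span (by simpa using this)
    rcases k with (i | i) | c
    · rw [twodermm_single_ll h2]
      exact Submodule.smul_mem _ _ (Submodule.add_mem _ (hp i) (hm i))
    · rw [twodermm_single_lr h2]
      exact Submodule.smul_mem _ _ (Submodule.sub_mem _ (hp i) (hm i))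
    · rw [twodermm_single_r]
      apply Submodule.subset_span
      fin_cases c
      · left; exact ⟨none, rfl⟩
      · right; exact ⟨none, rfl⟩

end Cfsg.Agent.Lib.Helper59.Tq
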