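import Mathlib
import Cfsg.Agent.Lib.Helper44.HermUnipotent

/-!
# S5954 (Und hive, helper31): isometries with scalar square of a hermitian space (abstract part)

`X` is an isometry of the hermitian space `(V, H)` over the field with `q²` elements (odd
characteristic) with `X ∘ X = l² • id`.
-/

set_option autoImplicit false
set_option linter.unusedSectionVars false

namespace Cfsg.Agent.Lib.Helper31.UndB

open Module Cfsg.Agent.Lib.Helper44 Cfsg.Agent.Lib.Helper44.HU

universe u v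

variable {K : Type v} [Field K] [Fintype K] {q : ℕ} {V : Type u} [AddCommGroup V] [Module K V]
  {H : V → V → K}

/-- eigenvectors whose eigenvalues do not match are orthogonal -/
theorem b1_eig_orth (hH : IsHermSpace q H) (X : V →ₗ[K] V)
    (hX : ∀ a b, H (X a) (X b) = H a b) (c d : K) (hcd : c * d ^ q ≠ 1) (a b : V)
    (ha : X a = c • a) (hb : X b = d • b) : H a b = 0 := by
  have h1 := hX a b
  rw [ha, hb, hH.smul_left, hH.smul_right] at h1
  have h2 : (c * d ^ q - 1) * H a b = 0 := by linear_combination h1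
  rcases mul_eq_zero.1 h2 with h | h
  · exact absurd (sub_eq_zero.1 h) hcd
  · exact h

/-- a family with a dual family inside its span: independence and non-degeneracy of the span -/
theorem b1_gram_dual (hH : IsHermSpace q H) {ι : Type*} [Fintype ι] [DecidableEq ι]
    (g g' : ι → V) (hg' : ∀ s, g' s ∈ Submodule.span K (Set.range g))
    (hG : ∀ s t, H (g s) (g' t) = if s = t then 1 else 0) :
    LinearIndependent K g ∧
      ∀ w ∈ Submodule.span K (Set.range g), w ≠ 0 →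
        ∃ y ∈ Submodule.span K (Set.range g), H w y ≠ 0 := by
  have hcoef : ∀ (c : ι → K) (t : ι), H (∑ s, c s • g s) (g' t) = c t := by
    intro c t
    rw [hH.sum_left]
    simp only [hH.smul_left, hG, mul_ite, mul_one, mul_zero]
    simp
  constructor
  · rw [Fintype.linearIndependent_iff]
    intro c hc t
    rw [← hcoef c t, hc, hH.zero_left]
  · intro w hw hw0
    obtain ⟨c, rfl⟩ := (Submodule.mem_span_range_iff_exists_fun K).1 hw
    by_contra hcon
    push Not at hcon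
    apply hw0
    have : ∀ t, c t = 0 := by
      intro t
      rw [← hcoef c t]
      exact hcon (g' t) (hg' t)
    simp [this]

/-- the span of a family of eigenvectors is invariant -/
theorem b1_span_invariant (X : V →ₗ[K] V) {ι : Type*} (g : ι → V) (c : ι → K)
    (hg : ∀ s, X (g s) = c s • g s) :
    (Submodule.span K (Set.range g)).map X ≤ Submodule.span K (Set.range g) := by
  rw [Submodule.map_span, Submodule.span_le]
  rintro _ ⟨_, ⟨s, rfl⟩, rfl⟩
  rw [hg]
  exact Submodule.smul_mem _ _ (Submodule.subset_span ⟨s, rfl⟩)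

/-- in odd characteristic `-1 ≠ 1` -/
theorem b1_neg_one_ne_one (h2 : (2 : K) ≠ 0) : (-1 : K) ≠ 1 := by
  intro h
  apply h2
  have : (2 : K) = 1 - (-1) := by ring
  rw [this, h, sub_self]

/-- inside the orthogonal complement of a proper invariant non-degenerate subspace there is a
hyperbolic pair of eigenvectors (case `l ^ (q + 1) = -1`) -/
theorem b1_hyp_step [FiniteDimensional K V] (hK : Fintype.card K = q ^ 2) (h2 : (2 : K) ≠ 0)
    (hq2 : Odd q) (hH : IsHermSpace q H) (X : V →ₗ[K] V) (hX : ∀ a b, H (X a) (X b) = H a b)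
    (l : K) (hl : l ^ (q + 1) = -1) (hXX : ∀ v, X (X v) = (l * l) • v)
    (W : Submodule K V) (hWX : ∀ w ∈ W, X w ∈ W)
    (hWnd : ∀ w ∈ W, (∀ u ∈ W, H u w = 0) → w = 0) (hWtop : W ≠ ⊤) :
    ∃ a b : V, X a = l • a ∧ X b = (-l) • b ∧ H a b = 1 ∧
      (∀ w ∈ W, H a w = 0 ∧ H w a = 0 ∧ H b w = 0 ∧ H w b = 0) := by
  classical
  have hq0 : q ≠ 0 := by have := two_le_q_of_card hK; omega
  have hsymm : ∀ a b, H a b = 0 → H b a = 0 := herm_symm_zero hq0 hH
  obtain ⟨-, hW'herm, hcompl⟩ := isCompl_hermOrth hK hH W hWnd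
  set W' := hermOrth hH W with hW'
  have hW'bot : W' ≠ ⊥ := by
    intro hbot
    apply hWtop
    have := hcompl.sup_eq_top
    rwa [hbot, sup_bot_eq] at this
  have : Nontrivial ↥W' := (Submodule.nontrivial_iff_ne_bot).2 hW'bot
  obtain ⟨w, hw⟩ := hW'herm.exists_norm_one hK
  have hw1 : H (w : V) (w : V) = 1 := hw
  have hl0 : l ≠ 0 := by
    rintro rfl
    rw [zero_pow (by omega)] at hl
    exact absurd hl.symm (by simp)
  have hll0 : l * l ≠ 0 := mul_ne_zero hl0 hl0
  -- `W'` is invariant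
  have hW'X : ∀ x ∈ W', X x ∈ W' := by
    intro x hx y hy
    have hy' : (l * l)⁻¹ • X y ∈ W := W.smul_mem _ (hWX y hy)
    have e1 : X ((l * l)⁻¹ • X y) = y := by
      rw [map_smul, hXX, smul_smul, inv_mul_cancel₀ hll0, one_smul]
    rw [← e1, hX]
    exact hx _ hy'
  have hXw : X (w : V) ∈ W' := hW'X _ w.2
  obtain ⟨a₀, ha₀⟩ : ∃ a₀ : V, a₀ = (w : V) + l⁻¹ • X (w : V) := ⟨_, rfl⟩
  obtain ⟨b₀, hb₀⟩ : ∃ b₀ : V, b₀ = (w : V) - l⁻¹ • X (w : V) := ⟨_, rfl⟩
  have ha₀W : a₀ ∈ W' := by rw [ha₀]; exact W'.add_mem w.2 (W'.smul_mem _ hXw)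
  have hb₀W : b₀ ∈ W' := by rw [hb₀]; exact W'.sub_mem w.2 (W'.smul_mem _ hXw)
  have hll : l⁻¹ * (l * l) = l := by field_simp
  have hXa₀ : X a₀ = l • a₀ := by
    rw [ha₀, map_add, map_smul, hXX, smul_smul, hll, smul_add, smul_smul, mul_inv_cancel₀ hl0,
      one_smul, add_comm]
  have hXb₀ : X b₀ = (-l) • b₀ := by
    rw [hb₀, map_sub, map_smul, hXX, smul_smul, hll, smul_sub, smul_smul, neg_mul,
      mul_inv_cancel₀ hl0, neg_smul, neg_smul, one_smul]
    abel
  have hne : (-1 : K) ≠ 1 := b1_neg_one_ne_one h2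
  have hlq : l * l ^ q ≠ 1 := by
    rw [← pow_succ', hl]
    exact hne
  have hlq' : (-l) * (-l) ^ q ≠ 1 := by
    rw [← pow_succ', Even.neg_pow (by obtain ⟨j, hj⟩ := hq2; exact ⟨j + 1, by omega⟩), hl]
    exact hne
  have haa : H a₀ a₀ = 0 := b1_eig_orth hH X hX l l hlq a₀ a₀ hXa₀ hXa₀
  have hbb : H b₀ b₀ = 0 := b1_eig_orth hH X hX (-l) (-l) hlq' b₀ b₀ hXb₀ hXb₀
  have hc : H a₀ b₀ ≠ 0 := by
    intro hc0
    have hc1 : H b₀ a₀ = 0 := hsymm _ _ hc0
    have hsum : a₀ + b₀ = (2 : K) • (w : V) := by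
      rw [ha₀, hb₀, two_smul]
      abel
    have h3 : H (a₀ + b₀) (a₀ + b₀) = 0 := by
      rw [hH.add_left, hH.add_right hK, hH.add_right hK, haa, hbb, hc0, hc1]
      ring
    rw [hsum, hH.smul_left, hH.smul_right, hw1, mul_one] at h3
    rcases mul_eq_zero.1 h3 with h | h
    · exact h2 h
    · exact h2 (pow_eq_zero_iff hq0 |>.1 h)
  refine ⟨(H a₀ b₀)⁻¹ • a₀, b₀, ?_, hXb₀, ?_, ?_⟩
  · rw [map_smul, hXa₀, smul_comm]
  · rw [hH.smul_left, inv_mul_cancel₀ hc]
  · intro y hy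
    have e1 : H a₀ y = 0 := ha₀W y hy
    have e2 : H b₀ y = 0 := hb₀W y hy
    refine ⟨?_, ?_, e2, hsymm _ _ e2⟩
    · rw [hH.smul_left, e1, mul_zero]
    · apply hsymm
      rw [hH.smul_left, e1, mul_zero]


/-- the data of `k` hyperbolic pairs of eigenvectors -/
structure HypFam (H : V → V → K) (X : V →ₗ[K] V) (l : K) (k : ℕ) (u v : Fin k → V) : Prop where
  hu : ∀ i, X (u i) = l • u i
  hv : ∀ i, X (v i) = (-l) • v i
  huv : ∀ i j, H (u i) (v j) = if i = j then 1 else 0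

/-- the Gram matrix of a hyperbolic family against the swapped family -/
theorem b1_fam_gram (hK : Fintype.card K = q ^ 2) (h2 : (2 : K) ≠ 0) (hq2 : Odd q)
    (hH : IsHermSpace q H) (X : V →ₗ[K] V) (hX : ∀ a b, H (X a) (X b) = H a b)
    (l : K) (hl : l ^ (q + 1) = -1) {k : ℕ} {u v : Fin k → V} (hf : HypFam H X l k u v) :
    ∀ s t : Fin k ⊕ Fin k, H (Sum.elim u v s) (Sum.elim v u t) = if s = t then 1 else 0 := by
  have hq0 : q ≠ 0 := by have := two_le_q_of_card hK; omega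
  have hne : (-1 : K) ≠ 1 := b1_neg_one_ne_one h2
  have hlq : l * l ^ q ≠ 1 := by
    rw [← pow_succ', hl]
    exact hne
  have hlq' : (-l) * (-l) ^ q ≠ 1 := by
    rw [← pow_succ', Even.neg_pow (by obtain ⟨j, hj⟩ := hq2; exact ⟨j + 1, by omega⟩), hl]
    exact hne
  rintro (i | i) (j | j)
  · simp only [Sum.elim_inl, Sum.inl.injEq]
    exact hf.huv i j
  · simp only [Sum.elim_inl, Sum.elim_inr, reduceCtorEq, if_false]
    exact b1_eig_orth hH X hX l l hlq _ _ (hf.hu i) (hf.hu j)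
  · simp only [Sum.elim_inl, Sum.elim_inr, reduceCtorEq, if_false]
    exact b1_eig_orth hH X hX (-l) (-l) hlq' _ _ (hf.hv i) (hf.hv j)
  · simp only [Sum.elim_inr, Sum.inr.injEq]
    rw [← hH.conj, hf.huv j i]
    by_cases hij : i = j
    · subst hij; simp
    · rw [if_neg hij, if_neg (Ne.symm hij), zero_pow hq0]

/-- the span of a hyperbolic family -/
theorem b1_fam_span [FiniteDimensional K V] (hK : Fintype.card K = q ^ 2) (h2 : (2 : K) ≠ 0)
    (hq2 : Odd q) (hH : IsHermSpace q H) (X : V →ₗ[K] V) (hX : ∀ a b, H (X a) (X b) = H a b)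
    (l : K) (hl : l ^ (q + 1) = -1) {k : ℕ} {u v : Fin k → V} (hf : HypFam H X l k u v) :
    LinearIndependent K (Sum.elim u v) ∧
    finrank K (Submodule.span K (Set.range (Sum.elim u v))) = 2 * k ∧
    (Submodule.span K (Set.range (Sum.elim u v))).map X ≤
      Submodule.span K (Set.range (Sum.elim u v)) ∧
    (∀ w ∈ Submodule.span K (Set.range (Sum.elim u v)), w ≠ 0 →
        ∃ y ∈ Submodule.span K (Set.range (Sum.elim u v)), H w y ≠ 0) := by
  classical
  have hgram := b1_fam_gram hK h2 hq2 hH X hX l hl hf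
  have hg' : ∀ s, Sum.elim v u s ∈ Submodule.span K (Set.range (Sum.elim u v)) := by
    rintro (i | i)
    · exact Submodule.subset_span ⟨Sum.inr i, rfl⟩
    · exact Submodule.subset_span ⟨Sum.inl i, rfl⟩
  obtain ⟨hli, hnd⟩ := b1_gram_dual hH (Sum.elim u v) (Sum.elim v u) hg' hgram
  refine ⟨hli, ?_, ?_, hnd⟩
  · rw [finrank_span_eq_card hli, Fintype.card_sum, Fintype.card_fin]
    ring
  · apply b1_span_invariant X (Sum.elim u v) (Sum.elim (fun _ => l) (fun _ => -l))
    rintro (i | i)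
    · exact hf.hu i
    · exact hf.hv i

/-- a hyperbolic family has at most `finrank / 2` pairs -/
theorem b1_fam_le [FiniteDimensional K V] (hK : Fintype.card K = q ^ 2) (h2 : (2 : K) ≠ 0)
    (hq2 : Odd q) (hH : IsHermSpace q H) (X : V →ₗ[K] V) (hX : ∀ a b, H (X a) (X b) = H a b)
    (l : K) (hl : l ^ (q + 1) = -1) {k : ℕ} {u v : Fin k → V} (hf : HypFam H X l k u v) :
    2 * k ≤ finrank K V := by
  obtain ⟨hli, -, -, -⟩ := b1_fam_span hK h2 hq2 hH X hX l hl hf
  have := hli.fintype_card_le_finrank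
  rw [Fintype.card_sum, Fintype.card_fin] at this
  omega

/-- extending a hyperbolic family -/
theorem b1_fam_succ [FiniteDimensional K V] (hK : Fintype.card K = q ^ 2) (h2 : (2 : K) ≠ 0)
    (hq2 : Odd q) (hH : IsHermSpace q H) (X : V →ₗ[K] V) (hX : ∀ a b, H (X a) (X b) = H a b)
    (l : K) (hl : l ^ (q + 1) = -1) (hXX : ∀ v, X (X v) = (l * l) • v) {k : ℕ}
    {u v : Fin k → V} (hf : HypFam H X l k u v) (hk : 2 * k < finrank K V) :
    ∃ u' v' : Fin (k + 1) → V, HypFam H X l (k + 1) u' v' := by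
  classical
  have hq0 : q ≠ 0 := by have := two_le_q_of_card hK; omega
  have hsymm : ∀ a b, H a b = 0 → H b a = 0 := herm_symm_zero hq0 hH
  obtain ⟨-, hfr, hinv, hnd⟩ := b1_fam_span hK h2 hq2 hH X hX l hl hf
  set W := Submodule.span K (Set.range (Sum.elim u v)) with hW
  have hWX : ∀ w ∈ W, X w ∈ W := fun w hw => hinv (Submodule.mem_map_of_mem hw)
  have hWnd : ∀ w ∈ W, (∀ y ∈ W, H y w = 0) → w = 0 := by
    intro w hw h0
    by_contra hw0
    obtain ⟨y, hy, hyw⟩ := hnd w hw hw0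
    exact hyw (hsymm _ _ (h0 y hy))
  have hWtop : W ≠ ⊤ := by
    intro htop
    rw [htop, finrank_top] at hfr
    omega
  obtain ⟨a, b, hXa, hXb, hab, horth⟩ :=
    b1_hyp_step hK h2 hq2 hH X hX l hl hXX W hWX hWnd hWtop
  have huW : ∀ i, u i ∈ W := fun i => Submodule.subset_span ⟨Sum.inl i, rfl⟩
  have hvW : ∀ i, v i ∈ W := fun i => Submodule.subset_span ⟨Sum.inr i, rfl⟩
  refine ⟨Fin.snoc u a, Fin.snoc v b, ?_, ?_, ?_⟩
  · intro i
    refine Fin.lastCases ?_ (fun i => ?_) i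
    · simp only [Fin.snoc_last]; exact hXa
    · simp only [Fin.snoc_castSucc]; exact hf.hu i
  · intro i
    refine Fin.lastCases ?_ (fun i => ?_) i
    · simp only [Fin.snoc_last]; exact hXb
    · simp only [Fin.snoc_castSucc]; exact hf.hv i
  · intro i j
    refine Fin.lastCases ?_ (fun i => ?_) i <;> refine Fin.lastCases ?_ (fun j => ?_) j
    · simp only [Fin.snoc_last, if_true]; exact hab
    · simp only [Fin.snoc_last, Fin.snoc_castSucc]
      rw [if_neg (Fin.castSucc_lt_last j).ne']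
      exact (horth _ (hvW j)).1
    · simp only [Fin.snoc_last, Fin.snoc_castSucc]
      rw [if_neg (Fin.castSucc_lt_last i).ne]
      exact (horth _ (huW i)).2.2.2
    · simp only [Fin.snoc_castSucc, Fin.castSucc_inj]
      exact hf.huv i j

/-- hyperbolic families of every admissible size exist -/
theorem b1_hyp_fam [FiniteDimensional K V] (hK : Fintype.card K = q ^ 2) (h2 : (2 : K) ≠ 0)
    (hq2 : Odd q) (hH : IsHermSpace q H) (X : V →ₗ[K] V) (hX : ∀ a b, H (X a) (X b) = H a b)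
    (l : K) (hl : l ^ (q + 1) = -1) (hXX : ∀ v, X (X v) = (l * l) • v) :
    ∀ k : ℕ, 2 * k ≤ finrank K V → ∃ u v : Fin k → V, HypFam H X l k u v := by
  intro k
  induction k with
  | zero =>
    intro _
    exact ⟨Fin.elim0, Fin.elim0, ⟨fun i => i.elim0, fun i => i.elim0, fun i => i.elim0⟩⟩
  | succ k ih =>
    intro hk
    obtain ⟨u, v, hf⟩ := ih (by omega)
    exact b1_fam_succ hK h2 hq2 hH X hX l hl hXX hf (by omega)

/-- in the case `l ^ (q + 1) = -1` the dimension is even -/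
theorem b1_even_finrank [FiniteDimensional K V] (hK : Fintype.card K = q ^ 2) (h2 : (2 : K) ≠ 0)
    (hq2 : Odd q) (hH : IsHermSpace q H) (X : V →ₗ[K] V) (hX : ∀ a b, H (X a) (X b) = H a b)
    (l : K) (hl : l ^ (q + 1) = -1) (hXX : ∀ v, X (X v) = (l * l) • v) :
    Even (finrank K V) := by
  by_contra hodd
  rw [Nat.not_even_iff_odd] at hodd
  obtain ⟨k, hk⟩ := hodd
  obtain ⟨u, v, hf⟩ := b1_hyp_fam hK h2 hq2 hH X hX l hl hXX k (by omega)
  obtain ⟨u', v', hf'⟩ := b1_fam_succ hK h2 hq2 hH X hX l hl hXX hf (by omega)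
  have := b1_fam_le hK h2 hq2 hH X hX l hl hf'
  omega


/-- the determinant in the case `l ^ (q + 1) = -1` -/
theorem b1_det [FiniteDimensional K V] (hK : Fintype.card K = q ^ 2) (h2 : (2 : K) ≠ 0)
    (hq2 : Odd q) (hH : IsHermSpace q H) (X : V →ₗ[K] V) (hX : ∀ a b, H (X a) (X b) = H a b)
    (l : K) (hl : l ^ (q + 1) = -1) (hXX : ∀ v, X (X v) = (l * l) • v) (k : ℕ)
    (hk : finrank K V = 2 * k) : LinearMap.det X = l ^ k * (-l) ^ k := by
  classical
  rcases Nat.eq_zero_or_pos k with rfl | hkpos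
  · rw [pow_zero, pow_zero, mul_one]
    exact LinearMap.det_eq_one_of_finrank_eq_zero (by omega) X
  have : Nonempty (Fin k ⊕ Fin k) := ⟨Sum.inl ⟨0, hkpos⟩⟩
  obtain ⟨u, v, hf⟩ := b1_hyp_fam hK h2 hq2 hH X hX l hl hXX k (by omega)
  obtain ⟨hli, -, -, -⟩ := b1_fam_span hK h2 hq2 hH X hX l hl hf
  have hcard : Fintype.card (Fin k ⊕ Fin k) = finrank K V := by
    rw [Fintype.card_sum, Fintype.card_fin, hk]
    ring
  set b : Basis (Fin k ⊕ Fin k) K V := basisOfLinearIndependentOfCardEqFinrank hli hcard with hb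
  have hbs : ∀ s, b s = Sum.elim u v s := fun s => by
    rw [hb, coe_basisOfLinearIndependentOfCardEqFinrank]
  set c : Fin k ⊕ Fin k → K := Sum.elim (fun _ => l) (fun _ => -l) with hc
  have hXb : ∀ s, X (b s) = c s • b s := by
    rintro (i | i)
    · rw [hbs]; exact hf.hu i
    · rw [hbs]; exact hf.hv i
  have hmat : LinearMap.toMatrix b b X = Matrix.diagonal c := by
    ext s t
    rw [LinearMap.toMatrix_apply, hXb, map_smul, Finsupp.smul_apply, Basis.repr_self,
      Matrix.diagonal_apply, Finsupp.single_apply, smul_eq_mul]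
    by_cases hst : t = s
    · subst hst; simp
    · rw [if_neg hst, if_neg (Ne.symm hst), mul_zero]
  rw [← LinearMap.det_toMatrix b, hmat, Matrix.det_diagonal, Fintype.prod_sum_type]
  simp [hc]

/-- the projection of a vector to an eigenspace -/
theorem b1_eig_vec (X : V →ₗ[K] V) (e : K) (he0 : e ≠ 0) (hXX : ∀ v, X (X v) = (e * e) • v)
    (y : V) : X ((2 : K)⁻¹ • (y + e⁻¹ • X y)) = e • ((2 : K)⁻¹ • (y + e⁻¹ • X y)) := by
  have hee : e⁻¹ * (e * e) = e := by field_simp
  have h1 : X (y + e⁻¹ • X y) = e • (y + e⁻¹ • X y) := by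
    rw [map_add, map_smul, hXX, smul_smul, hee, smul_add, smul_smul, mul_inv_cancel₀ he0,
      one_smul, add_comm]
  rw [map_smul, h1, smul_comm]

/-- the two projections add up to the vector -/
theorem b1_eig_dec (h2 : (2 : K) ≠ 0) (X : V →ₗ[K] V) (e : K) (y : V) :
    y = (2 : K)⁻¹ • (y + e⁻¹ • X y) + (2 : K)⁻¹ • (y + (-e)⁻¹ • X y) := by
  rw [← smul_add]
  have : y + e⁻¹ • X y + (y + (-e)⁻¹ • X y) = (2 : K) • y := by
    rw [inv_neg, neg_smul, two_smul]; abel
  rw [this, smul_smul, inv_mul_cancel₀ h2, one_smul]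

/-- an eigenspace of dimension at least `m` contains an invariant non-degenerate subspace of
dimension `m` (case `l ^ (q + 1) = 1`; `e` is `l` or `-l`) -/
theorem b1_eig_sub [FiniteDimensional K V] (hK : Fintype.card K = q ^ 2) (h2 : (2 : K) ≠ 0)
    (hq2 : Odd q) (hH : IsHermSpace q H) (X : V →ₗ[K] V) (hX : ∀ a b, H (X a) (X b) = H a b)
    (e : K) (he : e ^ (q + 1) = 1) (hXX : ∀ v, X (X v) = (e * e) • v) (m : ℕ)
    (hm : m ≤ finrank K (Module.End.eigenspace X e)) :
    ∃ W : Submodule K V, finrank K W = m ∧ (∀ w ∈ W, w ≠ 0 → ∃ y ∈ W, H w y ≠ 0) ∧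
      W.map X ≤ W := by
  classical
  have hq0 : q ≠ 0 := by have := two_le_q_of_card hK; omega
  have hsymm : ∀ a b, H a b = 0 → H b a = 0 := herm_symm_zero hq0 hH
  have he0 : e ≠ 0 := by
    rintro rfl
    rw [zero_pow (by omega)] at he
    exact zero_ne_one he
  set E := Module.End.eigenspace X e with hE
  have hne : e * (-e) ^ q ≠ 1 := by
    rw [Odd.neg_pow hq2, mul_neg, ← pow_succ', he]
    exact b1_neg_one_ne_one h2
  -- decomposition of a vector
  have hdec : ∀ y : V, ∃ y₁ y₂ : V, X y₁ = e • y₁ ∧ X y₂ = (-e) • y₂ ∧ y = y₁ + y₂ := by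
    intro y
    have hne0 : -e ≠ 0 := neg_ne_zero.2 he0
    have hXXn : ∀ v, X (X v) = ((-e) * (-e)) • v := fun v => by rw [hXX, neg_mul_neg]
    exact ⟨(2 : K)⁻¹ • (y + e⁻¹ • X y), (2 : K)⁻¹ • (y + (-e)⁻¹ • X y),
      b1_eig_vec X e he0 hXX y, b1_eig_vec X (-e) hne0 hXXn y, b1_eig_dec h2 X e y⟩
  have hEnd : ∀ w ∈ E, (∀ y ∈ E, H y w = 0) → w = 0 := by
    intro w hw h0
    apply hH.nondeg
    intro y
    obtain ⟨y₁, y₂, hy₁, hy₂, rfl⟩ := hdec y
    rw [hH.add_left, h0 y₁ (Module.End.mem_eigenspace_iff.2 hy₁)]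
    have hw' : X w = e • w := Module.End.mem_eigenspace_iff.1 hw
    have : H w y₂ = 0 := b1_eig_orth hH X hX e (-e) hne w y₂ hw' hy₂
    rw [hsymm _ _ this, add_zero]
  obtain ⟨hEherm, -, -⟩ := isCompl_hermOrth hK hH E hEnd
  obtain ⟨f, hf⟩ := orthonormal_family hK (finrank K E) E (restrForm H E) hEherm rfl
  set g : Fin m → V := fun i => ((f (Fin.castLE hm i) : E) : V) with hg
  have hgram : ∀ s t, H (g s) (g t) = if s = t then 1 else 0 := by
    intro s t
    have := hf (Fin.castLE hm s) (Fin.castLE hm t)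
    rw [restrForm_apply] at this
    rw [hg, this]
    simp only [Fin.castLE_inj]
  have hgg : ∀ s, g s ∈ Submodule.span K (Set.range g) := fun s => Submodule.subset_span ⟨s, rfl⟩
  obtain ⟨hli, hnd⟩ := b1_gram_dual hH g g hgg hgram
  refine ⟨Submodule.span K (Set.range g), ?_, hnd, ?_⟩
  · rw [finrank_span_eq_card hli, Fintype.card_fin]
  · apply b1_span_invariant X g (fun _ => e)
    intro s
    exact Module.End.mem_eigenspace_iff.1 (f (Fin.castLE hm s)).2

/-- the case `l ^ (q + 1) = 1` -/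
theorem b1_plus [FiniteDimensional K V] (hK : Fintype.card K = q ^ 2) (h2 : (2 : K) ≠ 0)
    (hq2 : Odd q) (hH : IsHermSpace q H) (X : V →ₗ[K] V) (hX : ∀ a b, H (X a) (X b) = H a b)
    (l : K) (hl : l ^ (q + 1) = 1) (hXX : ∀ v, X (X v) = (l * l) • v) (m : ℕ)
    (hm : 2 * m ≤ finrank K V) :
    ∃ W : Submodule K V, finrank K W = m ∧ (∀ w ∈ W, w ≠ 0 → ∃ y ∈ W, H w y ≠ 0) ∧
      W.map X ≤ W := by
  classical
  have hl0 : l ≠ 0 := by
    rintro rfl
    rw [zero_pow (by omega)] at hl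
    exact zero_ne_one hl
  have hl' : (-l) ^ (q + 1) = 1 := by
    rw [Even.neg_pow (by obtain ⟨j, hj⟩ := hq2; exact ⟨j + 1, by omega⟩), hl]
  have hXX' : ∀ v, X (X v) = ((-l) * (-l)) • v := by
    intro v
    rw [hXX, neg_mul_neg]
  have hsup : Module.End.eigenspace X l ⊔ Module.End.eigenspace X (-l) = ⊤ := by
    rw [eq_top_iff]
    intro y _
    have hnl0 : -l ≠ 0 := neg_ne_zero.2 hl0
    rw [b1_eig_dec h2 X l y]
    apply Submodule.add_mem_sup
    · exact Module.End.mem_eigenspace_iff.2 (b1_eig_vec X l hl0 hXX y)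
    · exact Module.End.mem_eigenspace_iff.2 (b1_eig_vec X (-l) hnl0 hXX' y)
  have hdim := Submodule.finrank_sup_add_finrank_inf_eq (Module.End.eigenspace X l)
    (Module.End.eigenspace X (-l))
  rw [hsup, finrank_top] at hdim
  by_cases h : m ≤ finrank K (Module.End.eigenspace X l)
  · exact b1_eig_sub hK h2 hq2 hH X hX l hl hXX m h
  · exact b1_eig_sub hK h2 hq2 hH X hX (-l) hl' hXX' m (by omega)


end Cfsg.Agent.Lib.Helper31.UndB
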