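import Mathlib
import Cfsg.Agent.Lib.Helper44.HermUnipotent
import Cfsg.Agent.Lib.Helper31.UndB1

/-!
# S5954 (Und hive, helper31): the case `r = 2 ≠ p`

Elements of `SU_n(q)` whose square is scalar, in odd characteristic: when do they fix a
non-degenerate subspace of dimension `m`?
-/

set_option autoImplicit false
set_option linter.unusedSectionVars false

namespace Cfsg.Agent.Lib.Helper31.UndB

open Module Cfsg.Agent.Lib.Helper44 Cfsg.Agent.Lib.Helper44.HU

/-- arithmetic: `l ^ (q + 1) = -1` and determinant one are incompatible when `q ≡ 3 mod 4` and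
`v₂(n) ≤ v₂(q + 1)` -/
theorem b2_ar1 {F : Type*} [Field F] (h2 : (2 : F) ≠ 0) {q : ℕ} (l : F) (hl : l ^ (q + 1) = -1)
    (k : ℕ) (hk : k ≠ 0) (hdet : l ^ k * (-l) ^ k = 1) (hq4 : q % 4 = 3)
    (hv : padicValNat 2 (k + k) ≤ padicValNat 2 (q + 1)) : False := by
  obtain ⟨v, e, he, hqe⟩ := Nat.exists_eq_two_pow_mul_odd (n := q + 1) (by omega)
  have he0 : e ≠ 0 := by
    rintro rfl
    simp at he
  have hvv : padicValNat 2 (q + 1) = v := by
    rw [hqe, padicValNat.mul (by positivity) he0, padicValNat.prime_pow,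
      padicValNat.eq_zero_of_not_dvd (Nat.two_dvd_ne_zero.2 (Nat.odd_iff.1 he)), add_zero]
  have hv2 : 2 ≤ v := by
    have h4 : 2 ^ 2 ∣ q + 1 := Nat.dvd_of_mod_eq_zero (by omega)
    rw [← hvv]
    exact (padicValNat_dvd_iff_le (by omega)).1 h4
  obtain ⟨μ, hμdef⟩ : ∃ μ : F, μ = l ^ e := ⟨_, rfl⟩
  have hμ : μ ^ (2 ^ v) = -1 := by rw [hμdef, ← pow_mul, mul_comm, ← hqe, hl]
  have hord : orderOf μ = 2 ^ (v + 1) := by
    apply orderOf_eq_prime_pow
    · rw [hμ]
      intro h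
      apply h2
      have : (2 : F) = 1 - (-1) := by ring
      rw [this, h, sub_self]
    · rw [pow_succ, pow_mul, hμ]
      norm_num
  have hl4 : l ^ (2 * (k + k)) = 1 := by
    have h1 : (l ^ k * (-l) ^ k) ^ 2 = 1 := by rw [hdet, one_pow]
    rw [← h1, mul_pow, ← pow_mul, ← pow_mul, mul_comm k 2, pow_mul (-l), neg_sq, ← pow_mul,
      ← pow_add]
    congr 1
    ring
  have hμ2 : μ ^ (2 * (k + k)) = 1 := by
    rw [hμdef, ← pow_mul, mul_comm, pow_mul, hl4, one_pow]
  have hd1 : 2 ^ (v + 1) ∣ 2 * (k + k) := by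
    rw [← hord]
    exact orderOf_dvd_of_pow_eq_one hμ2
  have hd2 : 2 ^ v ∣ k + k := by
    rw [pow_succ'] at hd1
    exact Nat.dvd_of_mul_dvd_mul_left (by norm_num) hd1
  have hkev : Even k := by
    have h4 : 2 ^ 2 ∣ k + k := (pow_dvd_pow 2 hv2).trans hd2
    obtain ⟨t, ht⟩ := h4
    exact ⟨t, by omega⟩
  have hl1 : l ^ (k + k) = 1 := by
    rw [pow_add]
    rwa [Even.neg_pow hkev] at hdet
  have hμ1 : μ ^ (k + k) = 1 := by
    rw [hμdef, ← pow_mul, mul_comm, pow_mul, hl1, one_pow]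
  have hd3 : 2 ^ (v + 1) ∣ k + k := by
    rw [← hord]
    exact orderOf_dvd_of_pow_eq_one hμ1
  have := (padicValNat_dvd_iff_le (by omega)).1 hd3
  omega

/-- arithmetic: existence of `l` with `l ^ (q + 1) = -1` and `(-(l * l)) ^ k = 1` -/
theorem b2_ar2 {F : Type*} [Field F] [Fintype F] {q : ℕ} (hK : Fintype.card F = q ^ 2)
    (hq2 : Odd q) (k : ℕ) (hk : k ≠ 0)
    (hc : ¬ (padicValNat 2 (k + k) ≤ padicValNat 2 (q + 1) ∧ q % 4 = 3)) :
    ∃ l : F, l ^ (q + 1) = -1 ∧ (-(l * l)) ^ k = 1 := by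
  have hqmod : q % 4 = 1 ∨ q % 4 = 3 := by
    have := Nat.odd_iff.1 hq2
    omega
  rcases hqmod with h1 | h3
  · -- a square root of `-1`
    have hsq : IsSquare (-1 : F) := by
      rw [FiniteField.isSquare_neg_one_iff, hK, Nat.pow_mod, h1]
      norm_num
    obtain ⟨l, hl⟩ := hsq
    refine ⟨l, ?_, ?_⟩
    · obtain ⟨t, ht⟩ : ∃ t, q = 4 * t + 1 := ⟨q / 4, by omega⟩
      have : q + 1 = 2 * (2 * t + 1) := by omega
      rw [this, pow_mul, pow_two, ← hl, Odd.neg_one_pow ⟨t, rfl⟩]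
    · rw [← hl, neg_neg, one_pow]
  · have hlt : padicValNat 2 (q + 1) < padicValNat 2 (k + k) := by
      by_contra hcon
      exact hc ⟨by omega, h3⟩
    obtain ⟨a, ha⟩ := exists_norm_eq hK (-1 : F) (neg_ne_zero.2 one_ne_zero) (Odd.neg_one_pow hq2)
    obtain ⟨v, e, he, hqe⟩ := Nat.exists_eq_two_pow_mul_odd (n := q + 1) (by omega)
    have he0 : e ≠ 0 := by
      rintro rfl
      simp at he
    have hvv : padicValNat 2 (q + 1) = v := by
      rw [hqe, padicValNat.mul (by positivity) he0, padicValNat.prime_pow,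
        padicValNat.eq_zero_of_not_dvd (Nat.two_dvd_ne_zero.2 (Nat.odd_iff.1 he)), add_zero]
    have hv1 : 1 ≤ v := by
      have h4 : 2 ^ 1 ∣ q + 1 := Nat.dvd_of_mod_eq_zero (by omega)
      rw [← hvv]
      exact (padicValNat_dvd_iff_le (by omega)).1 h4
    have hd : 2 ^ (v + 1) ∣ k + k := by
      apply (padicValNat_dvd_iff_le (by omega)).2
      omega
    obtain ⟨t, ht⟩ := hd
    have hkev : Even k := by
      have h4 : 2 ^ 2 ∣ k + k := (pow_dvd_pow 2 (by omega : 2 ≤ v + 1)).trans ⟨t, ht⟩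
      obtain ⟨s, hs⟩ := h4
      exact ⟨s, by omega⟩
    refine ⟨a ^ e, ?_, ?_⟩
    · rw [← pow_mul, mul_comm, pow_mul, ha, Odd.neg_one_pow he]
    · rw [Even.neg_pow hkev, ← pow_two, ← pow_mul, ← pow_mul]
      have : e * (2 * k) = (q + 1) * (2 * t) := by
        rw [hqe]
        have : 2 * k = 2 ^ (v + 1) * t := by omega
        rw [this, pow_succ]
        ring
      rw [this, pow_mul, ha, pow_mul, neg_one_sq, one_pow]

/-- odd characteristic: `2 ≠ 0` and `q` is odd -/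
theorem b2_setup {F : Type*} [Field F] [Fintype F] {p : ℕ} [Fact p.Prime] [CharP F p] {q : ℕ}
    (hq : Fintype.card F = q ^ 2) (hp2 : p ≠ 2) : ringChar F ≠ 2 ∧ (2 : F) ≠ 0 ∧ Odd q := by
  have hr : ringChar F ≠ 2 := by
    rw [ringChar.eq F p]
    exact hp2
  refine ⟨hr, Ring.two_ne_zero hr, ?_⟩
  have h1 := FiniteField.odd_card_of_char_ne_two hr
  rw [hq] at h1
  have h : Odd (q ^ 2) := Nat.odd_iff.2 h1
  by_contra hcon
  rw [Nat.not_odd_iff_even] at hcon
  exact (Nat.not_odd_iff_even.2 (Nat.even_pow.2 ⟨hcon, two_ne_zero⟩ : Even (q ^ 2))) h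

/-- **Case `r = 2 ≠ p`, positive part**: an element of `SU_n(q)` with scalar square fixes a
non-degenerate `m`-space, unless `n` is even, `m` is odd and the arithmetic condition fails. -/
theorem two_fix {F : Type*} [Field F] [Fintype F] {p : ℕ} [Fact p.Prime] [CharP F p] {q : ℕ}
    (hq : Fintype.card F = q ^ 2) (hp2 : p ≠ 2) (n m : ℕ) (hm : 1 ≤ m) (hmn : 2 * m < n)
    (hc : Odd n ∨ Even m ∨ (padicValNat 2 n ≤ padicValNat 2 (q + 1) ∧ q % 4 = 3))
    (x : Matrix.SpecialLinearGroup (Fin n) F) (hx : x ∈ Cfsg.SU n F q)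
    (hx2 : ∃ z : F, ((x ^ 2 : Matrix.SpecialLinearGroup (Fin n) F) : Matrix (Fin n) (Fin n) F) =
      z • (1 : Matrix (Fin n) (Fin n) F)) :
    ∃ W : Submodule F (Fin n → F), Module.finrank F ↥W = m ∧
      (∀ u ∈ W, u ≠ 0 → ∃ v ∈ W, Cfsg.hermForm n F q u v ≠ 0) ∧
      W.map (Matrix.toLin' (x : Matrix (Fin n) (Fin n) F)) ≤ W := by
  classical
  obtain ⟨hr, h2, hq2⟩ := b2_setup hq hp2
  have hH := isHermSpace_std hq n
  obtain ⟨X, hXdef⟩ : ∃ X : (Fin n → F) →ₗ[F] (Fin n → F),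
    X = Matrix.toLin' (x : Matrix (Fin n) (Fin n) F) := ⟨_, rfl⟩
  have hXa : ∀ a, X a = (x : Matrix (Fin n) (Fin n) F).mulVec a := fun a => by
    rw [hXdef, Matrix.toLin'_apply]
  have hX : ∀ a b, Cfsg.hermForm n F q (X a) (X b) = Cfsg.hermForm n F q a b := by
    intro a b
    rw [hXa, hXa]
    exact hx a b
  obtain ⟨z, hz⟩ := hx2
  have hXXz : ∀ v, X (X v) = z • v := by
    intro v
    rw [hXa, hXa, Matrix.mulVec_mulVec, ← pow_two, ← Matrix.SpecialLinearGroup.coe_pow, hz,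
      Matrix.smul_mulVec, Matrix.one_mulVec]
  have hn0 : 0 < n := by omega
  have hz1 : z ^ (q + 1) = 1 := by
    have he : (Pi.single (⟨0, hn0⟩ : Fin n) (1 : F) : Fin n → F) ≠ 0 := by
      intro h
      have := congrFun h ⟨0, hn0⟩
      simp at this
    by_contra hne
    apply he
    apply hH.nondeg
    intro u
    have h1 := hX (X u) (X (Pi.single (⟨0, hn0⟩ : Fin n) (1 : F)))
    rw [hXXz, hXXz, hX, hH.smul_left, hH.smul_right] at h1
    have h3 : (z ^ (q + 1) - 1) * Cfsg.hermForm n F q u (Pi.single (⟨0, hn0⟩ : Fin n) (1 : F)) = 0 := by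
      rw [pow_succ']
      linear_combination h1
    rcases mul_eq_zero.1 h3 with h | h
    · exact absurd (sub_eq_zero.1 h) hne
    · exact h
  have hz0 : z ≠ 0 := by
    rintro rfl
    rw [zero_pow (by omega)] at hz1
    exact zero_ne_one hz1
  have hsq : IsSquare z := by
    rw [FiniteField.isSquare_iff hr hz0, hq]
    obtain ⟨j, hj⟩ := hq2
    have h1 : q ^ 2 / 2 = (q + 1) * j := by
      have : q ^ 2 = 2 * ((q + 1) * j) + 1 := by
        rw [hj]
        ring
      omega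
    rw [h1, pow_mul, hz1, one_pow]
  obtain ⟨l, hl⟩ := hsq
  have hXX : ∀ v, X (X v) = (l * l) • v := by
    intro v
    rw [hXXz, hl]
  have hl2 : l ^ (q + 1) = 1 ∨ l ^ (q + 1) = -1 := by
    apply mul_self_eq_one_iff.1
    rw [← mul_pow, ← hl, hz1]
  have hfr : finrank F (Fin n → F) = n := Module.finrank_fin_fun F
  rw [← hXdef]
  rcases hl2 with hl1 | hl1
  · exact b1_plus hq h2 hq2 hH X hX l hl1 hXX m (by rw [hfr]; omega)
  · have hev := b1_even_finrank hq h2 hq2 hH X hX l hl1 hXX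
    rw [hfr] at hev
    have hmev : Even m := by
      rcases hc with hc | hc | ⟨hc1, hc2⟩
      · exact absurd hev (Nat.not_even_iff_odd.2 hc)
      · exact hc
      · exfalso
        obtain ⟨k, hk⟩ := hev
        have hdet := b1_det hq h2 hq2 hH X hX l hl1 hXX k (by rw [hfr]; omega)
        rw [hXdef, LinearMap.det_toLin', x.det_coe] at hdet
        rw [hk] at hc1
        exact b2_ar1 h2 l hl1 k (by omega) hdet.symm hc2 hc1
    obtain ⟨j, hj⟩ := hmev
    obtain ⟨u, v, hf⟩ := b1_hyp_fam hq h2 hq2 hH X hX l hl1 hXX j (by rw [hfr]; omega)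
    obtain ⟨-, hdim, hinv, hnd⟩ := b1_fam_span hq h2 hq2 hH X hX l hl1 hf
    exact ⟨_, by rw [hdim]; omega, hnd, hinv⟩

/-- **Case `r = 2 ≠ p`, negative part**: when `n` is even, `m` is odd and the arithmetic
condition fails, some non-scalar element of `SU_n(q)` with scalar square fixes no non-degenerate
`m`-space. -/
theorem two_bad {F : Type*} [Field F] [Fintype F] {p : ℕ} [Fact p.Prime] [CharP F p] {q : ℕ}
    (hq : Fintype.card F = q ^ 2) (hp2 : p ≠ 2) (n m : ℕ) (hm : 1 ≤ m) (hmn : 2 * m < n)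
    (hn2 : Even n) (hm2 : Odd m)
    (hc : ¬ (padicValNat 2 n ≤ padicValNat 2 (q + 1) ∧ q % 4 = 3)) :
    ∃ x : Matrix.SpecialLinearGroup (Fin n) F, x ∈ Cfsg.SU n F q ∧
      (∃ z : F, ((x ^ 2 : Matrix.SpecialLinearGroup (Fin n) F) : Matrix (Fin n) (Fin n) F) =
        z • (1 : Matrix (Fin n) (Fin n) F)) ∧
      (∀ z : F, (x : Matrix (Fin n) (Fin n) F) ≠ z • (1 : Matrix (Fin n) (Fin n) F)) ∧
      ¬ ∃ W : Submodule F (Fin n → F), Module.finrank F ↥W = m ∧
        (∀ u ∈ W, u ≠ 0 → ∃ v ∈ W, Cfsg.hermForm n F q u v ≠ 0) ∧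
        W.map (Matrix.toLin' (x : Matrix (Fin n) (Fin n) F)) ≤ W := by
  classical
  obtain ⟨hr, h2, hq2⟩ := b2_setup hq hp2
  obtain ⟨k, hk⟩ := hn2
  have hk0 : k ≠ 0 := by omega
  obtain ⟨l, hl, hdet⟩ := b2_ar2 hq hq2 k hk0 (by rwa [hk] at hc)
  have hH := isHermSpace_std hq n
  have hq0 : q ≠ 0 := by have := two_le_q_of_card hq; omega
  -- the coefficients
  obtain ⟨c, hcdef⟩ : ∃ c : Fin n → F, c = fun i => if i.val < k then 1 else l * l := ⟨_, rfl⟩
  have hc1 : ∀ i, c i ^ (q + 1) = 1 := by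
    intro i
    rw [hcdef]
    dsimp only
    split_ifs
    · exact one_pow _
    · rw [mul_pow, hl]
      norm_num
  have hcc : ∀ i, c i * c (Fin.rev i) = l * l := by
    intro i
    rw [hcdef]
    dsimp only
    have hi := i.2
    rw [Fin.val_rev]
    split_ifs with h1 h3 h3
    · omega
    · rw [one_mul]
    · rw [mul_one]
    · omega
  have hc0 : ∀ i, c i ≠ 0 := by
    intro i h
    have := hc1 i
    rw [h, zero_pow (by omega)] at this
    exact zero_ne_one this
  -- the matrix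
  obtain ⟨M, hMdef⟩ : ∃ M : Matrix (Fin n) (Fin n) F,
    M = Matrix.of fun i j => if j = Fin.rev i then c i else 0 := ⟨_, rfl⟩
  have hMv : ∀ v i, (M.mulVec v) i = c i * v (Fin.rev i) := by
    intro v i
    rw [hMdef, Matrix.mulVec, dotProduct]
    simp [ite_mul]
  have hMherm : ∀ u v, Cfsg.hermForm n F q (M.mulVec u) (M.mulVec v) = Cfsg.hermForm n F q u v := by
    intro u v
    unfold Cfsg.hermForm
    rw [← Equiv.sum_comp Fin.revPerm (fun i => u i * v i ^ q)]
    apply Finset.sum_congr rfl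
    intro i _
    rw [hMv, hMv, mul_pow, Fin.revPerm_apply]
    have := hc1 i
    rw [pow_succ'] at this
    linear_combination (u (Fin.rev i) * v (Fin.rev i) ^ q) * this
  have hMM : ∀ v, M.mulVec (M.mulVec v) = (l * l) • v := by
    intro v
    ext i
    rw [hMv, hMv, Fin.rev_rev, ← mul_assoc, hcc]
    rfl
  have hXherm : ∀ a b, Cfsg.hermForm n F q (Matrix.toLin' M a) (Matrix.toLin' M b) =
      Cfsg.hermForm n F q a b := fun a b => by
    rw [Matrix.toLin'_apply, Matrix.toLin'_apply]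
    exact hMherm a b
  have hXX : ∀ v, Matrix.toLin' M (Matrix.toLin' M v) = (l * l) • v := fun v => by
    rw [Matrix.toLin'_apply, Matrix.toLin'_apply]
    exact hMM v
  have hfr : finrank F (Fin n → F) = n := Module.finrank_fin_fun F
  have hdetM : M.det = 1 := by
    rw [← LinearMap.det_toLin', b1_det hq h2 hq2 hH (Matrix.toLin' M) hXherm l hl hXX k
      (by rw [hfr]; omega), ← mul_pow, mul_neg, hdet]
  obtain ⟨x, hxM⟩ : ∃ x : Matrix.SpecialLinearGroup (Fin n) F,
    (x : Matrix (Fin n) (Fin n) F) = M := ⟨⟨M, hdetM⟩, rfl⟩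
  refine ⟨x, ?_, ⟨l * l, ?_⟩, ?_, ?_⟩
  · intro u v
    show Cfsg.hermForm n F q ((x : Matrix (Fin n) (Fin n) F).mulVec u)
      ((x : Matrix (Fin n) (Fin n) F).mulVec v) = _
    rw [hxM]
    exact hMherm u v
  · rw [Matrix.SpecialLinearGroup.coe_pow, hxM]
    apply Matrix.toLin'.injective
    apply LinearMap.ext
    intro v
    rw [Matrix.toLin'_apply, pow_two, ← Matrix.mulVec_mulVec, hMM, Matrix.toLin'_apply,
      Matrix.smul_mulVec, Matrix.one_mulVec]
  · intro z hz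
    have hz' : M = z • (1 : Matrix (Fin n) (Fin n) F) := by rw [← hxM, hz]
    have hi : (⟨0, by omega⟩ : Fin n) ≠ Fin.rev ⟨0, by omega⟩ := by
      intro h
      have := congrArg Fin.val h
      rw [Fin.val_rev] at this
      simp only at this
      omega
    have h1 := congrFun (congrFun hz' ⟨0, by omega⟩) (Fin.rev ⟨0, by omega⟩)
    rw [hMdef, Matrix.of_apply, if_pos rfl, Matrix.smul_apply, Matrix.one_apply_ne hi,
      smul_zero] at h1
    exact hc0 _ h1
  · rw [hxM]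
    rintro ⟨W, hWm, hWnd, hWinv⟩
    have hWinv' : ∀ w ∈ W, Matrix.toLin' M w ∈ W := fun w hw =>
      hWinv (Submodule.mem_map_of_mem hw)
    have hW : ∀ w ∈ W, (∀ u ∈ W, Cfsg.hermForm n F q u w = 0) → w = 0 := by
      intro w hw h0
      by_contra hw0
      obtain ⟨y, hy, hwy⟩ := hWnd w hw hw0
      exact hwy (herm_symm_zero hq0 hH _ _ (h0 y hy))
    obtain ⟨hWherm, -, -⟩ := isCompl_hermOrth hq hH W hW
    have hev := b1_even_finrank hq h2 hq2 hWherm ((Matrix.toLin' M).restrict hWinv')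
      (fun a b => by
        rw [restrForm_apply, restrForm_apply, LinearMap.coe_restrict_apply,
          LinearMap.coe_restrict_apply]
        exact hXherm a b) l hl
      (fun v => by
        apply Subtype.ext
        rw [LinearMap.coe_restrict_apply, LinearMap.coe_restrict_apply, hXX]
        rfl)
    rw [hWm] at hev
    exact (Nat.not_even_iff_odd.2 hm2) hev

end Cfsg.Agent.Lib.Helper31.UndB
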